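import Groth.Agent.FGA29.IntNumPush
import Groth.Agent.Amp73.Gen
import Groth.Agent.Stein58.FinitePoints
import Groth.Agent.Var76.FibreBound

/-! Positivity of intersection symbols of ample modules. -/

set_option autoImplicit false
set_option backward.isDefEq.respectTransparency.types false
set_option linter.style.haveILetI false
universe u

open CategoryTheory CategoryTheory.Limits AlgebraicGeometry TopologicalSpace IsLocalRing

noncomputable section

namespace Groth.Agent.FGA29

open Var76.LineBundle Var76.ZeroScheme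

variable {X : Scheme.{u}}

/-- The value of a global section in a fibre. -/
def fibreVal (L : X.Modules) (s : Coh.structureModule X ⟶ L) (ξ : X) : Cyc.secFibre L ξ :=
  Submodule.Quotient.mk (L.presheaf.germ ⊤ ξ trivial (val L s ⊤))

theorem germ_val {L : X.Modules} (s : Coh.structureModule X ⟶ L) {U : X.Opens} {e : Γ(L, U)}
    {c : Γ(X, U)} (hc : c • e = val L s U) {x : X} (hx : x ∈ U) :
    L.presheaf.germ ⊤ x trivial (val L s ⊤) =
      (show X.presheaf.stalk x from X.presheaf.germ U x hx c) • L.presheaf.germ U x hx e := by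
  have h : L.presheaf.germ U x hx (val L s U) = L.presheaf.germ ⊤ x trivial (val L s ⊤) := by
    rw [← res_val L s (le_top : U ≤ ⊤)]
    exact QC70.germM_res (M := L) (le_top : U ≤ ⊤) hx (val L s ⊤)
  rw [← h, ← hc]
  exact QC70.germM_smul (M := L) hx c e

theorem mem_genLocus_iff {L : X.Modules} (s : Coh.structureModule X ⟶ L) {U : X.Opens}
    {e : Γ(L, U)} (he : IsFrame L U e) {c : Γ(X, U)} (hc : c • e = val L s U) {x : X} (hx : x ∈ U) :
    x ∈ CohB1.genLocus L s ↔ IsUnit (X.presheaf.germ U x hx c) := by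
  rw [← X.mem_basicOpen c x hx, ← Amp73.genLocus_inf_eq_basicOpen s he hc]
  exact ⟨fun h => ⟨h, hx⟩, fun h => h.1⟩

theorem fibreVal_ne_zero {L : X.Modules} (hL : PicF.IsInvertible L) {s : Coh.structureModule X ⟶ L}
    {ξ : X} (h : ξ ∈ CohB1.genLocus L s) : fibreVal L s ξ ≠ 0 := by
  obtain ⟨U, hxU, e, he⟩ := Mero90.exists_frame' hL ξ
  obtain ⟨c, hc⟩ := Amp73.exists_coord s he
  have hu := (mem_genLocus_iff s he hc hxU).1 h
  rw [fibreVal, germ_val s hc hxU, Submodule.Quotient.mk_smul]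
  exact fun h0 => Cyc90.mk_germ_frame_ne_zero he hxU (hu.smul_eq_zero.1 h0)

variable {δ : X → ℤ} (hX : Cyc.IsSetup X δ)
include hX

/-- The order of a global section is nonnegative, positive where the section vanishes. -/
theorem secDivFun_fibreVal {L : X.Modules} (hL : PicF.IsInvertible L) {s : Coh.structureModule X ⟶ L}
    {ξ : X} (hξ : ξ ∈ CohB1.genLocus L s) (x : X) :
    0 ≤ Cyc.secDivFun δ L ξ (fibreVal L s ξ) x ∧
      (ξ ⤳ x → δ x + 1 = δ ξ → x ∉ CohB1.genLocus L s →
        0 < Cyc.secDivFun δ L ξ (fibreVal L s ξ) x) := by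
  by_cases h : ξ ⤳ x ∧ δ x + 1 = δ ξ
  swap
  · refine ⟨?_, fun h1 h2 => absurd ⟨h1, h2⟩ h⟩
    rw [Cyc.secDivFun, dif_neg h]
  have := hX.1
  obtain ⟨U, hxU, e, he⟩ := Mero90.exists_frame' hL x
  obtain ⟨c, hc⟩ := Amp73.exists_coord s he
  have hξU : ξ ∈ U := h.1.mem_open U.2 hxU
  have hne := fibreVal_ne_zero hL hξ
  let a : X.presheaf.stalk x := X.presheaf.germ U x hxU c
  have hval : fibreVal L s ξ = (X.presheaf.germ U ξ hξU c) •
      (Submodule.Quotient.mk ((L.presheaf.stalkSpecializes h.1) (L.presheaf.germ U x hxU e)) :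
        Cyc.secFibre L ξ) := by
    rw [fibreVal, germ_val s hc hξU, Submodule.Quotient.mk_smul,
      TopCat.Presheaf.germ_stalkSpecializes_apply]
  have hord : Cyc.secDivFun δ L ξ (fibreVal L s ξ) x = Cyc.ordAt x ξ h.1 (Cyc.specMap x ξ h.1 a) := by
    rw [Cyc.secDivFun, dif_pos h, Cyc90.secOrdAt_eq L hX h.1 h.2 _ hne _ (Cyc90.span_germ_frame he hxU) _ hval]
    refine congrArg (Cyc.ordAt x ξ h.1) ?_
    show X.residue ξ _ = X.residue ξ (X.presheaf.stalkSpecializes h.1 a)
    rw [TopCat.Presheaf.germ_stalkSpecializes_apply]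
  have h1 : ringKrullDim (Cyc.LocQuot x ξ h.1) ≤ 1 :=
    Cyc90.ringKrullDim_locQuot_le_one _ fun w a b => Cyc90.immediate hX.2.2 h.1 h.2 a b
  have := Cyc90.krullDimLE_one h1
  have h0 : Ideal.Quotient.mk (RingHom.ker (Cyc.specMap x ξ h.1)) a ≠ 0 := fun e0 => by
    have : X.residue ξ (X.presheaf.germ U ξ hξU c) = 0 := by
      have h2 := RingHom.mem_ker.1 (Ideal.Quotient.eq_zero_iff_mem.1 e0)
      rw [← h2]
      show X.residue ξ _ = X.residue ξ (X.presheaf.stalkSpecializes h.1 a)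
      rw [TopCat.Presheaf.germ_stalkSpecializes_apply]
    exact hne (by rw [hval, Cyc90.smul_mk_eq_zero L this])
  have hD : Cyc.secDivFun δ L ξ (fibreVal L s ξ) x =
      ((Ring.ord (Cyc.LocQuot x ξ h.1) (Ideal.Quotient.mk _ a)).toNat : ℤ) := by
    rw [hord, Cyc.ordAt, show Cyc.specMap x ξ h.1 a = algebraMap (Cyc.LocQuot x ξ h.1) _
      (Ideal.Quotient.mk _ a) from rfl, Len90.ordFrac_algebraMap _ h0]
  refine ⟨hD ▸ Int.natCast_nonneg _, fun _ _ hx => ?_⟩
  have hnu : ¬ IsUnit a := fun hu => hx ((mem_genLocus_iff s he hc hxU).2 hu)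
  rw [hD]
  refine Int.natCast_pos.2 (Nat.pos_of_ne_zero fun hz => ?_)
  rcases (ENat.toNat_eq_zero).1 hz with hz | hz
  · have hs : Subsingleton (Cyc.LocQuot x ξ h.1 ⧸ Ideal.span {Ideal.Quotient.mk _ a}) :=
      Module.length_eq_zero_iff.1 hz
    rw [Ideal.Quotient.subsingleton_iff, Ideal.span_singleton_eq_top] at hs
    have : IsLocalHom (Ideal.Quotient.mk (RingHom.ker (Cyc.specMap x ξ h.1))) :=
      IsLocalHom.of_surjective _ Ideal.Quotient.mk_surjective
    exact hnu (isUnit_of_map_unit _ _ hs)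
  · exact Len90.ord_ne_top h0 hz

variable (k : Type u) [Field k] [X.Over (Spec (CommRingCat.of k))]
  [IsProper (X ↘ Spec (CommRingCat.of k))]

omit hX in
theorem exists_mem_closure_notMem (hδ : Cyc.DeltaCompat (X ↘ Spec (CommRingCat.of k)) δ (fun _ => 0))
    {ξ : X} (hξ : δ ξ ≠ 0) {U : X.Opens} (hU : IsAffineOpen U) :
    ∃ z, ξ ⤳ z ∧ z ∉ U := by
  by_contra hcon
  push Not at hcon
  have hsub : Set.range (Cyc90.clι ξ) ⊆ Set.range U.ι := by
    rw [Cyc90.range_clι, Scheme.Opens.range_ι]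
    exact fun z hz => hcon z (specializes_iff_mem_closure.2 hz)
  let l : Cyc90.cl ξ ⟶ U := IsOpenImmersion.lift U.ι (Cyc90.clι ξ) hsub
  have hl : l ≫ U.ι = Cyc90.clι ξ := IsOpenImmersion.lift_fac _ _ _
  have : IsClosedImmersion l := by
    have : IsClosedImmersion (l ≫ U.ι) := by rw [hl]; infer_instance
    exact IsClosedImmersion.of_comp l U.ι
  have : IsAffine (U : Scheme.{u}) := hU
  have : IsAffine (Cyc90.cl ξ) := isAffine_of_isAffineHom l
  let c := Cyc90.clι ξ ≫ (X ↘ Spec (CommRingCat.of k))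
  have : IsFinite c := (IsFinite.iff_isProper_and_isAffineHom (f := c)).2 ⟨inferInstance, inferInstance⟩
  have := Stein58.discreteTopology_of_isFinite c
  have hcl : IsClosed ({ξ} : Set X) := by
    rw [← Cyc90.clι_genericPoint ξ, ← Set.image_singleton]
    exact (Cyc90.clι ξ).isClosedEmbedding.isClosedMap _ (isClosed_discrete _)
  exact hξ (Cyc90.Dev.delta_eq_zero_of_isClosed hδ hcl)

/-- A global section nonzero at `ξ` with affine generating locus vanishes in codimension one. -/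
theorem exists_codim_one_zero (hδ : Cyc.DeltaCompat (X ↘ Spec (CommRingCat.of k)) δ (fun _ => 0))
    {L : X.Modules} (hL : PicF.IsInvertible L) {s : Coh.structureModule X ⟶ L} {ξ : X}
    (hξ : ξ ∈ CohB1.genLocus L s) (haff : IsAffineOpen (CohB1.genLocus L s)) (hd : δ ξ ≠ 0) :
    ∃ x, ξ ⤳ x ∧ δ x + 1 = δ ξ ∧ x ∉ CohB1.genLocus L s := by
  obtain ⟨z, hz, hzU⟩ := exists_mem_closure_notMem k hδ hd haff
  obtain ⟨m, ⟨x, hx, hxU, rfl⟩, hmax⟩ := Int.exists_greatest_of_bdd
    (P := fun m => ∃ x, ξ ⤳ x ∧ x ∉ CohB1.genLocus L s ∧ δ x = m)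
    ⟨δ ξ, fun m ⟨y, hy, _, e⟩ => e ▸ Cyc90.delta_le hX.2.2 hy⟩ ⟨δ z, z, hz, hzU, rfl⟩
  refine ⟨x, hx, ?_, hxU⟩
  have := hX.1
  obtain ⟨U, hU, e, he⟩ := Mero90.exists_frame' hL x
  obtain ⟨c, hc⟩ := Amp73.exists_coord s he
  let a : X.presheaf.stalk x := X.presheaf.germ U x hU c
  have hnu : ¬ IsUnit a := fun h => hxU ((mem_genLocus_iff s he hc hU).2 h)
  have hgen : ∀ q : PrimeSpectrum (X.presheaf.stalk x), Cyc90.genPrime hx ≤ q → a ∈ q.asIdeal →
      q = IsLocalRing.closedPoint (X.presheaf.stalk x) := by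
    intro q hq ha
    have hy : Cyc90.ptOf q ⤳ x := Cyc90.fromSpecStalk_specializes q
    have hξy : ξ ⤳ Cyc90.ptOf q := by
      have := Cyc90.ptOf_specializes_of_le hq
      rwa [Cyc90.ptOf_genPrime] at this
    have hgp : Cyc90.genPrime hy = q := Cyc90.genPrime_fromSpecStalk q
    have hyU : Cyc90.ptOf q ∉ CohB1.genLocus L s := fun h => by
      have hu := (mem_genLocus_iff s he hc (hy.mem_open U.2 hU)).1 h
      have h2 : a ∈ RingHom.ker (Cyc.specMap x (Cyc90.ptOf q) hy) := by
        rw [Cyc90.ker_specMap, hgp]; exact ha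
      rw [RingHom.mem_ker] at h2
      refine (IsLocalRing.residue_ne_zero_iff_isUnit _).2 hu ?_
      refine Eq.trans ?_ h2
      show X.residue _ _ = X.residue _ (X.presheaf.stalkSpecializes hy a)
      rw [TopCat.Presheaf.germ_stalkSpecializes_apply]
    have heq : Cyc90.ptOf q = x :=
      Cyc90.eq_of_delta_le hX.2.2 hy (hmax _ ⟨_, hξy, hyU, rfl⟩)
    have h3 := Cyc90.ptOf_genPrime (specializes_refl x)
    rw [Cyc90.genPrime_refl] at h3
    exact Cyc90.ptOf_injective x (heq.trans h3.symm)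
  obtain ⟨n, hn, hsub⟩ := Cyc90.delta_sub (X ↘ Spec (CommRingCat.of k)) (fun _ => 0)
    (Cyc90.isSetup_spec_field k) δ hδ hx
  have hne : ξ ≠ x := fun h => hxU (h ▸ hξ)
  have hn1 : 1 ≤ n := by
    have := Cyc90.one_le_ringKrullDim_locQuot hx hne
    rw [hn] at this
    exact_mod_cast this
  let D := Cyc.LocQuot x ξ hx
  have : IsLocalRing D := IsLocalRing.of_surjective' _ Ideal.Quotient.mk_surjective
  let b : D := Ideal.Quotient.mk _ a
  have : IsLocalHom (Ideal.Quotient.mk (RingHom.ker (Cyc.specMap x ξ hx))) :=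
    IsLocalHom.of_surjective _ Ideal.Quotient.mk_surjective
  have hbm : b ∈ IsLocalRing.maximalIdeal D := fun hu => hnu (isUnit_of_map_unit _ _ hu)
  have hdim : ringKrullDim (D ⧸ Ideal.span {b}) ≤ 0 := by
    rw [ringKrullDim_quotient]
    refine Order.krullDim_nonpos_iff_forall_isMax.2 ?_
    intro p r hpr
    suffices key : ∀ p : PrimeSpectrum.zeroLocus (R := D) (Ideal.span {b} : Set D),
        p.1 = IsLocalRing.closedPoint D from
      (Subtype.ext ((key r).trans (key p).symm)).le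
    intro p
    let q : PrimeSpectrum (X.presheaf.stalk x) := PrimeSpectrum.comap (Ideal.Quotient.mk _) p.1
    have hle : Cyc90.genPrime hx ≤ q := by
      rw [← PrimeSpectrum.asIdeal_le_asIdeal, ← Cyc90.ker_specMap hx]
      intro t ht
      show Ideal.Quotient.mk _ t ∈ p.1.asIdeal
      rw [Ideal.Quotient.eq_zero_iff_mem.2 ht]
      exact zero_mem _
    have haq : a ∈ q.asIdeal := p.2 (Ideal.subset_span rfl)
    have hqm := hgen q hle haq
    refine PrimeSpectrum.ext ?_
    refine ((IsLocalRing.maximalIdeal.isMaximal D).eq_of_le p.1.2.ne_top ?_).symm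
    intro t ht
    obtain ⟨t, rfl⟩ := Ideal.Quotient.mk_surjective t
    show t ∈ q.asIdeal
    rw [hqm]
    exact fun hu => ht (hu.map _)
  have hle1 := ringKrullDim_le_ringKrullDim_quotient_add_card (R := D) {b}
    (by simpa [Ring.jacobson_eq_sInf_isMaximal, IsLocalRing.isMaximal_iff] using hbm)
  rw [Finset.coe_singleton, Finset.card_singleton, hn] at hle1
  have : n ≤ 1 := by
    have h2 : (n : WithBot ℕ∞) ≤ 0 + 1 := hle1.trans (add_le_add hdim le_rfl)
    rw [zero_add] at h2
    exact_mod_cast h2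
  omega

section Positivity

variable (hδ : Cyc.DeltaCompat (X ↘ Spec (CommRingCat.of k)) δ (fun _ => 0))
include hδ

omit hX hδ [X.Over (Spec (CommRingCat.of k))] [IsProper (X ↘ Spec (CommRingCat.of k))] in
theorem ptFun_finite (x : X) (c : ℤ) : (Function.support (ptFun x c)).Finite :=
  (Set.finite_singleton x).subset fun y hy => by
    by_contra h
    exact hy (ptFun_ne h c)

omit hδ [X.Over (Spec (CommRingCat.of k))] [IsProper (X ↘ Spec (CommRingCat.of k))] in
theorem sheafFun_css' (ξ : X) :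
    Cyc.sheafFun δ (δ ξ) (Cyc.closureStructureSheaf ξ) = ptFun ξ 1 := by
  classical
  funext x
  have := hX.1
  by_cases h : x = ξ
  · subst h
    rw [ptFun_self, Cyc.sheafFun, if_pos rfl, Cyc90.CycSh.length_css]
    rfl
  · rw [ptFun_ne h]
    by_cases hd : δ x = δ ξ
    · refine Cyc90.Dev.sheafFun_eq_zero (QC70.notMem_support_iff.1 fun hs => h ?_)
      exact (Cyc90.eq_of_delta_le hX.2.2 (Cyc90.CycSh.specializes_of_mem_support hs) hd.ge).symm
    · exact if_neg hd

/-- A nonnegative function with positive atoms has positive degree. -/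
theorem degFun_capIter_pos {r : ℕ} (L : Fin r → X.Modules) (hL : ∀ i, PicF.IsInvertible (L i))
    (s : (i : Fin r) → (ξ : X) → Cyc.secFibre (L i) ξ) (hs : ∀ i ξ, s i ξ ≠ 0)
    (hpos : ∀ x, δ x = r → 0 < Cyc90.Dev.degFun k (Cyc90.Dev.capIter δ L s (ptFun x 1) r)) :
    ∀ (α : X → ℤ), (Function.support α).Finite → (∀ x, 0 ≤ α x) → (∀ x, α x ≠ 0 → δ x = r) →
      0 ≤ Cyc90.Dev.degFun k (Cyc90.Dev.capIter δ L s α r) ∧
        ((∃ x, α x ≠ 0) → 0 < Cyc90.Dev.degFun k (Cyc90.Dev.capIter δ L s α r)) := by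
  intro α hfin
  classical
  induction hn : (∑ᶠ x, (α x).toNat) using Nat.strong_induction_on generalizing α with
  | _ n ih =>
  intro hnn hsupp
  by_cases h0 : ∀ x, α x = 0
  · have : α = 0 := funext h0
    rw [this, Cyc90.Dev.capIter_zero]
    exact ⟨(Cyc90.Dev.degFun_zero k).ge, fun ⟨x, hx⟩ => absurd rfl hx⟩
  push Not at h0
  obtain ⟨x, hx⟩ := h0
  let β : X → ℤ := α - ptFun x 1
  have hb : ∀ y, 0 ≤ β y := fun y => by
    show 0 ≤ α y - ptFun x 1 y
    by_cases h : y = x
    · subst h; rw [ptFun_self]; have := hnn y; omega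
    · rw [ptFun_ne h, sub_zero]; exact hnn y
  have hbα : ∀ y, β y ≠ 0 → α y ≠ 0 := fun y hy hα => by
    have h1 := hb y
    apply hy
    show α y - ptFun x 1 y = 0
    by_cases h : y = x
    · exact absurd (h ▸ hα) hx
    · rw [hα, ptFun_ne h, sub_zero]
  have hbfin : (Function.support β).Finite := hfin.subset fun y hy => hbα y hy
  have hlt : (∑ᶠ y, (β y).toNat) < n := by
    subst hn
    rw [finsum_eq_sum_of_support_subset _ (s := hfin.toFinset) fun y hy => hfin.mem_toFinset.2
        (hbα y fun h => (Function.mem_support.1 hy) (by simp [h])),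
      finsum_eq_sum_of_support_subset _ (s := hfin.toFinset) fun y hy => hfin.mem_toFinset.2
        (fun h => (Function.mem_support.1 hy) (by simp [h]))]
    refine Finset.sum_lt_sum (fun y _ => ?_) ⟨x, hfin.mem_toFinset.2 hx, ?_⟩
    · show (α y - ptFun x 1 y).toNat ≤ _
      by_cases h : y = x
      · subst h; rw [ptFun_self]; omega
      · rw [ptFun_ne h, sub_zero]
    · show (α x - ptFun x 1 x).toNat < _
      rw [ptFun_self]
      have := hnn x
      omega
  have hadd : Cyc90.Dev.capIter δ L s α r =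
      Cyc90.Dev.capIter δ L s (ptFun x 1) r + Cyc90.Dev.capIter δ L s β r := by
    rw [← Cyc90.Dev.capIter_add k hX hL (ptFun_finite x 1) hbfin s hs]
    simp [β]
  rw [hadd, Cyc90.Dev.degFun_add k (Cyc90.Dev.finite_capIter k hX hL (ptFun_finite x 1) s hs r)
    (Cyc90.Dev.finite_capIter k hX hL hbfin s hs r)]
  have h1 := (ih _ hlt β hbfin rfl hb fun y hy => hsupp y (hbα y hy)).1
  have h2 := hpos x (hsupp x hx)
  exact ⟨by linarith, fun _ => by linarith⟩

theorem intE_css_pos : ∀ {r : ℕ} (L M : Fin r → X.Modules), (∀ i, CohB1.IsAmple (L i)) →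
    (∀ i, Nonempty (CohB1.tensorMod (M i) (L i) ≅ Coh.structureModule X)) →
    ∀ ξ, δ ξ = r → 0 < Cyc90.Dev.intE k M (Cyc.closureStructureSheaf ξ) := by
  intro r
  induction r with
  | zero =>
    intro L M _ _ ξ hξ
    have hξ0 : δ ξ = 0 := by simpa using hξ
    rw [intE_zero, Cyc90.Dev.euler_css k hδ hX hξ0]
    exact_mod_cast Nat.pos_of_ne_zero (Cyc90.Dev.residueDegree_ne_zero hδ hξ0)
  | succ r ih =>
    intro L M hL hM ξ hξ
    classical
    have := hX.1
    obtain ⟨n, σ, hσ, haff⟩ := (hL 0).2.2 ξ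
    have hMi : ∀ i, PicF.IsInvertible (M i) := fun i => (hM i).elim Inv57.isInvertible_of_tensorMod_iso
    let L₁ := CohB1.tensorPow (L 0) (n + 1)
    let M₁ := CohB1.tensorPow (M 0) (n + 1)
    have hL₁ : PicF.IsInvertible L₁ := EGA73.isInvertible_tensorPow (hL 0).1 _
    have hinv : Nonempty (CohB1.tensorMod M₁ L₁ ≅ Coh.structureModule X) := by
      refine nonempty_iso_of_cl ?_
      rw [cl_tensor, cl_tensorPow, cl_tensorPow, ← mul_pow,
        show PicF.cl (M 0) * PicF.cl (L 0) = 1 from Quot.sound (hM 0), one_pow]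
      rfl
    let L' : Fin (r + 1) → X.Modules := Fin.cons L₁ fun i => L i.succ
    let M' : Fin (r + 1) → X.Modules := Fin.cons M₁ fun i => M i.succ
    have hL' : ∀ i, PicF.IsInvertible (L' i) := Fin.cases hL₁ fun i => (hL i.succ).1
    obtain ⟨v, hv⟩ := Cyc90.Dev.exists_secFibre_family hL₁
    choose w hw using fun i : Fin r => Cyc90.Dev.exists_secFibre_family (hL i.succ).1
    let v' : (η : X) → Cyc.secFibre L₁ η := Function.update v ξ (fibreVal L₁ σ ξ)
    have hv' : ∀ η, v' η ≠ 0 := fun η => by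
      by_cases h : η = ξ
      · subst h; simp only [v', Function.update_self]; exact fibreVal_ne_zero hL₁ hσ
      · simp only [v', Function.update_of_ne h]; exact hv η
    let s : (i : Fin (r + 1)) → (η : X) → Cyc.secFibre (L' i) η :=
      Fin.cases (motive := fun i => (η : X) → Cyc.secFibre (L' i) η) v' w
    have hs : ∀ i η, s i η ≠ 0 := Fin.cases hv' hw
    have hF : Cyc.CohLe δ ((r + 1 : ℕ) : ℤ) (Cyc.closureStructureSheaf ξ) := cohLe_css k hδ hX hξ.le
    have e1 := Cyc90.Dev.intE_eq_degFun k hδ hX L' M' hL' (Fin.cases hinv fun i => hM i.succ) s hs _ hF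
    rw [← hξ, sheafFun_css' hX, Cyc90.Dev.capIter_succ_eq L' s _ r le_rfl] at e1
    have hdiv : Cyc.c1CapFun δ (L' 0) (ptFun ξ 1) (s 0) = Cyc.secDivFun δ L₁ ξ (fibreVal L₁ σ ξ) := by
      rw [c1Cap_ptFun]
      funext x
      show 1 * Cyc.secDivFun δ L₁ ξ (v' ξ) x = _
      simp only [one_mul, v', Function.update_self]
    rw [hdiv] at e1
    have hrest : ∀ x, δ x = r → 0 < Cyc90.Dev.degFun k (Cyc90.Dev.capIter δ (fun j => L' j.succ)
        (fun j => s j.succ) (ptFun x 1) r) := fun x hx => by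
      have e2 := Cyc90.Dev.intE_eq_degFun k hδ hX (fun j => L' j.succ) (fun j => M' j.succ)
        (fun j => hL' _) (fun j => by simpa [L', M'] using hM j.succ) (fun j => s j.succ) (fun j => hs _)
        _ (cohLe_css k hδ hX hx.le)
      rw [← hx, sheafFun_css' hX] at e2
      rw [← e2]
      exact ih _ _ (fun j => by simpa [L'] using hL j.succ)
        (fun j => by simpa [L', M'] using hM j.succ) x hx
    have hpos := (degFun_capIter_pos hX k hδ _ (fun j => hL' j.succ) _ (fun j => hs j.succ) hrest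
      (Cyc.secDivFun δ L₁ ξ (fibreVal L₁ σ ξ))
      (Cyc90.Dev.finite_support_secDiv k hX hL₁ ξ _ (fibreVal_ne_zero hL₁ hσ))
      (fun x => (secDivFun_fibreVal hX hL₁ hσ x).1)
      (fun x hx => by
        unfold Cyc.secDivFun at hx
        split_ifs at hx with h
        · push_cast at hξ; omega
        · exact absurd rfl hx)).2 (by
      obtain ⟨x, h1, h2, h3⟩ := exists_codim_one_zero hX k hδ hL₁ hσ haff (by push_cast at hξ; omega)
      exact ⟨x, ((secDivFun_fibreVal hX hL₁ hσ x).2 h1 h2 h3).ne'⟩)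
    rw [← e1] at hpos
    have hdimle : topologicalKrullDim (CohB1.support (Cyc.closureStructureSheaf ξ)) ≤
        ((r + 1 : ℕ) : WithBot ℕ∞) := by
      have hsub : CohB1.support (Cyc.closureStructureSheaf ξ) ⊆ closure ({ξ} : Set X) := fun x hx =>
        specializes_iff_mem_closure.1 (Cyc90.CycSh.specializes_of_mem_support hx)
      refine (LC17.dim_mono hsub).trans ?_
      rw [Cyc90.Dev.dim_closure_eq_delta hδ, hξ]
      simp
    have e3 := intE_tensorPow_left k (M := fun i => M i.succ) (fun i => hMi i.succ) (hMi 0)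
      (Cyc90.CycSh.isCoh_css ξ) hdimle (n + 1)
    rw [show (Fin.cons (M 0) fun i => M i.succ) = M from Fin.cons_self_tail M] at e3
    rw [e3] at hpos
    exact pos_of_mul_pos_right hpos (by positivity)

theorem intE_pos_of_ample {r : ℕ} (L M : Fin r → X.Modules) (hL : ∀ i, CohB1.IsAmple (L i))
    (hM : ∀ i, Nonempty (CohB1.tensorMod (M i) (L i) ≅ Coh.structureModule X))
    {F : X.Modules} (hF : Cyc.CohLe δ (r : ℤ) F)
    (hx : ∃ x, δ x = r ∧ Nontrivial (F.presheaf.stalk x)) :
    0 < Cyc90.Dev.intE k M F := by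
  classical
  have := hX.1
  choose s hs using fun i => Cyc90.Dev.exists_secFibre_family (hL i).1
  rw [Cyc90.Dev.intE_eq_degFun k hδ hX L M (fun i => (hL i).1) hM s hs F hF]
  have hc := Cyc90.Dev.isCycFun_sheafFun hX hF
  refine (degFun_capIter_pos hX k hδ L (fun i => (hL i).1) s hs (fun x hx => ?_) _
    (Cyc90.Dev.IsCycFun.finite_support k hc) (fun x => ?_) hc.dim).2 ?_
  · have e := Cyc90.Dev.intE_eq_degFun k hδ hX L M (fun i => (hL i).1) hM s hs _
      (cohLe_css k hδ hX hx.le)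
    rw [← hx, sheafFun_css' hX] at e
    rw [← e]
    exact intE_css_pos hX k hδ L M hL hM x hx
  · unfold Cyc.sheafFun
    split_ifs
    · exact Int.natCast_nonneg _
    · exact le_rfl
  · obtain ⟨x, hd, hn⟩ := hx
    refine ⟨x, ?_⟩
    have hne : Module.length (X.presheaf.stalk x) (F.presheaf.stalk x) ≠ ⊤ :=
      Cyc90.length_stalk_ne_top F hF.1 x fun y hy h =>
        (Cyc90.eq_of_delta_le hX.2.2 h ((hF.2 y hy).trans hd.ge))
    rw [Cyc.sheafFun, if_pos hd]
    have h0 : Module.length (X.presheaf.stalk x) (F.presheaf.stalk x) ≠ 0 := fun h =>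
      not_subsingleton_iff_nontrivial.2 hn (Module.length_eq_zero_iff.1 h)
    exact_mod_cast fun h : (Module.length (X.presheaf.stalk x) (F.presheaf.stalk x)).toNat = 0 =>
      (ENat.toNat_eq_zero.1 h).elim h0 hne

end Positivity

end Groth.Agent.FGA29
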