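import Groth.Agent.Snapper75.Coeff
import Groth.Agent.Var76.SuppVanish
import Groth.Agent.Cyc90.Dev.IntNum
import Groth.Prelude.Def_FGA

/-! Intersection symbols as iterated differences of Euler characteristics. -/

set_option autoImplicit false
set_option backward.isDefEq.respectTransparency.types false
set_option linter.style.haveILetI false
universe u

open CategoryTheory CategoryTheory.Limits AlgebraicGeometry TopologicalSpace

noncomputable section

namespace Groth.Agent.FGA29

variable {X : Scheme.{u}}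

/-- Tensor product of isomorphism classes. -/
def clMul : PicF.Cl X → PicF.Cl X → PicF.Cl X :=
  Quot.lift₂ (fun L M => PicF.cl (CohB1.tensorMod L M))
    (fun L _ _ ⟨e⟩ => Quot.sound ⟨EGA73.tensIso (Iso.refl L) e⟩)
    (fun _ _ M ⟨e⟩ => Quot.sound ⟨EGA73.tensIso e (Iso.refl M)⟩)

/-- Isomorphism classes form a commutative monoid under the tensor product. -/
scoped instance clMonoid : CommMonoid (PicF.Cl X) where
  mul := clMul
  one := PicF.cl (Coh.structureModule X)
  mul_assoc := fun a b c => Quot.inductionOn a fun L => Quot.inductionOn b fun M => Quot.inductionOn c fun N =>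
    Quot.sound ⟨EGA73.tensAssoc' L M N⟩
  one_mul := fun a => Quot.inductionOn a fun L => Quot.sound ⟨EGA73.tensUnitLeft L⟩
  mul_one := fun a => Quot.inductionOn a fun L => Quot.sound ⟨EGA73.tensUnitRight L⟩
  mul_comm := fun a b => Quot.induction_on₂ a b fun L M => Quot.sound ⟨EGA73.tensComm L M⟩

theorem cl_tensor (L M : X.Modules) : PicF.cl (CohB1.tensorMod L M) = PicF.cl L * PicF.cl M := rfl

theorem cl_one : PicF.cl (Coh.structureModule X) = (1 : PicF.Cl X) := rfl

theorem nonempty_iso_of_cl {L M : X.Modules} (h : PicF.cl L = PicF.cl M) : Nonempty (L ≅ M) :=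
  ((Equivalence.eqvGen_iff (r := fun L L' : X.Modules => Nonempty (L ≅ L'))
    ⟨fun _ => ⟨Iso.refl _⟩, fun ⟨e⟩ => ⟨e.symm⟩, fun ⟨e⟩ ⟨e'⟩ => ⟨e ≪≫ e'⟩⟩)).1 (Quot.eqvGen_exact h)

theorem cl_tensorPow (L : X.Modules) : ∀ n : ℕ, PicF.cl (CohB1.tensorPow L n) = PicF.cl L ^ n
  | 0 => (pow_zero _).symm
  | n + 1 => by rw [CohB1.tensorPow, cl_tensor, cl_tensorPow L n, pow_succ]

theorem cl_tensorList : ∀ l : List X.Modules, PicF.cl (FGA.tensorList l) = (l.map PicF.cl).prod
  | [] => rfl
  | M :: l => by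
    rw [FGA.tensorList, cl_tensor, cl_tensorList l, List.map_cons, List.prod_cons]

theorem cl_famTensor {r : ℕ} (M : Fin r → X.Modules) (I : Finset (Fin r)) :
    PicF.cl (Cyc90.Dev.famTensor M I) = ∏ i ∈ I, PicF.cl (M i) := by
  rw [Cyc90.Dev.famTensor, cl_tensorList, List.map_map, ← List.prod_toFinset _ (Finset.sort_nodup _ _),
    Finset.sort_toFinset]
  rfl

theorem cl_multiTwist {n : ℕ} (L : Fin n → X.Modules) (m : Fin n → ℕ) :
    PicF.cl (FGA.multiTwist L m) = ∏ i, PicF.cl (L i) ^ m i := by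
  rw [FGA.multiTwist, cl_tensorList, List.map_map, ← Fin.prod_univ_def]
  exact Finset.prod_congr rfl fun i _ => cl_tensorPow (L i) (m i)

theorem cl_tensorPows (F : X.Modules) : ∀ (r : ℕ) (L : Fin r → X.Modules) (n : Fin r → ℕ),
    PicF.cl (Curv2.tensorPows F r L n) = PicF.cl F * ∏ i, PicF.cl (L i) ^ n i
  | 0, _, _ => by simp [Curv2.tensorPows]
  | r + 1, L, n => by
    rw [Curv2.tensorPows, cl_tensor, cl_tensorPows F r, cl_tensorPow, Fin.prod_univ_castSucc, mul_assoc]

variable (k : Type u) [Field k] [X.Over (Spec (CommRingCat.of k))]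

theorem euler_cl {F G : X.Modules} (h : PicF.cl F = PicF.cl G) :
    Curv2.euler k X F = Curv2.euler k X G :=
  Crv77.euler_congr (nonempty_iso_of_cl h).some

theorem intE_cl {r : ℕ} (M : Fin r → X.Modules) {F G : X.Modules} (h : PicF.cl F = PicF.cl G) :
    Cyc90.Dev.intE k M F = Cyc90.Dev.intE k M G :=
  Cyc90.Dev.intE_congr k M (nonempty_iso_of_cl h).some

theorem intE_zero (M : Fin 0 → X.Modules) (F : X.Modules) :
    Cyc90.Dev.intE k M F = Curv2.euler k X F := by
  rw [Cyc90.Dev.intE, Fintype.sum_subsingleton _ (∅ : Finset (Fin 0)), Finset.card_empty, pow_zero,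
    one_mul]
  exact euler_cl k (by rw [cl_tensor, cl_famTensor, Finset.prod_empty, one_mul])

theorem intE_cons {r : ℕ} (A : X.Modules) (M : Fin r → X.Modules) (F : X.Modules) :
    Cyc90.Dev.intE k (Fin.cons A M) F =
      Cyc90.Dev.intE k M F - Cyc90.Dev.intE k M (CohB1.tensorMod F A) := by
  rw [Cyc90.Dev.intE_succ]
  rfl

variable [IsProper (X ↘ Spec (CommRingCat.of k))]

theorem eulerCharLE_eq_euler {d : ℕ} (hd : topologicalKrullDim X ≤ d) {F : X.Modules}
    (hF : Coh.IsCoh F) : FGA.eulerCharLE k X F d = Curv2.euler k X F := by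
  have := Crv77.isNoetherian_of_proper k X
  have hb : Crv77.FinBdd k F (d + 1) := ⟨fun n => Serre71.finite_hh_of_isProper k F hF n,
    fun n hn => Var76.subsingleton_HH_of_support F isClosed_univ (fun x hx => absurd trivial hx)
      ((topologicalKrullDim_subspace_le X _).trans hd) n (by omega)⟩
  exact hb.euler_eq.symm

theorem intNum_eq_intE {d : ℕ} (hd : topologicalKrullDim X ≤ d) {r : ℕ} {M : Fin r → X.Modules}
    (hM : ∀ i, PicF.IsInvertible (M i)) {F : X.Modules} (hF : Coh.IsCoh F) :
    FGA.intNum k X d M F = Cyc90.Dev.intE k M F :=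
  Finset.sum_congr rfl fun I _ => congrArg _ (eulerCharLE_eq_euler k hd
    (Amp73.isCoh_tensorMod (Amp73.isCoh_of_isInvertible (Cyc90.Dev.isInvertible_famTensor hM I)) hF))

omit [IsProper (X ↘ Spec (CommRingCat.of k))] in
theorem intE_eq_alt {r : ℕ} (M : Fin r → X.Modules) (F : X.Modules) :
    (Cyc90.Dev.intE k M F : ℚ) = (-1) ^ r * Snapper75.alt r (Snapper75.chi k M F) := by
  classical
  show _ = _ * ∑ S : Finset (Fin r), _
  rw [Cyc90.Dev.intE, Int.cast_sum, Finset.mul_sum]
  refine Finset.sum_congr rfl fun S _ => ?_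
  have h : Curv2.euler k X (CohB1.tensorMod (Cyc90.Dev.famTensor M S) F) =
      Curv2.euler k X (Curv2.tensorPows F r M (Snapper75.ind S)) := by
    refine euler_cl k ?_
    rw [cl_tensor, cl_famTensor, cl_tensorPows, mul_comm]
    congr 1
    simp [Snapper75.ind, pow_ite, Finset.prod_ite_mem]
  have hc : (Sᶜ).card + S.card = r := by
    rw [Finset.card_compl_add_card, Fintype.card_fin]
  rw [h, Int.cast_mul, Int.cast_pow, Int.cast_neg, Int.cast_one, ← mul_assoc, ← pow_add]
  have e : (-1 : ℚ) ^ (r + (Sᶜ).card) = (-1) ^ S.card := by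
    calc (-1 : ℚ) ^ (r + (Sᶜ).card) = (-1) ^ (2 * (Sᶜ).card + S.card) :=
          congrArg (fun n : ℕ => (-1 : ℚ) ^ n) (by omega)
      _ = (-1) ^ S.card := by rw [pow_add, pow_mul]; simp
  rw [e]
  rfl

theorem intE_eq_zero_of_dim_lt {r : ℕ} {M : Fin r → X.Modules} (hM : ∀ i, PicF.IsInvertible (M i))
    {F : X.Modules} (hF : Coh.IsCoh F)
    (hr : topologicalKrullDim (CohB1.support F) < (r : WithBot ℕ∞)) :
    Cyc90.Dev.intE k M F = 0 := by
  have h := intE_eq_alt k M F
  rw [Snapper75.alt_eq_zero (Snapper75.chi_mem_polySub k hM r F hF hr), mul_zero] at h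
  exact_mod_cast h

theorem intE_add_left {r : ℕ} {M : Fin r → X.Modules} (hM : ∀ i, PicF.IsInvertible (M i))
    {A B : X.Modules} (hA : PicF.IsInvertible A) (hB : PicF.IsInvertible B) {F : X.Modules}
    (hF : Coh.IsCoh F) (hr : topologicalKrullDim (CohB1.support F) ≤ ((r + 1 : ℕ) : WithBot ℕ∞)) :
    Cyc90.Dev.intE k (Fin.cons (CohB1.tensorMod A B) M) F =
      Cyc90.Dev.intE k (Fin.cons A M) F + Cyc90.Dev.intE k (Fin.cons B M) F := by
  have h0 := intE_eq_zero_of_dim_lt k (M := (Fin.cons A (Fin.cons B M) : Fin (r + 2) → X.Modules))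
    (Fin.cases hA fun i => Fin.cases hB hM i) hF
    (lt_of_le_of_lt hr (by exact_mod_cast Nat.lt_succ_self (r + 1)))
  have e : Cyc90.Dev.intE k M (CohB1.tensorMod (CohB1.tensorMod F A) B) =
      Cyc90.Dev.intE k M (CohB1.tensorMod F (CohB1.tensorMod A B)) :=
    Cyc90.Dev.intE_congr k M (EGA73.tensAssoc' F A B)
  rw [intE_cons, intE_cons, intE_cons, e] at h0
  rw [intE_cons, intE_cons, intE_cons]
  linarith

theorem intE_tensorPow_left {r : ℕ} {M : Fin r → X.Modules} (hM : ∀ i, PicF.IsInvertible (M i))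
    {A : X.Modules} (hA : PicF.IsInvertible A) {F : X.Modules} (hF : Coh.IsCoh F)
    (hr : topologicalKrullDim (CohB1.support F) ≤ ((r + 1 : ℕ) : WithBot ℕ∞)) : ∀ n : ℕ,
    Cyc90.Dev.intE k (Fin.cons (CohB1.tensorPow A n) M) F =
      n * Cyc90.Dev.intE k (Fin.cons A M) F
  | 0 => by
    rw [intE_cons, intE_cl k M (F := CohB1.tensorMod F (CohB1.tensorPow A 0)) (G := F)
      (by rw [cl_tensor, cl_tensorPow, pow_zero, mul_one]), sub_self]
    simp
  | n + 1 => by
    rw [CohB1.tensorPow, intE_add_left k hM (EGA73.isInvertible_tensorPow hA n) hA hF hr,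
      intE_tensorPow_left hM hA hF hr n]
    push_cast
    ring

theorem support_twist' {F : X.Modules} (hF : Coh.IsCoh F) {L : X.Modules}
    (hL : PicF.IsInvertible L) :
    CohB1.support (CohB1.tensorMod F L) = CohB1.support F :=
  haveI := hF.1
  Snapper75.support_twist F hL

theorem euler_tensorPow_eq_sum {L M : X.Modules} (hL : PicF.IsInvertible L)
    (hM : PicF.IsInvertible M) (hLM : PicF.cl L * PicF.cl M = 1) {F : X.Modules} (hF : Coh.IsCoh F)
    {r : ℕ} (hr : topologicalKrullDim (CohB1.support F) ≤ (r : WithBot ℕ∞)) (m : ℕ) :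
    Curv2.euler k X (CohB1.tensorMod (CohB1.tensorPow L m) F) =
      (Finset.range (r + 1)).sum fun i =>
        ((m + i - 1).choose i : ℤ) * Cyc90.Dev.intE k (fun _ : Fin i => M) F := by
  let a : ℕ → ℕ → ℤ := fun i m =>
    Cyc90.Dev.intE k (fun _ : Fin i => M) (CohB1.tensorMod F (CohB1.tensorPow L m))
  have hrec : ∀ i m, a i (m + 1) = a i m + a (i + 1) (m + 1) := fun i m => by
    have h := Cyc90.Dev.intE_succ k (fun _ : Fin (i + 1) => M)
      (CohB1.tensorMod F (CohB1.tensorPow L (m + 1)))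
    have e : Cyc90.Dev.intE k (fun _ : Fin i => M)
        (CohB1.tensorMod (CohB1.tensorMod F (CohB1.tensorPow L (m + 1))) M) = a i m :=
      intE_cl k _ (by
        rw [cl_tensor, cl_tensor, cl_tensor, cl_tensorPow, cl_tensorPow, pow_succ, mul_assoc,
          mul_assoc, hLM, mul_one])
    simp only [a] at e ⊢
    rw [h, e]
    ring
  have hvan : ∀ i m, r < i → a i m = 0 := fun i m hi => by
    refine intE_eq_zero_of_dim_lt k (fun _ => hM)
      (Amp73.isCoh_tensorMod hF (Amp73.isCoh_of_isInvertible (EGA73.isInvertible_tensorPow hL m))) ?_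
    rw [support_twist' hF (EGA73.isInvertible_tensorPow hL m)]
    exact lt_of_le_of_lt hr (by exact_mod_cast hi)
  have key : ∀ m t i, i + t = r →
      a i m = (Finset.range (t + 1)).sum fun j => ((m + j - 1).choose j : ℤ) * a (i + j) 0 := by
    intro m
    induction m with
    | zero =>
      intro t i _
      rw [Finset.sum_eq_single 0 (fun j _ hj => ?_) (by simp)]
      · simp
      · rw [Nat.choose_eq_zero_of_lt (by omega), Nat.cast_zero, zero_mul]
    | succ m ihm =>
      intro t
      induction t with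
      | zero =>
        intro i hi
        rw [hrec, hvan (i + 1) (m + 1) (by omega), add_zero, ihm 0 i hi]
        simp
      | succ t iht =>
        intro i hi
        rw [hrec, ihm (t + 1) i hi, iht (i + 1) (by omega), Finset.sum_range_succ' _ (t + 1),
          Finset.sum_range_succ' _ (t + 1), add_right_comm, ← Finset.sum_add_distrib]
        refine congrArg₂ (· + ·) (Finset.sum_congr rfl fun j _ => ?_) (by simp)
        rw [show m + 1 + (j + 1) - 1 = m + j + 1 by omega, show m + (j + 1) - 1 = m + j by omega,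
          show m + 1 + j - 1 = m + j by omega, show i + (j + 1) = i + 1 + j by omega,
          Nat.choose_succ_succ' (m + j) j]
        push_cast
        ring
  have h0 := key m r 0 (zero_add r)
  simp only [a, Nat.zero_add] at h0
  rw [intE_zero] at h0
  rw [euler_cl k (G := CohB1.tensorMod F (CohB1.tensorPow L m)) (by rw [cl_tensor, cl_tensor, mul_comm]),
    h0]
  refine Finset.sum_congr rfl fun j _ => congrArg _ ?_
  exact intE_cl k _ (by rw [cl_tensor, cl_tensorPow, pow_zero, mul_one])

end Groth.Agent.FGA29
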