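import Groth.Agent.FGA29.IntNumCurves
import Groth.Agent.Cyc90.C1Push
import Groth.Agent.Cyc90.AffBundlePoly
import Groth.Agent.Cyc90.Jacobson
import Groth.Agent.Div89.RatPush
import Groth.Agent.SchBasics.ImmReduced
import Groth.Agent.Cyc90.PushDivCollapse
import Groth.Agent.TwTens96.Basic
import Groth.Prelude.Def_PicLoc

/-! Curve degrees under morphisms of proper schemes over a field. -/

set_option autoImplicit false
set_option backward.isDefEq.respectTransparency.types false
set_option linter.style.haveILetI false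
universe u

open CategoryTheory CategoryTheory.Limits AlgebraicGeometry TopologicalSpace

noncomputable section

namespace Groth.Agent.FGA29

/-- The dimension function of a scheme over a field. -/
abbrev dl (k : Type u) [Field k] (X : Scheme.{u}) [X.Over (Spec (CommRingCat.of k))] : X → ℤ :=
  fun x => (WC97.tdegN (X ↘ Spec (CommRingCat.of k)) x : ℤ)

/-- The function of a single point. -/
def ptFun {X : Scheme.{u}} (ξ : X) (c : ℤ) : X → ℤ :=
  fun x => by classical exact if x = ξ then c else 0

theorem ptFun_self {X : Scheme.{u}} (ξ : X) (c : ℤ) : ptFun ξ c ξ = c := by simp [ptFun]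

theorem ptFun_ne {X : Scheme.{u}} {ξ x : X} (h : x ≠ ξ) (c : ℤ) : ptFun ξ c x = 0 := by
  simp [ptFun, h]

theorem c1Cap_ptFun {X : Scheme.{u}} (δ : X → ℤ) (L : X.Modules) (ξ : X) (c : ℤ)
    (s : (ξ : X) → Cyc.secFibre L ξ) :
    Cyc.c1CapFun δ L (ptFun ξ c) s = fun x => c * Cyc.secDivFun δ L ξ (s ξ) x := by
  funext x
  rw [Cyc.c1CapFun, finsum_eq_single _ ξ fun η hη => by rw [ptFun_ne hη, zero_mul], ptFun_self]

/-- The point as a cycle. -/
def ptCycle {X : Scheme.{u}} (ξ : X) : AlgebraicCycle X ℤ where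
  toFun := ptFun ξ 1
  supportWithinDomain' := Set.subset_univ _
  supportLocallyFiniteWithinDomain' := fun _ _ => ⟨Set.univ, Filter.univ_mem,
    (Set.finite_singleton ξ).subset fun y hy => by
      by_contra h
      exact hy.2 (ptFun_ne h 1)⟩

variable (k : Type u) [Field k] {X X' : Scheme.{u}} [X.Over (Spec (CommRingCat.of k))]
  [X'.Over (Spec (CommRingCat.of k))]
  [IsProper (X ↘ Spec (CommRingCat.of k))] [IsProper (X' ↘ Spec (CommRingCat.of k))]
  (g : X' ⟶ X) (hg : g ≫ (X ↘ Spec (CommRingCat.of k)) = X' ↘ Spec (CommRingCat.of k))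

include hg in
theorem isProper_of_over : IsProper g := by
  have : IsProper (g ≫ (X ↘ Spec (CommRingCat.of k))) := by rw [hg]; infer_instance
  exact IsProper.of_comp g (X ↘ Spec (CommRingCat.of k))

include hg in
omit [IsProper (X ↘ Spec (CommRingCat.of k))] [IsProper (X' ↘ Spec (CommRingCat.of k))] in
theorem deltaCompat_map [LocallyOfFiniteType (X ↘ Spec (CommRingCat.of k))]
    [LocallyOfFiniteType (X' ↘ Spec (CommRingCat.of k))] :
    Cyc.DeltaCompat g (dl k X') (dl k X) :=
  Cyc90.deltaCompat_of_comp g (X ↘ Spec (CommRingCat.of k))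
    (by rw [hg]; exact deltaCompat_tdegN (X := X') k) (deltaCompat_tdegN (X := X) k)

include hg in
/-- The degree of a zero-cycle is preserved. -/
theorem degFun_map [QuasiCompact g] (α : AlgebraicCycle X' ℤ)
    (hα : ∀ x, dl k X' x ≠ 0 → α x = 0) (hfin : (Function.support ⇑α).Finite) :
    Cyc90.Dev.degFun k ⇑(AlgebraicCycle.map g (dl k X') (dl k X) α) = Cyc90.Dev.degFun k ⇑α := by
  classical
  let S := hfin.toFinset
  have hδ := deltaCompat_map k g hg
  have hw : ∀ x ∈ S, dl k X' x = dl k X (g x) := fun x hx => by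
    obtain ⟨n, -, hd⟩ := hδ x
    have h0 : dl k X' x = 0 := by
      by_contra h
      exact (hfin.mem_toFinset.1 hx) (hα x h)
    have : 0 ≤ dl k X (g x) := Int.natCast_nonneg _
    omega
  have hmap : ∀ y, AlgebraicCycle.map g (dl k X') (dl k X) α y =
      ∑ x ∈ S.filter (fun x => g x = y), α x * (g.residueDegree x : ℤ) := fun y => by
    have hset : g ⁻¹' {y} ∩ Function.support (fun x => α x *
        (if dl k X' x = dl k X (g x) then (g.residueDegree x : ℤ) else 0)) =
        (↑(S.filter fun x => g x = y) : Set X') ∩ Function.support (fun x => α x *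
        (if dl k X' x = dl k X (g x) then (g.residueDegree x : ℤ) else 0)) :=
      Set.ext fun x => and_congr_left fun hx => ⟨fun h => Finset.mem_coe.2 (Finset.mem_filter.2
        ⟨hfin.mem_toFinset.2 (left_ne_zero_of_mul hx), h⟩), fun h => (Finset.mem_filter.1 h).2⟩
    rw [Cyc90.map_apply_eq, finsum_mem_eq_sum_of_inter_support_eq _ hset]
    exact Finset.sum_congr rfl fun x hx => by rw [if_pos (hw x (Finset.mem_filter.1 hx).1)]
  rw [Cyc90.Dev.degFun, Cyc90.Dev.degFun,
    finsum_eq_sum_of_support_subset _ (s := S.image g) ?_,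
    finsum_eq_sum_of_support_subset _ (s := S) ?_,
    ← Finset.sum_fiberwise_of_maps_to (t := S.image g) (fun x hx => Finset.mem_image_of_mem g hx)]
  · refine Finset.sum_congr rfl fun y _ => ?_
    rw [hmap y, Finset.mul_sum]
    refine Finset.sum_congr rfl fun x hx => ?_
    obtain rfl := (Finset.mem_filter.1 hx).2
    have e : (X' ↘ Spec (CommRingCat.of k)).residueDegree x =
        (X ↘ Spec (CommRingCat.of k)).residueDegree (g x) * g.residueDegree x := by
      rw [← Div89.residueDegree_comp, hg]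
    rw [e]
    push_cast
    ring
  · exact fun x hx => Finset.mem_coe.2 (hfin.mem_toFinset.2 (right_ne_zero_of_mul hx))
  · intro y hy
    have h := right_ne_zero_of_mul (Function.mem_support.1 hy)
    rw [hmap y] at h
    obtain ⟨x, hx, -⟩ := Finset.exists_ne_zero_of_sum_ne_zero h
    exact Finset.mem_coe.2 (Finset.mem_image.2 ⟨x, (Finset.mem_filter.1 hx).1, (Finset.mem_filter.1 hx).2⟩)

omit [X.Over (Spec (CommRingCat.of k))] [X'.Over (Spec (CommRingCat.of k))]
  [IsProper (X ↘ Spec (CommRingCat.of k))] [IsProper (X' ↘ Spec (CommRingCat.of k))] in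
theorem pullback_inverse {T L : X.Modules} (e : CohB1.tensorMod T L ≅ Coh.structureModule X) :
    Nonempty (CohB1.tensorMod ((Scheme.Modules.pullback g).obj T)
      ((Scheme.Modules.pullback g).obj L) ≅ Coh.structureModule X') :=
  ⟨(TwTens96.pullTensIso g T L).symm ≪≫ (Scheme.Modules.pullback g).mapIso e ≪≫
    PicLoc.pullbackStructureIso g⟩

include hg in
/-- Curve symbols of pullbacks. -/
theorem intE_css_pullback {T : X.Modules} (hT : PicF.IsInvertible T) {ξ : X'} (hξ : dl k X' ξ = 1) :
    Cyc90.Dev.intE k (fun _ : Fin 1 => (Scheme.Modules.pullback g).obj T) (Cyc.closureStructureSheaf ξ) =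
      (if dl k X' ξ = dl k X (g ξ) then (g.residueDegree ξ : ℤ) else 0) *
        Cyc90.Dev.intE k (fun _ : Fin 1 => T) (Cyc.closureStructureSheaf (g ξ)) := by
  classical
  have := isProper_of_over k g hg
  have hδX := deltaCompat_tdegN (X := X) k
  have hδX' := deltaCompat_tdegN (X := X') k
  have hX : Cyc.IsSetup X (dl k X) := Cyc90.isSetup_of_field (X ↘ Spec (CommRingCat.of k)) _ hδX
  have hX' : Cyc.IsSetup X' (dl k X') :=
    Cyc90.isSetup_of_field (X' ↘ Spec (CommRingCat.of k)) _ hδX'
  have hδg := deltaCompat_map k g hg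
  obtain ⟨L, hL, ⟨e⟩⟩ := An92.InvMod.exists_inverse hT
  obtain ⟨v, hv⟩ := Cyc90.Dev.exists_secFibre_family hL
  have hgL := Amp73.isInvertible_pullback g hL
  let u := Cyc90.pullSec g hL v hv
  have hu := Cyc90.pullSec_ne_zero g hL v hv
  obtain ⟨γ, hγ⟩ := Cyc90.exists_c1CapCycle hX' hgL (ptCycle ξ) u hu
  have hγ' : ⇑γ = Cyc.secDivFun (dl k X') _ ξ (u ξ) :=
    hγ.trans ((c1Cap_ptFun _ _ ξ 1 u).trans (funext fun x => one_mul _))
  have key := congrArg (Cyc90.Dev.degFun k) (Cyc90.map_c1Cap hX' hX g hδg hL (ptCycle ξ) v hv γ hγ)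
  set c := (if dl k X' ξ = dl k X (g ξ) then (g.residueDegree ξ : ℤ) else 0) with hc
  have hpt : ⇑(AlgebraicCycle.map g (dl k X') (dl k X) (ptCycle ξ)) = ptFun (g ξ) c := by
    funext y
    rw [Cyc90.map_apply_eq]
    by_cases hy : y = g ξ
    · subst hy
      rw [finsum_mem_def, finsum_eq_single _ ξ fun x hx => ?_]
      · rw [Set.indicator_of_mem (show ξ ∈ g ⁻¹' {g ξ} from rfl), ptFun_self]
        show ptFun ξ 1 ξ * _ = _
        rw [ptFun_self, one_mul]
      · refine Set.indicator_apply_eq_zero.2 fun _ => ?_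
        show ptFun ξ 1 x * _ = _
        rw [ptFun_ne hx, zero_mul]
    · rw [ptFun_ne hy]
      refine finsum_mem_eq_zero_of_forall_eq_zero fun x hx => ?_
      show ptFun ξ 1 x * _ = _
      rw [ptFun_ne (fun h => hy (by rw [← h]; exact hx.symm)), zero_mul]
  rw [hpt, c1Cap_ptFun] at key
  have hfin : (Function.support ⇑γ).Finite :=
    hγ' ▸ Cyc90.Dev.finite_support_secDiv k hX' hgL ξ (u ξ) (hu ξ)
  have hdim : ∀ x, dl k X' x ≠ 0 → γ x = 0 := fun x hx => by
    rw [hγ']
    unfold Cyc.secDivFun
    split_ifs with h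
    · exact absurd (by omega : dl k X' x = 0) hx
    · rfl
  rw [degFun_map k g hg γ hdim hfin, hγ',
    degFun_secDiv k hδX' hX' hgL (pullback_inverse g (EGA73.tensComm T L ≪≫ e)) u hu hξ] at key
  refine key.trans ?_
  by_cases hc0 : c = 0
  · rw [hc0, zero_mul, show (fun x => (0 : ℤ) * Cyc.secDivFun (dl k X) L (g ξ) (v (g ξ)) x) =
      fun _ => (0 : ℤ) from funext fun x => zero_mul _, Cyc90.Dev.degFun_zero]
  · have heq : dl k X' ξ = dl k X (g ξ) := by
      by_contra hne
      exact hc0 (hc.trans (if_neg hne))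
    rw [← degFun_secDiv k hδX hX hL ⟨EGA73.tensComm T L ≪≫ e⟩ v hv (heq.symm.trans hξ),
      Cyc90.Dev.degFun, Cyc90.Dev.degFun, mul_finsum' _ _ ?_]
    · exact finsum_congr fun x => by ring
    · exact (Cyc90.Dev.finite_support_secDiv k hX hL (g ξ) (v (g ξ)) (hv _)).subset fun x hx =>
        right_ne_zero_of_mul (Function.mem_support.1 hx)

omit [X.Over (Spec (CommRingCat.of k))] [IsProper (X ↘ Spec (CommRingCat.of k))]
  [X'.Over (Spec (CommRingCat.of k))] [IsProper (X' ↘ Spec (CommRingCat.of k))] in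
/-- The structure sheaf of an integral closed subscheme. -/
theorem nonempty_push_css {Y : Scheme.{u}} (ι : Y ⟶ X) [IsClosedImmersion ι] [IsIntegral Y] :
    Nonempty (Cyc.closureStructureSheaf (ι (genericPoint Y)) ≅
      (Scheme.Modules.pushforward ι).obj (Coh.structureModule Y)) := by
  have hrange : Set.range ι = Set.range (Cyc90.clι (ι (genericPoint Y))) := by
    rw [Cyc90.range_clι, ← Set.image_singleton, ι.isClosedEmbedding.closure_image_eq,
      genericPoint_closure, Set.image_univ]
  obtain ⟨e, he⟩ := SchBasics.exists_iso_of_range_eq ι (Cyc90.clι (ι (genericPoint Y))) hrange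
  obtain ⟨i⟩ := Curves2.Ample.nonempty_push_iso e.hom (Cyc90.clι (ι (genericPoint Y))) ι he
  exact ⟨i.symm⟩

omit [X'.Over (Spec (CommRingCat.of k))] [IsProper (X' ↘ Spec (CommRingCat.of k))] in
/-- The degree on an integral curve is a curve symbol. -/
theorem curveDeg_eq_intE {A : X.Modules} (hA : PicF.IsInvertible A) {Y : Scheme.{u}} (ι : Y ⟶ X)
    [IsClosedImmersion ι] [IsIntegral Y] (hY : topologicalKrullDim Y = 1) :
    dl k X (ι (genericPoint Y)) = 1 ∧
      Pic13.curveDeg k (ι ≫ (X ↘ Spec (CommRingCat.of k))) ((Scheme.Modules.pullback ι).obj A) =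
        - Cyc90.Dev.intE k (fun _ : Fin 1 => A) (Cyc.closureStructureSheaf (ι (genericPoint Y))) := by
  have hrange : closure ({ι (genericPoint Y)} : Set X) = Set.range ι := by
    rw [← Set.image_singleton, ι.isClosedEmbedding.closure_image_eq, genericPoint_closure,
      Set.image_univ]
  have hd : topologicalKrullDim (closure ({ι (genericPoint Y)} : Set X)) = 1 := by
    rw [hrange, ← hY]
    exact (IsHomeomorph.topologicalKrullDim_eq _
      ι.isClosedEmbedding.isEmbedding.toHomeomorph.isHomeomorph).symm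
  constructor
  · rw [WC97.topologicalKrullDim_closure (X ↘ Spec (CommRingCat.of k))] at hd
    have : WC97.tdegN (X ↘ Spec (CommRingCat.of k)) (ι (genericPoint Y)) = 1 := by exact_mod_cast hd
    simp [dl, this]
  · letI : Y.Over (Spec (CommRingCat.of k)) := ⟨ι ≫ (X ↘ Spec (CommRingCat.of k))⟩
    haveI : IsProper (Y ↘ Spec (CommRingCat.of k)) :=
      inferInstanceAs (IsProper (ι ≫ (X ↘ Spec (CommRingCat.of k))))
    haveI := Crv77.isNoetherian_of_proper k X
    haveI : IsLocallyNoetherian Y := LocallyOfFiniteType.isLocallyNoetherian ι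
    have hY1 : topologicalKrullDim Y ≤ (1 : ℕ) := by exact_mod_cast hY.le
    have hA' : PicF.IsInvertible ((Scheme.Modules.pullback ι).obj A) := Amp73.isInvertible_pullback ι hA
    obtain ⟨e⟩ := Curves2.Ample.nonempty_push_unit_tensor ι hA
    obtain ⟨c⟩ := nonempty_push_css ι
    rw [intE_one, Crv77.euler_congr c, Crv77.euler_congr (EGA73.tensIso c (Iso.refl A)), Pic13.curveDeg]
    show FGA.eulerCharLE k Y _ 1 - FGA.eulerCharLE k Y _ 1 = _
    rw [eulerCharLE_eq_euler k hY1 (Amp73.isCoh_of_isInvertible hA'),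
      eulerCharLE_eq_euler k hY1 Crv77.isCoh_structureModule,
      ← Curves2.Ample.euler_push k ι rfl _ Crv77.isCoh_structureModule,
      ← Curves2.Ample.euler_push k ι rfl _ (Amp73.isCoh_of_isInvertible hA'), ← Crv77.euler_congr e]
    rw [neg_sub]

include hg in
omit [IsProper (X' ↘ Spec (CommRingCat.of k))] [IsProper (X ↘ Spec (CommRingCat.of k))] in
/-- Over a point of dimension `r` of the image there is a point of dimension `r`. -/
theorem exists_pt_over [LocallyOfFiniteType (X ↘ Spec (CommRingCat.of k))]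
    [LocallyOfFiniteType (X' ↘ Spec (CommRingCat.of k))] [LocallyOfFiniteType g] [Surjective g] (η : X) :
    ∃ ξ : X', g ξ = η ∧ dl k X' ξ = dl k X η ∧ g.residueDegree ξ ≠ 0 := by
  obtain ⟨z, hz⟩ := g.surjective η
  have : JacobsonSpace (g.fiber η) :=
    LocallyOfFiniteType.jacobsonSpace (g.fiberToSpecResidueField η)
  obtain ⟨p, -⟩ : ∃ p, g.fiberι η p = z := by
    rw [← Set.mem_range, g.range_fiberι]
    exact hz
  obtain ⟨q, -, hq⟩ := Cyc90.exists_closed_specialization p
  letI : (g.fiber η).Over (Spec (CommRingCat.of (X.residueField η : Type u))) :=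
    ⟨g.fiberToSpecResidueField η⟩
  haveI : LocallyOfFiniteType ((g.fiber η) ↘ Spec (CommRingCat.of (X.residueField η : Type u))) :=
    inferInstanceAs (LocallyOfFiniteType (g.fiberToSpecResidueField η))
  have hδF := deltaCompat_tdegN (X := g.fiber η) (X.residueField η : Type u)
  have hne : g.residueDegree (g.fiberι η q) ≠ 0 := by
    haveI : IsPreimmersion (g.fiberι η) := inferInstanceAs (IsPreimmersion (pullback.fst _ _))
    haveI : IsPreimmersion (X.fromSpecResidueField η) := inferInstance
    have h : (g.fiberι η ≫ g).residueDegree q =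
        (g.fiberToSpecResidueField η ≫ X.fromSpecResidueField η).residueDegree q :=
      congrArg (fun f : g.fiber η ⟶ X => f.residueDegree q) pullback.condition
    rw [Div89.residueDegree_comp, Div89.residueDegree_comp,
      Cyc90.residueDegree_of_surjective _ _ (Cyc90.residueFieldMap_surjective (g.fiberι η) q),
      Cyc90.residueDegree_of_surjective _ _ (Cyc90.residueFieldMap_surjective (X.fromSpecResidueField η) _),
      mul_one, one_mul] at h
    rw [h]
    exact Cyc90.Dev.residueDegree_ne_zero hδF (Cyc90.Dev.delta_eq_zero_of_isClosed hδF hq)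
  have he : g (g.fiberι η q) = η := E4O.apply_fiberι g η q
  refine ⟨g.fiberι η q, he, ?_, hne⟩
  conv_rhs => rw [← he]
  exact Cyc90.delta_eq_of_residueDegree_ne_zero g (deltaCompat_map k g hg) _ hne

omit [X'.Over (Spec (CommRingCat.of k))] [IsProper (X' ↘ Spec (CommRingCat.of k))] in
/-- Numerically equivalent modules have equal curve symbols. -/
theorem intE_css_congr {A B : X.Modules} (hA : PicF.IsInvertible A) (hB : PicF.IsInvertible B)
    (hnum : ∀ (Y : Scheme.{u}) (ι : Y ⟶ X) [IsClosedImmersion ι], IsIntegral Y →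
      topologicalKrullDim Y = 1 →
      Pic13.curveDeg k (ι ≫ (X ↘ Spec (CommRingCat.of k))) ((Scheme.Modules.pullback ι).obj A) =
        Pic13.curveDeg k (ι ≫ (X ↘ Spec (CommRingCat.of k))) ((Scheme.Modules.pullback ι).obj B))
    (η : X) (hη : dl k X η = 1) :
    Cyc90.Dev.intE k (fun _ : Fin 1 => A) (Cyc.closureStructureSheaf η) =
      Cyc90.Dev.intE k (fun _ : Fin 1 => B) (Cyc.closureStructureSheaf η) := by
  have hd : topologicalKrullDim (IntMult.ptIdeal η).subscheme = 1 := by
    rw [dim_ptScheme, WC97.topologicalKrullDim_closure (X ↘ Spec (CommRingCat.of k)) η,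
      show WC97.tdegN (X ↘ Spec (CommRingCat.of k)) η = 1 by simpa [dl] using hη]
    rfl
  rw [intE_css_eq_neg_curveDeg k hA hd, intE_css_eq_neg_curveDeg k hB hd,
    hnum (IntMult.ptIdeal η).subscheme (IntMult.ptIdeal η).subschemeι
      (Snapper75.isIntegral_ptScheme η) hd]

end Groth.Agent.FGA29
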