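import Groth.Agent.RigDesc25.Classes
import Groth.Agent.ParaF26.DescPushCor
import Groth.Agent.FGA29.IntNumBC
import Groth.Agent.An92.Ample.Inverse
import Groth.Agent.EGA73.Invertible

/-!
Descent of invertible modules modulo the base along an fpqc covering of the base, with a section.
-/

set_option autoImplicit false
set_option backward.isDefEq.respectTransparency false
set_option backward.isDefEq.respectTransparency.types false
set_option linter.style.haveILetI false
set_option maxHeartbeats 1000000

noncomputable section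

universe u

open CategoryTheory Limits AlgebraicGeometry Opposite
open scoped Groth.Agent.FGA29

namespace Groth.Agent.FGA29

variable {X S S' : Scheme.{u}} (f : X ⟶ S) [QuasiCompact f] [QuasiSeparated f]

theorem bijective_appTop_of_flat (hf : ∀ U : S.Opens, Function.Bijective (f.app U))
    {Z W : Scheme.{u}} {a : Z ⟶ X} {q : Z ⟶ W} {g : W ⟶ S} [Flat g] [Surjective g] [QuasiCompact g]
    (h : IsPullback a q f g) : Function.Bijective q.appTop :=
  ParaF26.DescPush.bijective_app_baseChange f g q a h hf ⊤

theorem pullCl_comp {A B C : Scheme.{u}} (g : A ⟶ B) (h : B ⟶ C) (c : PicF.Cl C) :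
    PicF.pullCl g (PicF.pullCl h c) = PicF.pullCl (g ≫ h) c :=
  Quot.inductionOn c fun L => Quot.sound ⟨(Scheme.Modules.pullbackComp g h).app L⟩

theorem pullCl_id {A : Scheme.{u}} (c : PicF.Cl A) : PicF.pullCl (𝟙 A) c = c :=
  Quot.inductionOn c fun L => Quot.sound ⟨(Scheme.Modules.pullbackId A).app L⟩

variable (σ : S ⟶ X) (hσ : σ ≫ f = 𝟙 S) (g : S' ⟶ S) [Flat g] [Surjective g] [QuasiCompact g]

include hσ in
/-- Descent modulo the base along an fpqc covering of the base. -/
theorem exists_descend_modulo_base (hf : ∀ U : S.Opens, Function.Bijective (f.app U))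
    (L' : (pullback f g).Modules) (hL' : PicF.IsInvertible L')
    (N'' : (pullback g g).Modules)
    (φ : (Scheme.Modules.pullback (pullback.map f (pullback.fst g g ≫ g) f g (𝟙 X) (pullback.fst g g) (𝟙 S)
          ((Category.comp_id f).trans (Category.id_comp f).symm) (Category.comp_id _))).obj L' ≅
        CohB1.tensorMod ((Scheme.Modules.pullback (pullback.map f (pullback.fst g g ≫ g) f g (𝟙 X) (pullback.snd g g) (𝟙 S)
          ((Category.comp_id f).trans (Category.id_comp f).symm) ((Category.comp_id _).trans pullback.condition))).obj L')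
          ((Scheme.Modules.pullback (pullback.snd f (pullback.fst g g ≫ g))).obj N'')) :
    ∃ (L : X.Modules) (N' : S'.Modules), PicF.IsInvertible L ∧ PicF.IsInvertible N' ∧
      Nonempty (L' ≅ CohB1.tensorMod ((Scheme.Modules.pullback (pullback.fst f g)).obj L)
        ((Scheme.Modules.pullback (pullback.snd f g)).obj N')) := by
  let p := pullback.fst f g
  let qU := pullback.snd f g
  let σ' : S' ⟶ pullback f g := pullback.lift (g ≫ σ) (𝟙 S') (by rw [Category.assoc, hσ, Category.comp_id, Category.id_comp])
  have hσ' : σ' ≫ p = g ≫ σ := pullback.lift_fst _ _ _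
  have hsec : σ' ≫ qU = 𝟙 S' := pullback.lift_snd _ _ _
  have hA : IsPullback p qU f g := IsPullback.of_hasPullback f g
  haveI : Flat p := MorphismProperty.of_isPullback hA.flip ‹Flat g›
  haveI : Surjective p := MorphismProperty.of_isPullback hA.flip ‹Surjective g›
  haveI : QuasiCompact p := MorphismProperty.of_isPullback hA.flip ‹QuasiCompact g›
  have hs := p.singleton_mem_qcPrecoverage
  rw [← Presieve.ofArrows_pUnit.{_, _, u + 1}] at hs
  haveI : QuasiCompactCover (⟨PUnit.{u + 1}, fun _ => pullback f g, fun _ => p⟩ : PreZeroHypercover.{u} X) :=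
    Scheme.presieve₀_mem_qcPrecoverage_iff.mp hs
  -- global functions on the double and triple products
  let Q : pullback p p ⟶ pullback g g := pullback.map p p g g qU qU f hA.w hA.w
  have hQ : IsPullback (pullback.fst p p) Q qU (pullback.fst g g) :=
    RigDesc25.isPullback_prod f hA hA Q (pullback.lift_fst _ _ _) (pullback.lift_snd _ _ _)
  have hQ' : IsPullback (pullback.snd p p) Q qU (pullback.snd g g) := by
    refine hQ.of_iso (pullbackSymmetry p p) (Iso.refl _) (pullbackSymmetry g g) (Iso.refl _) ?_ ?_ ?_ ?_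
    · simp
    · refine pullback.hom_ext ?_ ?_ <;> simp [Q]
    · simp
    · simp
  let s₂ := RigDesc25.sec₂ p g σ σ' hσ'
  have hs₂ : s₂ ≫ Q = 𝟙 _ := by
    refine pullback.hom_ext ?_ ?_
    · simp [s₂, RigDesc25.sec₂, Q, qU, hsec]
    · simp [s₂, RigDesc25.sec₂, Q, qU, hsec]
  haveI : Flat (pullback.fst g g) := MorphismProperty.pullback_fst _ _ inferInstance
  haveI : Surjective (pullback.fst g g) := MorphismProperty.pullback_fst _ _ inferInstance
  haveI : QuasiCompact (pullback.fst g g) := MorphismProperty.pullback_fst _ _ inferInstance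
  haveI : Flat (pullback.snd g g) := MorphismProperty.pullback_snd _ _ inferInstance
  haveI : Surjective (pullback.snd g g) := MorphismProperty.pullback_snd _ _ inferInstance
  haveI : QuasiCompact (pullback.snd g g) := MorphismProperty.pullback_snd _ _ inferInstance
  have h₂ : Function.Bijective s₂.appTop :=
    RigDesc25.bijective_appTop_section (bijective_appTop_of_flat f hf (hQ.paste_horiz hA)) hs₂
  have h₃ : Function.Injective (RigDesc25.sec₃ p g σ σ' hσ').appTop := by
    let Q₃ : pullback (pullback.snd p p) (pullback.fst p p) ⟶ pullback (pullback.snd g g) (pullback.fst g g) :=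
      pullback.map _ _ _ _ Q Q qU hQ'.w hQ.w
    have hQ₃ : IsPullback (pullback.fst (pullback.snd p p) (pullback.fst p p)) Q₃ Q
        (pullback.fst (pullback.snd g g) (pullback.fst g g)) :=
      RigDesc25.isPullback_prod qU hQ' hQ Q₃ (pullback.lift_fst _ _ _) (pullback.lift_snd _ _ _)
    haveI : Flat (pullback.fst (pullback.snd g g) (pullback.fst g g)) := MorphismProperty.pullback_fst _ _ inferInstance
    haveI : Surjective (pullback.fst (pullback.snd g g) (pullback.fst g g)) := MorphismProperty.pullback_fst _ _ inferInstance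
    haveI : QuasiCompact (pullback.fst (pullback.snd g g) (pullback.fst g g)) := MorphismProperty.pullback_fst _ _ inferInstance
    refine (RigDesc25.bijective_appTop_section
      (bijective_appTop_of_flat f hf (hQ₃.paste_horiz (hQ.paste_horiz hA))) ?_).1
    refine pullback.hom_ext ?_ ?_
    · show (RigDesc25.sec₃ _ _ _ _ _ ≫ Q₃) ≫ pullback.fst _ _ = 𝟙 _ ≫ pullback.fst _ _
      simp only [RigDesc25.sec₃, Q₃, Category.assoc, pullback.lift_fst, pullback.lift_fst_assoc, Category.id_comp]
      exact (congrArg (pullback.fst _ _ ≫ ·) hs₂).trans (Category.comp_id _)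
    · show (RigDesc25.sec₃ _ _ _ _ _ ≫ Q₃) ≫ pullback.snd _ _ = 𝟙 _ ≫ pullback.snd _ _
      simp only [RigDesc25.sec₃, Q₃, Category.assoc, pullback.lift_snd, pullback.lift_snd_assoc, Category.id_comp]
      exact (congrArg (pullback.snd _ _ ≫ ·) hs₂).trans (Category.comp_id _)
  -- normalisation along the section
  have hNs := Amp73.isInvertible_pullback σ' hL'
  obtain ⟨N₀, hN₀, ⟨eN₀⟩⟩ := An92.InvMod.exists_inverse hNs
  let L'' := CohB1.tensorMod L' ((Scheme.Modules.pullback qU).obj N₀)
  have hL'' : PicF.IsInvertible L'' := EGA73.isInvertible_tensorMod hL' (Amp73.isInvertible_pullback qU hN₀)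
  let c : PicF.Cl (pullback f g) := PicF.cl L'
  let n₀ : PicF.Cl S' := PicF.cl N₀
  let d : PicF.Cl S' := pullClHom σ' c
  have hn : n₀ * d = 1 := Quot.sound ⟨eN₀⟩
  obtain ⟨c'', hc0⟩ : ∃ x : PicF.Cl (pullback f g), x = c * pullClHom qU n₀ := ⟨_, rfl⟩
  have hc'' : PicF.cl L'' = c'' := hc0.symm
  have comp : ∀ {A B C : Scheme.{u}} (a : A ⟶ B) (b : B ⟶ C) (x : PicF.Cl C),
      pullClHom a (pullClHom b x) = pullClHom (a ≫ b) x := fun a b x => pullCl_comp a b x
  have idh : ∀ {A : Scheme.{u}} (x : PicF.Cl A), pullClHom (𝟙 A) x = x := fun x => pullCl_id x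
  have hr : pullClHom σ' c'' = 1 := by
    rw [hc0, map_mul, comp, hsec, idh, mul_comm]
    exact hn
  let θ : pullback p p ⟶ pullback f (pullback.fst g g ≫ g) :=
    pullback.lift (pullback.fst p p ≫ p) Q (by
      rw [Category.assoc, hA.w, ← Category.assoc, ← Category.assoc, hQ.w])
  have hθ₁ : θ ≫ pullback.map f (pullback.fst g g ≫ g) f g (𝟙 X) (pullback.fst g g) (𝟙 S)
      ((Category.comp_id f).trans (Category.id_comp f).symm) (Category.comp_id _) = pullback.fst p p := by
    refine pullback.hom_ext ?_ ?_
    · simp [θ, p]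
    · simp [θ, Q, qU]
  have hθ₂ : θ ≫ pullback.map f (pullback.fst g g ≫ g) f g (𝟙 X) (pullback.snd g g) (𝟙 S)
      ((Category.comp_id f).trans (Category.id_comp f).symm)
      ((Category.comp_id _).trans pullback.condition) = pullback.snd p p := by
    refine pullback.hom_ext ?_ ?_
    · simp only [θ, Category.assoc, pullback.lift_fst, pullback.lift_fst_assoc, Category.comp_id]
      exact pullback.condition
    · simp [θ, Q, qU]
  have h0 : pullClHom (pullback.fst p p) c = pullClHom (pullback.snd p p) c * pullClHom Q (PicF.cl N'') := by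
    have h := congrArg (pullClHom θ) (show
      pullClHom (pullback.map f (pullback.fst g g ≫ g) f g (𝟙 X) (pullback.fst g g) (𝟙 S)
        ((Category.comp_id f).trans (Category.id_comp f).symm) (Category.comp_id _)) c =
      pullClHom (pullback.map f (pullback.fst g g ≫ g) f g (𝟙 X) (pullback.snd g g) (𝟙 S)
        ((Category.comp_id f).trans (Category.id_comp f).symm) ((Category.comp_id _).trans pullback.condition)) c *
        pullClHom (pullback.snd f (pullback.fst g g ≫ g)) (PicF.cl N'') from Quot.sound ⟨φ⟩)
    rwa [map_mul, comp, comp, comp, hθ₁, hθ₂, show θ ≫ pullback.snd f (pullback.fst g g ≫ g) = Q from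
      pullback.lift_snd _ _ _] at h
  let m : PicF.Cl (pullback g g) := PicF.cl N'' * pullClHom (pullback.fst g g) n₀ * pullClHom (pullback.snd g g) d
  have h1 : pullClHom (pullback.fst p p) c'' = pullClHom (pullback.snd p p) c'' * pullClHom Q m := by
    have e1 : pullClHom (pullback.fst p p) (pullClHom qU n₀) = pullClHom Q (pullClHom (pullback.fst g g) n₀) := by
      rw [comp, comp, hQ.w]
    have e2 : pullClHom (pullback.snd p p) (pullClHom qU n₀) * pullClHom Q (pullClHom (pullback.snd g g) d) = 1 := by
      rw [comp, hQ'.w, ← comp, ← map_mul, ← map_mul, hn, map_one, map_one]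
    simp only [hc0, m, map_mul, h0, e1]
    calc _ = pullClHom (pullback.snd p p) c * (pullClHom Q (PicF.cl N'') *
          pullClHom Q (pullClHom (pullback.fst g g) n₀)) * 1 := by rw [mul_one, mul_assoc]
      _ = _ := by
        rw [← e2]
        ac_rfl
  have hm : m = 1 := by
    have h := congrArg (pullClHom s₂) h1
    have a1 : s₂ ≫ pullback.fst p p = pullback.fst g g ≫ σ' := pullback.lift_fst _ _ _
    have a2 : s₂ ≫ pullback.snd p p = pullback.snd g g ≫ σ' := pullback.lift_snd _ _ _
    rw [map_mul, comp, comp, comp, a1, a2, hs₂, idh, ← comp, ← comp, hr, map_one, map_one, one_mul] at h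
    exact h.symm
  rw [hm, map_one, mul_one] at h1
  obtain ⟨M, hM, ⟨eM⟩⟩ := RigDesc25.exists_descend p g σ σ' hσ' h₂ h₃ L'' hL''
    (nonempty_iso_of_cl ((congrArg (pullClHom σ') hc'').trans hr))
    (nonempty_iso_of_cl (((congrArg (pullClHom (pullback.fst p p)) hc'').trans h1).trans
      (congrArg (pullClHom (pullback.snd p p)) hc'').symm))
  have hMi : PicF.IsInvertible M :=
    RigDesc25.isInvertible_descend p M (EGA73.isInvertible_of_iso eM.symm hL'')
  refine ⟨M, _, hMi, hNs, nonempty_iso_of_cl ?_⟩
  show c = pullClHom p (PicF.cl M) * pullClHom qU d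
  rw [show pullClHom p (PicF.cl M) = c * pullClHom qU n₀ from (Quot.sound ⟨eM⟩ : _ = PicF.cl L'')]
  show c = c * pullClHom qU n₀ * pullClHom qU d
  rw [mul_assoc, ← map_mul, hn, map_one, mul_one]

end Groth.Agent.FGA29
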