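import Groth.Agent.FGA29.FinFibreGerm
import Groth.Agent.IntMult12.PushPoint
import Groth.Agent.QCPull72.Annihilator
import Groth.Agent.QCSupp72.Basic
import Groth.Agent.Cyc90.FiniteNbhd
import Groth.Agent.QC70.ExtZero

/-!
# Lengths of stalks of direct images and the cycle of a direct image

For a proper morphism `f` and a coherent module `F` with support of dimension `≤ k`,
`f_*[F]_k = [f_*F]_k`.
-/

set_option autoImplicit false
set_option linter.style.haveILetI false

universe u

open CategoryTheory AlgebraicGeometry IsLocalRing TensorProduct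

namespace Groth.Agent.FGA29

variable {X Y Z : Scheme.{u}}

set_option maxHeartbeats 1600000 in
/-- The length of the stalk of a direct image by a morphism finite near a point, at a maximal point
of the image of the support. -/
theorem length_stalk_push_finite (p : Z ⟶ Y) [QuasiCompact p] [QuasiSeparated p] (y : Y)
    [IsNoetherianRing (Y.presheaf.stalk y)] (V : Y.Opens) (hV : IsAffineOpen V) (hyV : y ∈ V)
    (hU : IsAffineOpen (p ⁻¹ᵁ V)) (hfin : (p.app V).hom.Finite) (G : Z.Modules) (hG : Coh.IsCoh G)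
    (hmax : ∀ z : Z, z ∈ CohB1.support G → p z ⤳ y → p z = y) :
    Module.length (Y.presheaf.stalk y) (((Coh.push p).obj G).presheaf.stalk y) ≠ ⊤ ∧
      ∃ _ : Fintype ↥(p ⁻¹' {y}),
        Module.length (Y.presheaf.stalk y) (((Coh.push p).obj G).presheaf.stalk y) =
          ∑ x : ↥(p ⁻¹' {y}), (p.residueDegree x.1 : ℕ∞) *
            Module.length (Z.presheaf.stalk x.1) (G.presheaf.stalk x.1) := by
  obtain ⟨hGq, hGf⟩ := hG
  haveI := hGq
  haveI := hGf
  haveI := QCqs72.isQuasicoherent_pushforward (M := G) p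
  let U := p ⁻¹ᵁ V
  let R : Type u := Γ(Y, V)
  let S : Type u := Γ(Z, U)
  let A : Type u := Y.presheaf.stalk y
  letI iRA : Algebra R A := TopCat.Presheaf.algebra_section_stalk Y.presheaf ⟨y, hyV⟩
  letI iRS : Algebra R S := (p.app V).hom.toAlgebra
  let P := (hV.primeIdealOf ⟨y, hyV⟩).asIdeal
  haveI : IsLocalization.AtPrime A P := hV.isLocalization_stalk ⟨y, hyV⟩
  haveI : Module.Finite R S := hfin
  let M := Algebra.algebraMapSubmonoid S P.primeCompl
  let B : Type u := Localization M
  obtain ⟨hft, iAB, φ, hBfin, -, -, -, hsq, hgerm, hlen⟩ :=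
    exists_fibre_germ p y V hV hyV hU hfin B
      (hB := inferInstanceAs (IsLocalization M (Localization M)))
  haveI := hBfin
  let N : Type u := Γ(G, U)
  letI iRN : Module R N := Module.compHom N (algebraMap R S)
  haveI : IsScalarTower R S N :=
    ⟨fun a b n => show (algebraMap R S a * b) • n = algebraMap R S a • b • n from mul_smul _ _ _⟩
  haveI : Module.Finite S N := QC70.finite_sections_of_isFiniteType G hU
  haveI : Module.Finite R N := Module.Finite.trans S N
  -- the base change to the semilocal ring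
  obtain ⟨H, iH, iSH, iBH, hSBH, fS, hfS⟩ : ∃ (H : Type u) (_ : AddCommGroup H) (_ : Module S H)
      (_ : Module B H) (_ : IsScalarTower S B H) (f : N →ₗ[S] H), IsLocalizedModule M f :=
    ⟨B ⊗[S] N, inferInstance, inferInstance, inferInstance, inferInstance,
      TensorProduct.mk S B N 1, IsLocalization.tensorProduct_isLocalizedModule M B⟩
  haveI := hfS
  letI iAH : Module A H := Module.compHom H (algebraMap A B)
  haveI : IsScalarTower A B H :=
    ⟨fun a b n => by rw [Algebra.smul_def]; exact mul_smul (algebraMap A B a) b n⟩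
  letI iRH : Module R H := Module.compHom H (algebraMap R S)
  haveI : IsScalarTower R S H :=
    ⟨fun a b n => by rw [Algebra.smul_def]; exact mul_smul (algebraMap R S a) b n⟩
  haveI : IsScalarTower R A H := ⟨fun r a h => by
    show algebraMap A B (r • a) • h = algebraMap R S r • (algebraMap A B a • h)
    rw [Algebra.smul_def, map_mul, mul_smul, hsq, algebraMap_smul]⟩
  haveI : IsLocalizedModule P.primeCompl (fS.restrictScalars R) :=
    IsLocalizedModule.restrictScalars P.primeCompl fS
  -- the stalk of the direct image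
  let T : Type u := ((Coh.push p).obj G).presheaf.stalk y
  letI iRT : Module R T := QC70.stalkModule ((Coh.push p).obj G) hyV
  haveI : IsScalarTower R A T :=
    ⟨fun r a t => show (algebraMap R A r * a) • t = algebraMap R A r • a • t from mul_smul _ _ _⟩
  let gT : N →ₗ[R] T :=
    { toFun := fun n => QC70.germM ((Coh.push p).obj G) V y hyV n
      map_add' := fun a b => QC70.germM_add (M := (Coh.push p).obj G) hyV a b
      map_smul' := fun r n => by
        have h1 : (show Γ((Coh.push p).obj G, V) from r • n) =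
            (show Γ(Y, V) from r) • (show Γ((Coh.push p).obj G, V) from n) :=
          (QCqs72.pushforward_smul _ _ _ _).symm
        exact (congrArg (QC70.germM _ V y hyV) h1).trans (QC70.germM_smul hyV _ _) }
  haveI : IsLocalizedModule P.primeCompl gT := by
    have h := QC70.isLocalizedModule_germ
      (QC70.isLocAt_of_isQuasicoherent ((Coh.push p).obj G) hV) hV hyV
    refine ⟨h.map_units, fun t => ?_, fun {a b} e => ?_⟩
    · obtain ⟨⟨n, s⟩, hn⟩ := h.surj t
      exact ⟨⟨n, s⟩, hn⟩
    · obtain ⟨c, hc⟩ := h.exists_of_eq (x₁ := a) (x₂ := b) e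
      refine ⟨c, ?_⟩
      exact ((QCqs72.pushforward_smul _ _ _ _).symm.trans hc).trans
        (QCqs72.pushforward_smul _ _ _ _)
  let eR : T ≃ₗ[R] H := IsLocalizedModule.linearEquiv P.primeCompl gT (fS.restrictScalars R)
  let e : T ≃ₗ[A] H :=
    { eR with map_smul' := (eR.toLinearMap.extendScalarsOfIsLocalization P.primeCompl A).map_smul' }
  -- finite length
  have hflA : IsFiniteLength A H := by
    haveI : Module.Finite B H := Module.Finite.equiv (IsLocalizedModule.isBaseChange M B fS).equiv
    haveI : Module.Finite A H := Module.Finite.trans B H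
    refine (S16234.result A H).1 fun v hv => ?_
    let eb : A ⊗[R] N ≃ₗ[A] H :=
      (IsLocalizedModule.isBaseChange P.primeCompl A (fS.restrictScalars R)).equiv
    rw [← eb.support_eq] at hv
    have hq := IntMult12.mem_support_of_baseChange (S := R) A hv
    let q := PrimeSpectrum.comap (algebraMap R A) v
    have hqP : q.asIdeal ≤ P := by
      rw [← IsLocalization.AtPrime.under_maximalIdeal A P]
      exact Ideal.comap_mono (le_maximalIdeal v.2.ne_top)
    rw [Module.mem_support_iff_of_finite] at hq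
    obtain ⟨Q, hQI, hQp, hQq⟩ := Ideal.exists_ideal_over_prime_of_isIntegral q.asIdeal
      (Module.annihilator S N) (fun r hr => hq (Module.mem_annihilator.2 fun n =>
        show algebraMap R S r • n = 0 from Module.mem_annihilator.1 hr n))
    obtain ⟨z, hzU, hz⟩ := QCSupp72.range_primeIdealOf hU ⟨Q, hQp⟩
    have hzS : z ∈ CohB1.support G := by
      rw [← QCSupp72.mem_support_iff G hU hzU, hz, Module.mem_support_iff_of_finite]
      exact hQI
    have hzV : p z ∈ V := hzU
    have hpz : (hV.primeIdealOf ⟨p z, hzV⟩).asIdeal = q.asIdeal := by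
      rw [Cyc90.primeIdealOf_apply p hV hU hzU, hz]
      exact hQq
    have hspec : p z ⤳ y :=
      (Div89.specializes_iff_primeAt_le ⟨V, hV⟩ hyV hzV).2 (hpz.le.trans hqP)
    have heq : q.asIdeal = P := by
      rw [← hpz]
      have h3 : (⟨p z, hzV⟩ : V) = ⟨y, hyV⟩ := Subtype.ext (hmax z hzS hspec)
      rw [h3]
    have hv' : v.asIdeal = maximalIdeal A := by
      refine le_antisymm (le_maximalIdeal v.2.ne_top) ?_
      rw [← IsLocalization.AtPrime.map_eq_maximalIdeal P A, ← heq]
      exact Ideal.map_comap_le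
    rw [hv']
    exact maximalIdeal.isMaximal A
  have hflB : IsFiniteLength B H := by
    have h := isFiniteLength_iff_isNoetherian_isArtinian.1 hflA
    exact isFiniteLength_iff_isNoetherian_isArtinian.2
      ⟨isNoetherian_of_tower A h.1, isArtinian_of_tower A h.2⟩
  refine ⟨?_, hft, ?_⟩
  · rw [e.length_eq]
    exact Module.length_ne_top_iff.2 hflA
  rw [e.length_eq, hlen H hflB]
  refine Finset.sum_congr rfl fun x _ => ?_
  congr 1
  -- the stalks upstairs
  let C : Type u := Z.presheaf.stalk x.1
  have hxU : x.1 ∈ U := by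
    show p x.1 ∈ V
    rw [show p x.1 = y from x.2]
    exact hyV
  letI iBC : Algebra B C := (φ x).toAlgebra
  letI iSC : Algebra S C := TopCat.Presheaf.algebra_section_stalk Z.presheaf ⟨x.1, hxU⟩
  haveI : IsScalarTower S B C := IsScalarTower.of_algebraMap_eq fun s => (hgerm x hxU s).symm
  haveI : IsLocalization.AtPrime C (hU.primeIdealOf ⟨x.1, hxU⟩).asIdeal :=
    hU.isLocalization_stalk ⟨x.1, hxU⟩
  letI iSG : Module S (G.presheaf.stalk x.1) := QC70.stalkModule G hxU
  haveI : IsScalarTower S C (G.presheaf.stalk x.1) :=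
    ⟨fun r a t => show (algebraMap S C r * a) • t = algebraMap S C r • a • t from mul_smul _ _ _⟩
  haveI : IsLocalizedModule (hU.primeIdealOf ⟨x.1, hxU⟩).asIdeal.primeCompl
      (QC70.germLinear G hxU) :=
    QC70.isLocalizedModule_germ (QC70.isLocAt_of_isQuasicoherent G hU) hU hxU
  let eG : C ⊗[S] N ≃ₗ[C] G.presheaf.stalk x.1 :=
    (IsLocalizedModule.isBaseChange (hU.primeIdealOf ⟨x.1, hxU⟩).asIdeal.primeCompl C
      (QC70.germLinear G hxU)).equiv
  let eB : B ⊗[S] N ≃ₗ[B] H := (IsLocalizedModule.isBaseChange M B fS).equiv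
  exact ((AlgebraTensorModule.congr (LinearEquiv.refl C C) eB.symm).trans
    ((AlgebraTensorModule.cancelBaseChange S B C C N).trans eG)).length_eq

/-- Stalks of a direct image vanish away from the image of the support. -/
theorem subsingleton_stalk_push (f : X ⟶ Y) [IsProper f] (F : X.Modules) [F.IsQuasicoherent]
    [F.IsFiniteType] (y : Y) (hy : ∀ x, f x = y → Subsingleton (F.presheaf.stalk x)) :
    Subsingleton (((Coh.push f).obj F).presheaf.stalk y) := by
  have hyS : y ∉ f '' CohB1.support F := by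
    rintro ⟨x, hx, rfl⟩
    exact hx (hy x rfl)
  let V : Y.Opens := ⟨(f '' CohB1.support F)ᶜ,
    (f.isClosedMap _ (QC70.isClosed_support F)).isOpen_compl⟩
  refine subsingleton_of_forall_eq 0 fun e => ?_
  obtain ⟨W, hxW, s, rfl⟩ := QC70.germM_exist e
  have hxV : y ∈ W ⊓ V := ⟨hxW, hyS⟩
  rw [← QC70.germM_res (inf_le_left : W ⊓ V ≤ W) hxV s]
  refine (congrArg (QC70.germM _ (W ⊓ V) y hxV) ?_).trans (QC70.germM_zero hxV)
  refine QC70.section_ext F _ _ fun q hq => ?_
  have hqs : Subsingleton (F.presheaf.stalk q) := by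
    by_contra hne
    exact hq.2 ⟨q, hne, rfl⟩
  obtain ⟨U, hU, hsub⟩ := QC70.exists_nhd_sections_subsingleton q hqs
  exact ⟨U ⊓ f ⁻¹ᵁ (W ⊓ V), inf_le_right, ⟨hU, hq⟩, @Subsingleton.elim _ (hsub _ inf_le_left) _ _⟩

open Classical in
set_option maxHeartbeats 800000 in
/-- `f_*[F]_k = [f_*F]_k`. -/
theorem map_sheafFun (f : X ⟶ Y) [IsProper f] {δX : X → ℤ} {δY : Y → ℤ} [IsLocallyNoetherian Y]
    (hX : Cyc.IsDimFun X δX) (hY : Cyc.IsDimFun Y δY) (hδ : Cyc.DeltaCompat f δX δY) (k : ℤ) (F : X.Modules)
    (hF : Coh.IsCoh F) (hdim : ∀ x : X, Nontrivial (F.presheaf.stalk x) → δX x ≤ k)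
    (α : AlgebraicCycle X ℤ) (hα : ⇑α = Cyc.sheafFun δX k F) :
    ⇑(AlgebraicCycle.map f δX δY α) = Cyc.sheafFun δY k ((Coh.push f).obj F) := by
  obtain ⟨hFq, hFf⟩ := hF
  haveI := hFq
  haveI := hFf
  funext y
  have hmap : AlgebraicCycle.map f δX δY α y =
      ∑ᶠ x ∈ f ⁻¹' {y}, α x * (AlgebraicCycle.mapCoeff f δX δY x : ℤ) := rfl
  rw [hmap]
  have hge : ∀ x, δY (f x) ≤ δX x := fun x => by
    obtain ⟨n, -, hd⟩ := hδ x
    omega
  by_cases hy : δY y = k
  swap
  · simp only [Cyc.sheafFun, if_neg hy]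
    refine (finsum_mem_congr rfl fun x hx => ?_).trans (finsum_mem_zero _)
    rw [hα]
    simp only [Cyc.sheafFun, AlgebraicCycle.mapCoeff]
    split_ifs with h1 h2
    · exact absurd ((congrArg δY (show f x = y from hx)).symm.trans (h2.symm.trans h1)) hy
    all_goals simp
  -- the scheme theoretic support
  let J := QCPull72.annSheaf F
  let i := J.subschemeι
  haveI := QCPull72.isIso_pullUnit_annSheaf F
  let G := (Scheme.Modules.pullback i).obj F
  haveI : IsLocallyNoetherian X := LocallyOfFiniteType.isLocallyNoetherian f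
  haveI : IsLocallyNoetherian J.subscheme := LocallyOfFiniteType.isLocallyNoetherian i
  have hG : Coh.IsCoh G :=
    ⟨QCPull72.isQuasicoherent_pullback i F, QCPull72.isFiniteType_pullback i F⟩
  let eF : F ≅ (Coh.push i).obj G := asIso (QCPull72.pullUnit i F)
  have hrange : Set.range i = CohB1.support F := by
    rw [Scheme.IdealSheafData.range_subschemeι]
    exact QCPull72.support_annSheaf F
  have hdimZ : ∀ z, δX (i z) ≤ k := fun z =>
    hdim _ (not_subsingleton_iff_nontrivial.1 (hrange.le ⟨z, rfl⟩))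
  let p : J.subscheme ⟶ Y := i ≫ f
  have hpfib : ∀ z, p z = y → δX (i z) = k := fun z hz => by
    have h1 := hge (i z)
    rw [show f (i z) = y from hz, hy] at h1
    exact le_antisymm (hdimZ z) h1
  have hδp : Cyc.DeltaCompat p (fun z => δX (i z)) δY :=
    IntMult12.deltaCompat_trans (Cyc90.deltaCompat_preimmersion i δX) hδ
  have hfdeg : ∀ z, p z = y → E4O.fdeg p z = 0 := fun z hz => by
    have h1 := Cyc90.delta_eq_add_fdeg p hδp z
    simp only [hz, hpfib z hz, hy] at h1
    omega
  obtain ⟨W, hyW, hW⟩ := Cyc90.exists_isFinite_restrict p y hfdeg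
  haveI := hW
  obtain ⟨V, hyV, hU, hfin⟩ := IntMult12.exists_affine_finite p y W hyW
  haveI : IsNoetherianRing (Y.presheaf.stalk y) := inferInstance
  obtain ⟨-, hft, hlen⟩ := length_stalk_push_finite p y V.1 V.2 hyV hU hfin G hG
    (fun z hz hspec => by
      by_contra hne
      have h1 := (hY _ _ hspec hne).1
      have h2 := hge (i z)
      have h3 := hdimZ z
      have h4 : δY (p z) = δY (f (i z)) := rfl
      omega)
  -- identify both sides
  let eP : (Coh.push f).obj F ≅ (Coh.push p).obj G :=
    (Coh.push f).mapIso eF ≪≫ (Scheme.Modules.pushforwardComp i f).app G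
  let s1 : ((Coh.push f).obj F).presheaf.stalk y ≃ₗ[Y.presheaf.stalk y]
      ((Coh.push p).obj G).presheaf.stalk y :=
    LinearEquiv.ofBijective (QC70.stalkLinear eP.hom y)
      (QC70.bijective_stalkMapM_of_isIso eP.hom y)
  have hR : Module.length (Y.presheaf.stalk y) (((Coh.push f).obj F).presheaf.stalk y) =
      ∑ x : ↥(p ⁻¹' {y}), (p.residueDegree x.1 : ℕ∞) *
        Module.length (J.subscheme.presheaf.stalk x.1) (G.presheaf.stalk x.1) := by
    rw [s1.length_eq, hlen]
  have hGx : ∀ z, Module.length (J.subscheme.presheaf.stalk z) (G.presheaf.stalk z) =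
      Module.length (X.presheaf.stalk (i z)) (F.presheaf.stalk (i z)) := fun z => by
    rw [(LinearEquiv.ofBijective (QC70.stalkLinear eF.hom (i z))
      (QC70.bijective_stalkMapM_of_isIso eF.hom (i z))).length_eq]
    exact (Cyc90.length_stalk_push i G z).symm
  let T : Finset X := Finset.univ.image fun z : ↥(p ⁻¹' {y}) => i z.1
  have hTfib : ∀ x ∈ T, f x = y := fun x hx => by
    obtain ⟨z, -, rfl⟩ := Finset.mem_image.1 hx
    exact z.2
  have hout : ∀ x, f x = y → x ∉ T → α x = 0 := fun x hx hxT => by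
    have hs : Subsingleton (F.presheaf.stalk x) := by
      by_contra hne
      obtain ⟨z, rfl⟩ := hrange.ge hne
      exact hxT (Finset.mem_image.2 ⟨⟨z, hx⟩, Finset.mem_univ _, rfl⟩)
    simp [hα, Cyc.sheafFun, Module.length_eq_zero]
  refine (finsum_mem_eq_sum_of_subset (fun x => α x * (AlgebraicCycle.mapCoeff f δX δY x : ℤ))
    (t := T) (fun x hx => ?_) hTfib).trans ?_
  · by_contra hxT
    refine hx.2 ?_
    simp only [hout x hx.1 hxT, zero_mul]
  rw [Finset.sum_image fun a _ b _ h => Subtype.ext (i.isClosedEmbedding.injective h)]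
  have hne : ∀ z : ↥(p ⁻¹' {y}),
      Module.length (J.subscheme.presheaf.stalk z.1) (G.presheaf.stalk z.1) ≠ ⊤ := fun z => by
    rw [hGx]
    exact Cyc90.length_stalk_ne_top F ⟨hFq, hFf⟩ _
      (Cyc90.eq_of_delta_eq hX (fun x hx => hdim x hx) (hpfib z.1 z.2))
  let n : ↥(p ⁻¹' {y}) → ℕ := fun z =>
    (Module.length (J.subscheme.presheaf.stalk z.1) (G.presheaf.stalk z.1)).toNat
  have hRn : Module.length (Y.presheaf.stalk y) (((Coh.push f).obj F).presheaf.stalk y) =
      ((∑ z : ↥(p ⁻¹' {y}), p.residueDegree z.1 * n z : ℕ) : ℕ∞) := by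
    rw [hR, Nat.cast_sum]
    refine Finset.sum_congr rfl fun z _ => ?_
    rw [Nat.cast_mul, ENat.natCast_toNat (hne z)]
  simp only [Cyc.sheafFun, if_pos hy]
  rw [hRn, ENat.toNat_natCast, Nat.cast_sum]
  refine Finset.sum_congr rfl fun z _ => ?_
  have hz : δX (i z.1) = k := hpfib z.1 z.2
  have hfy : f (i z.1) = y := z.2
  have hdeg : p.residueDegree z.1 = f.residueDegree (i z.1) := by
    rw [Div89.residueDegree_comp,
      Cyc90.residueDegree_of_surjective _ _ (Cyc90.residueFieldMap_surjective i z.1), mul_one]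
  simp only [hα, Cyc.sheafFun, if_pos hz, AlgebraicCycle.mapCoeff, ← hGx]
  rw [if_pos (hz.trans (hy.symm.trans (congrArg δY hfy.symm))), ← hdeg, Nat.cast_mul, mul_comm]

end Groth.Agent.FGA29
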