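import Groth.Agent.FGA29.IntNumBasic
import Groth.Agent.Cyc90.Dev.ChernOps
import Groth.Agent.Cyc90.FieldSetup
import Groth.Agent.Snapper75.Top
import Groth.Agent.An92.Ample.Inverse
import Groth.Agent.Curves2.Ample.ClosedPush
import Groth.Prelude.Def_Pic13

/-! Intersection symbols only depend on the degrees on curves. -/

set_option autoImplicit false
set_option backward.isDefEq.respectTransparency.types false
set_option linter.style.haveILetI false
universe u

open CategoryTheory CategoryTheory.Limits AlgebraicGeometry TopologicalSpace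

noncomputable section

namespace Groth.Agent.FGA29

variable (k : Type u) [Field k] {X : Scheme.{u}} [X.Over (Spec (CommRingCat.of k))]

/-- The transcendence degree is a dimension function over the ground field. -/
theorem deltaCompat_tdegN [LocallyOfFiniteType (X ↘ Spec (CommRingCat.of k))] :
    Cyc.DeltaCompat (X ↘ Spec (CommRingCat.of k))
      (fun x => (WC97.tdegN (X ↘ Spec (CommRingCat.of k)) x : ℤ)) (fun _ => 0) := by
  intro x
  let f := X ↘ Spec (CommRingCat.of k)
  letI a1 : Algebra k (X.residueField x) := (WC97.kStr f x).toAlgebra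
  letI a2 : Algebra k ((Spec (CommRingCat.of k)).residueField (f x)) :=
    (WC97.kStr (𝟙 (Spec (CommRingCat.of k))) (f x)).toAlgebra
  letI a3 : Algebra ((Spec (CommRingCat.of k)).residueField (f x)) (X.residueField x) :=
    (f.residueFieldMap x).hom.toAlgebra
  have : IsScalarTower k ((Spec (CommRingCat.of k)).residueField (f x)) (X.residueField x) :=
    .of_algebraMap_eq fun r =>
      RingHom.congr_fun (WC97.kStr_comp f f (𝟙 _) (Category.comp_id _) x) r
  have hsurj : Function.Surjective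
      (algebraMap k ((Spec (CommRingCat.of k)).residueField (f x))) :=
    Cyc90.Dev.surjective_kStr_id (f x)
  have : Module.Finite k ((Spec (CommRingCat.of k)).residueField (f x)) :=
    Module.Finite.of_surjective (Algebra.linearMap k _) hsurj
  refine ⟨WC97.tdegN f x, ?_, (zero_add _).symm⟩
  rw [← WC97.tdeg_eq_natCast f x]
  show _ = Algebra.trdeg k (X.residueField x)
  rw [← trdeg_add_eq k ((Spec (CommRingCat.of k)).residueField (f x)) (A := X.residueField x),
    trdeg_eq_zero (R := k) (A := (Spec (CommRingCat.of k)).residueField (f x)), zero_add]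

omit [X.Over (Spec (CommRingCat.of k))] in
theorem famTensor_comp {r : ℕ} (M : Fin r → X.Modules) (σ : Equiv.Perm (Fin r)) (I : Finset (Fin r)) :
    PicF.cl (Cyc90.Dev.famTensor (fun i => M (σ i)) I) =
      PicF.cl (Cyc90.Dev.famTensor M (I.map σ.toEmbedding)) := by
  rw [cl_famTensor, cl_famTensor, Finset.prod_map]
  rfl

/-- The symbol is symmetric. -/
theorem intE_perm {r : ℕ} (M : Fin r → X.Modules) (σ : Equiv.Perm (Fin r)) (F : X.Modules) :
    Cyc90.Dev.intE k (fun i => M (σ i)) F = Cyc90.Dev.intE k M F := by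
  classical
  refine Fintype.sum_equiv (Equiv.finsetCongr σ) _ _ fun I => ?_
  rw [Equiv.finsetCongr_apply, Finset.card_map,
    euler_cl k (F := CohB1.tensorMod (Cyc90.Dev.famTensor (fun i => M (σ i)) I) F)
      (G := CohB1.tensorMod (Cyc90.Dev.famTensor M (I.map σ.toEmbedding)) F)
      (by rw [cl_tensor, cl_tensor, famTensor_comp])]

theorem intE_one (A : X.Modules) (F : X.Modules) :
    Cyc90.Dev.intE k (fun _ : Fin 1 => A) F =
      Curv2.euler k X F - Curv2.euler k X (CohB1.tensorMod F A) := by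
  rw [Cyc90.Dev.intE_succ, intE_zero, intE_zero]

variable [IsProper (X ↘ Spec (CommRingCat.of k))]

section Delta

variable {δ : X → ℤ} (hδ : Cyc.DeltaCompat (X ↘ Spec (CommRingCat.of k)) δ (fun _ => 0))
  (hX : Cyc.IsSetup X δ)
include hδ hX

theorem cohLe_of_dim_le {F : X.Modules} (hF : Coh.IsCoh F) {r : ℕ}
    (hr : topologicalKrullDim (CohB1.support F) ≤ (r : WithBot ℕ∞)) : Cyc.CohLe δ (r : ℤ) F :=
  haveI := hF.2
  ⟨hF, fun x hx => Cyc90.Dev.delta_le_of_dim_closure_le hδ (le_trans (LC17.dim_mono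
    ((QC70.isClosed_support F).closure_subset_iff.2
      (Set.singleton_subset_iff.2 (not_subsingleton_iff_nontrivial.2 hx)))) hr)⟩

theorem cohLe_css {ξ : X} {r : ℤ} (hξ : δ ξ ≤ r) : Cyc.CohLe δ r (Cyc.closureStructureSheaf ξ) :=
  haveI := hX.1
  ⟨Cyc90.CycSh.isCoh_css ξ, fun _ hx => (Cyc90.delta_le hX.2.2
    (Cyc90.CycSh.specializes_of_mem_support (not_subsingleton_iff_nontrivial.2 hx))).trans hξ⟩

open Classical in
theorem sheafFun_css (ξ : X) :
    Cyc.sheafFun δ (δ ξ) (Cyc.closureStructureSheaf ξ) = fun x => if x = ξ then 1 else 0 := by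
  classical
  have := hX.1
  funext x
  split_ifs with h
  · subst h
    rw [Cyc.sheafFun, if_pos rfl, Cyc90.CycSh.length_css]
    rfl
  · by_cases hd : δ x = δ ξ
    · refine Cyc90.Dev.sheafFun_eq_zero (QC70.notMem_support_iff.1 fun hs => h ?_)
      exact (Cyc90.eq_of_delta_le hX.2.2 (Cyc90.CycSh.specializes_of_mem_support hs) hd.ge).symm
    · exact if_neg hd

theorem degFun_secDiv {L A : X.Modules} (hL : PicF.IsInvertible L)
    (hA : Nonempty (CohB1.tensorMod A L ≅ Coh.structureModule X))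
    (s : (ξ : X) → Cyc.secFibre L ξ) (hs : ∀ ξ, s ξ ≠ 0) {ξ : X} (hξ : δ ξ = 1) :
    Cyc90.Dev.degFun k (Cyc.secDivFun δ L ξ (s ξ)) =
      Cyc90.Dev.intE k (fun _ : Fin 1 => A) (Cyc.closureStructureSheaf ξ) := by
  classical
  rw [Cyc90.Dev.intE_eq_degFun k hδ hX (fun _ : Fin 1 => L) (fun _ => A) (fun _ => hL) (fun _ => hA)
    (fun _ => s) (fun _ => hs) _ (cohLe_css k hδ hX (by rw [hξ]; simp))]
  refine congrArg _ ?_
  rw [show ((1 : ℕ) : ℤ) = δ ξ from hξ.symm, sheafFun_css k hδ hX ξ]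
  funext x
  rw [Cyc90.Dev.capIter, dif_pos Nat.one_pos, Cyc90.Dev.capIter, Cyc.c1CapFun,
    finsum_eq_single _ ξ fun η hη => by rw [if_neg hη, zero_mul], if_pos rfl, one_mul]

omit hδ in
theorem degFun_c1Cap {L : X.Modules} (hL : PicF.IsInvertible L) {α : X → ℤ}
    (hα : (Function.support α).Finite) (s : (ξ : X) → Cyc.secFibre L ξ) (hs : ∀ ξ, s ξ ≠ 0) :
    Cyc90.Dev.degFun k (Cyc.c1CapFun δ L α s) =
      ∑ ξ ∈ hα.toFinset, α ξ * Cyc90.Dev.degFun k (Cyc.secDivFun δ L ξ (s ξ)) := by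
  classical
  have h1 : ∀ x, Cyc.c1CapFun δ L α s x =
      ∑ ξ ∈ hα.toFinset, α ξ * Cyc.secDivFun δ L ξ (s ξ) x := fun x =>
    finsum_eq_sum_of_support_subset _ fun ξ hξ =>
      hα.mem_toFinset.2 (left_ne_zero_of_mul (Function.mem_support.1 hξ))
  simp only [Cyc90.Dev.degFun, h1, Finset.mul_sum]
  rw [finsum_sum_comm]
  · refine Finset.sum_congr rfl fun ξ _ => ?_
    rw [mul_finsum' _ _ ?_]
    · exact finsum_congr fun x => by ring
    · exact (Cyc90.Dev.finite_support_secDiv k hX hL ξ (s ξ) (hs ξ)).subset fun x hx =>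
        right_ne_zero_of_mul (Function.mem_support.1 hx)
  · exact fun ξ _ => (Cyc90.Dev.finite_support_secDiv k hX hL ξ (s ξ) (hs ξ)).subset fun x hx =>
      right_ne_zero_of_mul (right_ne_zero_of_mul (Function.mem_support.1 hx))

/-- Symbols with the same first entries and curve-wise equal last entries agree. -/
theorem intE_snoc_congr {r : ℕ} {M₀ : Fin r → X.Modules} (hM₀ : ∀ i, PicF.IsInvertible (M₀ i))
    {A B : X.Modules} (hA : PicF.IsInvertible A) (hB : PicF.IsInvertible B) {F : X.Modules}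
    (hF : Cyc.CohLe δ ((r + 1 : ℕ) : ℤ) F)
    (h : ∀ ξ, δ ξ = 1 →
      Cyc90.Dev.intE k (fun _ : Fin 1 => A) (Cyc.closureStructureSheaf ξ) =
        Cyc90.Dev.intE k (fun _ : Fin 1 => B) (Cyc.closureStructureSheaf ξ)) :
    Cyc90.Dev.intE k (Fin.snoc M₀ A) F = Cyc90.Dev.intE k (Fin.snoc M₀ B) F := by
  classical
  have inv : ∀ {T : X.Modules}, PicF.IsInvertible T → ∃ L, PicF.IsInvertible L ∧
      Nonempty (CohB1.tensorMod T L ≅ Coh.structureModule X) := fun {T} hT => by
    obtain ⟨L, hL, ⟨e⟩⟩ := An92.InvMod.exists_inverse hT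
    exact ⟨L, hL, ⟨EGA73.tensComm T L ≪≫ e⟩⟩
  choose L₀ hL₀ hML₀ using fun i => inv (hM₀ i)
  choose s₀ hs₀ using fun i => Cyc90.Dev.exists_secFibre_family (hL₀ i)
  let α : X → ℤ := Cyc90.Dev.capIter δ L₀ s₀ (Cyc.sheafFun δ ((r + 1 : ℕ) : ℤ) F) r
  have hsupp : (Function.support (Cyc.sheafFun δ ((r + 1 : ℕ) : ℤ) F)).Finite :=
    Cyc90.Dev.IsCycFun.finite_support k (Cyc90.Dev.isCycFun_sheafFun hX hF)
  have hα : (Function.support α).Finite := Cyc90.Dev.finite_capIter k hX hL₀ hsupp s₀ hs₀ r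
  have hdim : ∀ i, i ≤ r → ∀ x, Cyc90.Dev.capIter δ L₀ s₀ (Cyc.sheafFun δ ((r + 1 : ℕ) : ℤ) F) i x ≠ 0 →
      δ x + (i : ℤ) = ((r + 1 : ℕ) : ℤ) := by
    intro i
    induction i with
    | zero =>
      intro _ x hx
      simp [(Cyc90.Dev.isCycFun_sheafFun hX hF).dim x (by simpa [Cyc90.Dev.capIter] using hx)]
    | succ i ih =>
      intro hi x hx
      rw [Cyc90.Dev.capIter, dif_pos (show i < r by omega)] at hx
      obtain ⟨η, hη⟩ : ∃ η, Cyc90.Dev.capIter δ L₀ s₀ (Cyc.sheafFun δ ((r + 1 : ℕ) : ℤ) F) i η *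
          Cyc.secDivFun δ (L₀ ⟨i, by omega⟩) η (s₀ _ η) x ≠ 0 := by
        by_contra hall
        push Not at hall
        exact hx (finsum_eq_zero_of_forall_eq_zero hall)
      have h1 := ih (by omega) η (left_ne_zero_of_mul hη)
      have h2 := right_ne_zero_of_mul hη
      unfold Cyc.secDivFun at h2
      split_ifs at h2 with hc
      · push_cast at h1 ⊢
        omega
      · exact absurd rfl h2
  have key : ∀ T : X.Modules, PicF.IsInvertible T → Cyc90.Dev.intE k (Fin.snoc M₀ T) F =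
      ∑ ξ ∈ hα.toFinset, α ξ *
        Cyc90.Dev.intE k (fun _ : Fin 1 => T) (Cyc.closureStructureSheaf ξ) := by
    intro T hT
    obtain ⟨L, hL, hTL⟩ := inv hT
    obtain ⟨s, hs⟩ := Cyc90.Dev.exists_secFibre_family hL
    let P : Fin (r + 1) → Σ N : X.Modules, ((ξ : X) → Cyc.secFibre N ξ) :=
      Fin.snoc (fun j => ⟨L₀ j, s₀ j⟩) ⟨L, s⟩
    have hPl : P (Fin.last r) = ⟨L, s⟩ := Fin.snoc_last _ _
    have hPc : ∀ j : Fin r, P j.castSucc = ⟨L₀ j, s₀ j⟩ := fun j => Fin.snoc_castSucc _ _ _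
    have hP : ∀ i, PicF.IsInvertible (P i).1 ∧
        Nonempty (CohB1.tensorMod ((Fin.snoc M₀ T : Fin (r + 1) → X.Modules) i) (P i).1 ≅
          Coh.structureModule X) ∧ ∀ ξ, (P i).2 ξ ≠ 0 := fun i => by
      induction i using Fin.lastCases with
      | last => rw [hPl, Fin.snoc_last]; exact ⟨hL, hTL, hs⟩
      | cast j => rw [hPc, Fin.snoc_castSucc]; exact ⟨hL₀ j, hML₀ j, hs₀ j⟩
    have hiter : ∀ i, i ≤ r → Cyc90.Dev.capIter δ (fun i => (P i).1) (fun i => (P i).2)
        (Cyc.sheafFun δ ((r + 1 : ℕ) : ℤ) F) i =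
        Cyc90.Dev.capIter δ L₀ s₀ (Cyc.sheafFun δ ((r + 1 : ℕ) : ℤ) F) i := by
      intro i
      induction i with
      | zero => exact fun _ => rfl
      | succ i ih =>
        intro hi
        rw [Cyc90.Dev.capIter, dif_pos (show i < r + 1 by omega), ih (by omega), Cyc90.Dev.capIter,
          dif_pos (show i < r by omega)]
        exact congrArg (fun p : Σ N : X.Modules, ((ξ : X) → Cyc.secFibre N ξ) =>
          Cyc.c1CapFun δ p.1 _ p.2) (hPc ⟨i, by omega⟩)
    rw [Cyc90.Dev.intE_eq_degFun k hδ hX (fun i => (P i).1) (Fin.snoc M₀ T)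
      (fun i => (hP i).1) (fun i => (hP i).2.1)
      (fun i => (P i).2) (fun i => (hP i).2.2) F hF, Cyc90.Dev.capIter, dif_pos (Nat.lt_succ_self r),
      hiter r le_rfl,
      congrArg (fun p : Σ N : X.Modules, ((ξ : X) → Cyc.secFibre N ξ) => Cyc.c1CapFun δ p.1 _ p.2)
        (show P ⟨r, Nat.lt_succ_self r⟩ = ⟨L, s⟩ from hPl)]
    show Cyc90.Dev.degFun k (Cyc.c1CapFun δ L α s) = _
    rw [degFun_c1Cap k hX hL hα s hs]
    refine Finset.sum_congr rfl fun ξ hξ => ?_
    have h1 := hdim r le_rfl ξ (hα.mem_toFinset.1 hξ)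
    rw [degFun_secDiv k hδ hX hL hTL s hs (by push_cast at h1; omega)]
  rw [key A hA, key B hB]
  refine Finset.sum_congr rfl fun ξ hξ => ?_
  have h1 := hdim r le_rfl ξ (hα.mem_toFinset.1 hξ)
  rw [h ξ (by push_cast at h1; omega)]

end Delta

omit [X.Over (Spec (CommRingCat.of k))] [IsProper (X ↘ Spec (CommRingCat.of k))] in
theorem dim_ptScheme (ξ : X) :
    topologicalKrullDim (IntMult.ptIdeal ξ).subscheme = topologicalKrullDim (closure ({ξ} : Set X)) := by
  rw [IsHomeomorph.topologicalKrullDim_eq _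
    (IntMult.ptIdeal ξ).subschemeι.isClosedEmbedding.isEmbedding.toHomeomorph.isHomeomorph]
  rw [Scheme.IdealSheafData.range_subschemeι, IntMult.ptIdeal,
    Scheme.IdealSheafData.coe_support_vanishingIdeal]
  rfl

/-- The symbol of a curve is minus the degree of the restriction. -/
theorem intE_css_eq_neg_curveDeg {A : X.Modules} (hA : PicF.IsInvertible A) {ξ : X}
    (hξ : topologicalKrullDim (IntMult.ptIdeal ξ).subscheme = 1) :
    Cyc90.Dev.intE k (fun _ : Fin 1 => A) (Cyc.closureStructureSheaf ξ) =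
      - Pic13.curveDeg k ((IntMult.ptIdeal ξ).subschemeι ≫ (X ↘ Spec (CommRingCat.of k)))
        ((Scheme.Modules.pullback (IntMult.ptIdeal ξ).subschemeι).obj A) := by
  set ι := (IntMult.ptIdeal ξ).subschemeι
  let Y := (IntMult.ptIdeal ξ).subscheme
  letI : Y.Over (Spec (CommRingCat.of k)) := ⟨ι ≫ (X ↘ Spec (CommRingCat.of k))⟩
  haveI : IsProper (Y ↘ Spec (CommRingCat.of k)) :=
    inferInstanceAs (IsProper (ι ≫ (X ↘ Spec (CommRingCat.of k))))
  haveI := Crv77.isNoetherian_of_proper k X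
  haveI : IsLocallyNoetherian Y := LocallyOfFiniteType.isLocallyNoetherian ι
  have hY : topologicalKrullDim Y ≤ (1 : ℕ) := by exact_mod_cast hξ.le
  have hA' : PicF.IsInvertible ((Scheme.Modules.pullback ι).obj A) := Amp73.isInvertible_pullback ι hA
  obtain ⟨e⟩ := Curves2.Ample.nonempty_push_unit_tensor ι hA
  rw [intE_one, Pic13.curveDeg]
  show _ = -(FGA.eulerCharLE k Y _ 1 - FGA.eulerCharLE k Y _ 1)
  rw [eulerCharLE_eq_euler k hY (Amp73.isCoh_of_isInvertible hA'),
    eulerCharLE_eq_euler k hY Crv77.isCoh_structureModule, neg_sub,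
    ← Curves2.Ample.euler_push k ι rfl _ Crv77.isCoh_structureModule,
    ← Curves2.Ample.euler_push k ι rfl _ (Amp73.isCoh_of_isInvertible hA'), ← Crv77.euler_congr e]
  rfl

/-- Intersection symbols depend only on degrees on curves. -/
theorem intE_congr_curveDeg {r : ℕ} {M M' : Fin r → X.Modules} (hM : ∀ i, PicF.IsInvertible (M i))
    (hM' : ∀ i, PicF.IsInvertible (M' i))
    (hnum : ∀ (i : Fin r) (Y : Scheme.{u}) (ι : Y ⟶ X) [IsClosedImmersion ι], IsIntegral Y →
      topologicalKrullDim Y = 1 →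
      Pic13.curveDeg k (ι ≫ (X ↘ Spec (CommRingCat.of k))) ((Scheme.Modules.pullback ι).obj (M i)) =
        Pic13.curveDeg k (ι ≫ (X ↘ Spec (CommRingCat.of k))) ((Scheme.Modules.pullback ι).obj (M' i)))
    {F : X.Modules} (hF : Coh.IsCoh F)
    (hr : topologicalKrullDim (CohB1.support F) ≤ (r : WithBot ℕ∞)) :
    Cyc90.Dev.intE k M F = Cyc90.Dev.intE k M' F := by
  classical
  have hδ := deltaCompat_tdegN (X := X) k
  have hX := Cyc90.isSetup_of_field (X ↘ Spec (CommRingCat.of k)) _ hδ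
  rcases r with _ | r
  · rw [intE_zero, intE_zero]
  have hFle := cohLe_of_dim_le k hδ hX hF hr
  have hcurve : ∀ j ξ, (WC97.tdegN (X ↘ Spec (CommRingCat.of k)) ξ : ℤ) = 1 →
      Cyc90.Dev.intE k (fun _ : Fin 1 => M j) (Cyc.closureStructureSheaf ξ) =
        Cyc90.Dev.intE k (fun _ : Fin 1 => M' j) (Cyc.closureStructureSheaf ξ) := by
    intro j ξ hξ
    have hd : topologicalKrullDim (IntMult.ptIdeal ξ).subscheme = 1 := by
      rw [dim_ptScheme, WC97.topologicalKrullDim_closure (X ↘ Spec (CommRingCat.of k)) ξ,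
        show WC97.tdegN (X ↘ Spec (CommRingCat.of k)) ξ = 1 by exact_mod_cast hξ]
      rfl
    rw [intE_css_eq_neg_curveDeg k (hM j) hd, intE_css_eq_neg_curveDeg k (hM' j) hd,
      hnum j (IntMult.ptIdeal ξ).subscheme (IntMult.ptIdeal ξ).subschemeι
        (Snapper75.isIntegral_ptScheme ξ) hd]
  -- replace one entry at a time
  have step : ∀ (S : Finset (Fin (r + 1))) (j : Fin (r + 1)), j ∉ S →
      Cyc90.Dev.intE k (fun i => if i ∈ S then M' i else M i) F =
        Cyc90.Dev.intE k (fun i => if i ∈ insert j S then M' i else M i) F := by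
    intro S j hj
    let σ : Equiv.Perm (Fin (r + 1)) := Equiv.swap j (Fin.last r)
    rw [← intE_perm k (fun i => if i ∈ S then M' i else M i) σ,
      ← intE_perm k (fun i => if i ∈ insert j S then M' i else M i) σ]
    let M₀ : Fin r → X.Modules := fun i => if σ i.castSucc ∈ S then M' (σ i.castSucc) else M (σ i.castSucc)
    have hne : ∀ i : Fin r, σ i.castSucc ≠ j := fun i h => by
      have h2 := congrArg σ h
      rw [Equiv.swap_apply_self, Equiv.swap_apply_left] at h2
      exact Fin.castSucc_ne_last i h2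
    have e1 : (fun i => if σ i ∈ S then M' (σ i) else M (σ i)) = Fin.snoc M₀ (M j) := by
      funext i
      induction i using Fin.lastCases with
      | last => simp [σ, hj]
      | cast i => simp [M₀]
    have e2 : (fun i => if σ i ∈ insert j S then M' (σ i) else M (σ i)) = Fin.snoc M₀ (M' j) := by
      funext i
      induction i using Fin.lastCases with
      | last => simp [σ]
      | cast i => simp [M₀, hne i]
    rw [e1, e2]
    exact intE_snoc_congr k hδ hX (fun i => by dsimp only [M₀]; split_ifs <;> [exact hM' _; exact hM _])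
      (hM j) (hM' j) hFle (hcurve j)
  have main : ∀ S : Finset (Fin (r + 1)),
      Cyc90.Dev.intE k M F = Cyc90.Dev.intE k (fun i => if i ∈ S then M' i else M i) F := by
    intro S
    induction S using Finset.induction_on with
    | empty => simp
    | insert j S hj ih => exact ih.trans (step S j hj)
  simpa using main Finset.univ

end Groth.Agent.FGA29
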