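import Groth.Agent.Mum71.LocalModel
import Groth.Agent.Mum71.SchemeRows
import Groth.Agent.FCx40.Semicont
import Groth.Agent.Var76.SuppVanish
import Groth.Agent.Crv77.Bound
import Groth.Agent.Crv77.RR
import Groth.Agent.WC97.Dim
import Groth.Agent.Coh69.AffinePush
import Groth.Prelude.Def_FGA

/-! Local constancy of the Euler characteristic in a flat family over any base. -/

set_option autoImplicit false
set_option maxSynthPendingDepth 6
set_option backward.isDefEq.respectTransparency.types false
set_option linter.style.haveILetI false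
universe u

open CategoryTheory CategoryTheory.Limits AlgebraicGeometry TopologicalSpace TensorProduct

noncomputable section

namespace Groth.Agent.FGA29.EulerLC

section Algebra

variable {A : Type u} [CommRing A]

/-- Fibre dimensions at a field-valued point. -/
theorem finrank_tensor_eq_fib (K : Type u) [Field K] [Algebra A K] (M : Type u) [AddCommGroup M] [Module A M]
    (x : PrimeSpectrum A) (hx : x.asIdeal = RingHom.ker (algebraMap A K)) :
    Module.finrank K (K ⊗[A] M) = FCx40.fib M x := by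
  have hle : ∀ a : A, a ∈ x.asIdeal → algebraMap A K a = 0 := fun a ha => by
    rwa [hx, RingHom.mem_ker] at ha
  let g : A ⧸ x.asIdeal →+* K := Ideal.Quotient.lift _ (algebraMap A K) hle
  have hg : Function.Injective g := by
    rw [injective_iff_map_eq_zero]
    intro b hb
    obtain ⟨b, rfl⟩ := Ideal.Quotient.mk_surjective b
    rw [Ideal.Quotient.eq_zero_iff_mem, hx, RingHom.mem_ker]
    exact hb
  let j : x.asIdeal.ResidueField →+* K := IsFractionRing.lift (A := A ⧸ x.asIdeal) (g := g) hg
  letI : Algebra x.asIdeal.ResidueField K := j.toAlgebra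
  haveI : IsScalarTower A x.asIdeal.ResidueField K := .of_algebraMap_eq fun a => by
    rw [RingHom.algebraMap_toAlgebra, IsScalarTower.algebraMap_apply A (A ⧸ x.asIdeal) x.asIdeal.ResidueField]
    exact (IsFractionRing.lift_algebraMap (A := A ⧸ x.asIdeal) (K := x.asIdeal.ResidueField)
      hg (Ideal.Quotient.mk x.asIdeal a)).symm
  rw [← (TensorProduct.AlgebraTensorModule.cancelBaseChange A x.asIdeal.ResidueField K K M).finrank_eq,
    Module.finrank_baseChange]
  rfl

/-- Fibre dimension of a cokernel. -/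
theorem finrank_quot_range (K : Type u) [Field K] [Algebra A K] {P Q : Type u} [AddCommGroup P] [Module A P]
    [AddCommGroup Q] [Module A Q] (f : P →ₗ[A] Q) (x : PrimeSpectrum A)
    (hx : x.asIdeal = RingHom.ker (algebraMap A K)) :
    Module.finrank K ((K ⊗[A] Q) ⧸ LinearMap.range (f.baseChange K)) =
      FCx40.fib (Q ⧸ LinearMap.range f) x := by
  rw [← finrank_tensor_eq_fib K _ x hx]
  refine LinearEquiv.finrank_eq ((Submodule.quotEquivOfEq _
      (LinearMap.ker ((LinearMap.range f).mkQ.baseChange K)) ?_).trans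
    (((LinearMap.range f).mkQ.baseChange K).quotKerEquivOfSurjective
      (LinearMap.lTensor_surjective K (Submodule.mkQ_surjective _))))
  ext y
  exact (lTensor_exact K f.exact_map_mkQ_range (Submodule.mkQ_surjective _) y).symm

/-- Dimension count at a point where two maps compose exactly. -/
theorem fib_add_fib_eq (K : Type u) [Field K] [Algebra A K] {P Q R : Type u} [AddCommGroup P] [Module A P]
    [AddCommGroup Q] [Module A Q] [Module.Finite A Q] [Module.Free A Q]
    [AddCommGroup R] [Module A R] [Module.Finite A R] [Module.Free A R]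
    (e : P →ₗ[A] Q) (d : Q →ₗ[A] R) {H : Type u} [AddCommGroup H] [Module K H]
    (c : LinearMap.ker (d.baseChange K) →+ H) (hc : Function.Surjective c)
    (hker : ∀ z, c z = 0 ↔ z.1 ∈ LinearMap.range (e.baseChange K))
    (hsmul : ∀ (b : K) z, c (b • z) = b • c z) (hde : d ∘ₗ e = 0) (x : PrimeSpectrum A)
    (hx : x.asIdeal = RingHom.ker (algebraMap A K)) :
    Module.finrank K H + Module.finrank A R =
      FCx40.fib (Q ⧸ LinearMap.range e) x + FCx40.fib (R ⧸ LinearMap.range d) x := by
  have : Nontrivial A := PrimeSpectrum.nonempty_iff_nontrivial.mp ⟨x⟩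
  rw [← finrank_quot_range K e x hx, ← finrank_quot_range K d x hx,
    ← Module.finrank_baseChange (R := K) (S := A) (M' := R)]
  refine FCx40.finrank_homology_add _ _ (by rw [← LinearMap.baseChange_comp, hde, LinearMap.baseChange_zero])
    { c with map_smul' := hsmul } hc ?_
  ext z
  exact hker z

/-- Cokernel ranks of maps composing exactly at every point are locally constant. -/
theorem isLocallyConstant_coker {P Q R : Type u} [AddCommGroup P] [Module A P] [AddCommGroup Q] [Module A Q]
    [Module.Finite A Q] [AddCommGroup R] [Module A R] [Module.Finite A R] (e : P →ₗ[A] Q) (d : Q →ₗ[A] R) (n : ℕ)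
    (h : ∀ x : PrimeSpectrum A,
      FCx40.fib (Q ⧸ LinearMap.range e) x + FCx40.fib (R ⧸ LinearMap.range d) x = n) :
    IsLocallyConstant (FCx40.fib (A := A) (Q ⧸ LinearMap.range e)) ∧
      IsLocallyConstant (FCx40.fib (A := A) (R ⧸ LinearMap.range d)) := by
  have key := fun z => FCx40.eventually_eq_of_usc_of_add_eq (z := z)
    (FCx40.upperSemicontinuous_fib (A := A) (Q ⧸ LinearMap.range e))
    (FCx40.upperSemicontinuous_fib (A := A) (R ⧸ LinearMap.range d))
    (Filter.Eventually.of_forall fun x => by rw [h x, h z])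
  exact ⟨(IsLocallyConstant.iff_eventually_eq _).2 fun z => (key z).1,
    (IsLocallyConstant.iff_eventually_eq _).2 fun z => (key z).2⟩

end Algebra

variable {X S : Scheme.{u}}

theorem ker_evaluation' {V : S.Opens} (hV : IsAffineOpen V) {y : S} (hy : y ∈ V) :
    RingHom.ker (S.evaluation V y hy).hom = (hV.primeIdealOf ⟨y, hy⟩).asIdeal :=
  WC97.ker_evaluation hV hy

set_option maxHeartbeats 1000000 in
/-- Over an affine open with uniform vanishing the alternating sum of fibre dimensions is locally constant. -/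
theorem exists_locallyConstant_affine (f : X ⟶ S) [IsProper f] [LocallyOfFinitePresentation f]
    (F : X.Modules) [F.IsQuasicoherent] (hfp : CohB1.IsFP F) (hfl : FlatMod.IsFlatOver f F)
    {V : S.Opens} (hV : IsAffineOpen V) (d : ℕ)
    (hvan : ∀ y ∈ V, ∀ p : ℕ, d < p → Module.finrank (S.residueField y) (CohIII.fiberH f F y p) = 0) :
    ∃ c : PrimeSpectrum Γ(S, V) → ℤ, IsLocallyConstant c ∧ ∀ (y : S) (hy : y ∈ V),
      ∑ p ∈ Finset.range (d + 1), (-1 : ℤ) ^ p * (Module.finrank (S.residueField y) (CohIII.fiberH f F y p) : ℤ) =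
        c (hV.primeIdealOf ⟨y, hy⟩) := by
  obtain ⟨M⟩ := Mum71.exists_cohModel f F hfp hfl hV
  let A := Γ(S, V)
  haveI hfin : ∀ i, Module.Finite A (M.K.X i) := M.finite
  haveI hfree : ∀ i, Module.Free A (M.K.X i) := M.free
  -- cokernel ranks
  let C : ℤ → PrimeSpectrum A → ℕ := fun p =>
    FCx40.fib (M.K.X (p + 1) ⧸ LinearMap.range (M.K.d p (p + 1)).hom)
  have hcount : ∀ (y : S) (hy : y ∈ V) (q p r : ℤ) (n : ℕ), q + 1 = p → p + 1 = r →
      (letI := (S.evaluation V y hy).hom.toAlgebra
       ∃ (H : Type u) (_ : AddCommGroup H) (_ : Module (S.residueField y) H)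
          (c : LinearMap.ker ((M.K.d p r).hom.baseChange (S.residueField y)) →+ H),
          Function.Surjective c ∧
          (∀ z, c z = 0 ↔ z.1 ∈ LinearMap.range ((M.K.d q p).hom.baseChange (S.residueField y))) ∧
          (∀ (b : S.residueField y) z, c (b • z) = b • c z) ∧ Module.finrank (S.residueField y) H = n) →
      n + Module.finrank A (M.K.X r) = C q (hV.primeIdealOf ⟨y, hy⟩) + C p (hV.primeIdealOf ⟨y, hy⟩) := by
    intro y hy q p r n hqp hpr hH
    subst hqp hpr
    letI := (S.evaluation V y hy).hom.toAlgebra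
    obtain ⟨H, _, _, c, hc, hker, hsmul, rfl⟩ := hH
    exact fib_add_fib_eq (S.residueField y) _ _ c hc hker hsmul
      (by rw [← ModuleCat.hom_comp, M.K.d_comp_d, ModuleCat.hom_zero]) _
      (by rw [RingHom.algebraMap_toAlgebra, ker_evaluation' hV hy])
  let h : S → ℕ → ℕ := fun y p =>
    Module.finrank (S.residueField y) (CohIII.fiberH f F y p)
  have hnat : ∀ (y : S) (hy : y ∈ V) (p : ℕ), h y p + Module.finrank A (M.K.X ((p : ℤ) + 1)) =
      C ((p : ℤ) - 1) (hV.primeIdealOf ⟨y, hy⟩) + C (p : ℤ) (hV.primeIdealOf ⟨y, hy⟩) := fun y hy p => by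
    obtain ⟨c, hc, hker, hsmul⟩ := M.fibre y hy p
    exact hcount y hy _ _ _ _ (by omega) rfl ⟨_, _, _, c, hc, hker, hsmul, rfl⟩
  have pts : ∀ x : PrimeSpectrum A, ∃ (y : S) (hy : y ∈ V), hV.primeIdealOf ⟨y, hy⟩ = x := fun x =>
    ⟨_, Mum71.mem_of_fromSpec' hV x, Mum71.primeIdealOf_fromSpec hV x⟩
  -- the two boundary terms
  have hneg : IsLocallyConstant (C (-1)) := by
    have key : ∀ x, C (-2) x + C (-1) x = Module.finrank A (M.K.X 0) := fun x => by
      obtain ⟨y, hy, rfl⟩ := pts x
      letI := (S.evaluation V y hy).hom.toAlgebra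
      have h0 := hcount y hy (-2) (-1) 0 0 (by omega) (by omega) ⟨PUnit, inferInstance, inferInstance,
        0, fun b => ⟨0, Subsingleton.elim _ _⟩, fun z => ⟨fun _ => ?_, fun _ => rfl⟩,
        fun _ _ => rfl, Module.finrank_zero_of_subsingleton⟩
      · omega
      · have := M.exact_neg (-1) (by omega) (S.residueField y) z.1 z.2
        simpa using this
    exact (isLocallyConstant_coker (M.K.d (-2) (-2 + 1)).hom (M.K.d (-1) (-1 + 1)).hom _ key).2
  have htop : IsLocallyConstant (C (d : ℤ)) := by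
    have key : ∀ x, C (d : ℤ) x + C ((d : ℤ) + 1) x = Module.finrank A (M.K.X ((d : ℤ) + 1 + 1)) := fun x => by
      obtain ⟨y, hy, rfl⟩ := pts x
      have := hnat y hy (d + 1)
      rw [show h y (d + 1) = 0 from hvan y hy (d + 1) (Nat.lt_succ_self d)] at this
      push_cast at this
      rw [show (d : ℤ) + 1 - 1 = d by omega] at this
      omega
    exact (isLocallyConstant_coker (M.K.d (d : ℤ) ((d : ℤ) + 1)).hom
      (M.K.d ((d : ℤ) + 1) ((d : ℤ) + 1 + 1)).hom _ key).1
  -- telescoping
  refine ⟨fun x => (C (-1) x : ℤ) + (-1) ^ d * (C (d : ℤ) x : ℤ) -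
    ∑ p ∈ Finset.range (d + 1), (-1 : ℤ) ^ p * (Module.finrank A (M.K.X ((p : ℤ) + 1)) : ℤ),
    (hneg.comp₂ htop fun a b => (a : ℤ) + (-1) ^ d * (b : ℤ) -
      ∑ p ∈ Finset.range (d + 1), (-1 : ℤ) ^ p * (Module.finrank A (M.K.X ((p : ℤ) + 1)) : ℤ)),
    fun y hy => ?_⟩
  show ∑ p ∈ Finset.range (d + 1), (-1 : ℤ) ^ p * (h y p : ℤ) = _
  rw [eq_sub_iff_add_eq, ← Finset.sum_add_distrib]
  have tele : ∀ m : ℕ, ∑ p ∈ Finset.range (m + 1), ((-1 : ℤ) ^ p * (h y p : ℤ) +
      (-1) ^ p * (Module.finrank A (M.K.X ((p : ℤ) + 1)) : ℤ)) =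
      (C (-1) (hV.primeIdealOf ⟨y, hy⟩) : ℤ) + (-1) ^ m * (C (m : ℤ) (hV.primeIdealOf ⟨y, hy⟩) : ℤ) := by
    intro m
    induction m with
    | zero =>
      have h0 : ((h y 0 + Module.finrank A (M.K.X (((0 : ℕ) : ℤ) + 1)) : ℕ) : ℤ) =
          ((C (((0 : ℕ) : ℤ) - 1) (hV.primeIdealOf ⟨y, hy⟩) + C ((0 : ℕ) : ℤ) (hV.primeIdealOf ⟨y, hy⟩) : ℕ) : ℤ) :=
        congrArg _ (hnat y hy 0)
      simp only [Nat.cast_zero, zero_sub, Nat.cast_add] at h0
      simpa using h0
    | succ m ih =>
      rw [Finset.sum_range_succ, ih, ← mul_add,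
        show (h y (m + 1) : ℤ) + (Module.finrank A (M.K.X (((m + 1 : ℕ) : ℤ) + 1)) : ℤ) =
          (C (m : ℤ) (hV.primeIdealOf ⟨y, hy⟩) : ℤ) + (C ((m + 1 : ℕ) : ℤ) (hV.primeIdealOf ⟨y, hy⟩) : ℤ) by
        have h1 := hnat y hy (m + 1)
        rw [show ((m + 1 : ℕ) : ℤ) - 1 = (m : ℤ) by omega] at h1
        exact_mod_cast h1, pow_succ]
      ring
  exact tele d

/-- The Euler characteristic of the fibres is locally constant. -/
theorem isLocallyConstant_eulerCharLE (f : X ⟶ S) [IsProper f] [LocallyOfFinitePresentation f]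
    (F : X.Modules) [F.IsQuasicoherent] (hfp : CohB1.IsFP F) (hfl : FlatMod.IsFlatOver f F) (d : ℕ)
    (hdim : ∀ s : S, topologicalKrullDim ↥(f.fiber s) ≤ d) :
    IsLocallyConstant (fun s : S => @FGA.eulerCharLE ↥(S.residueField s) _ (f.fiber s)
      ⟨f.fiberToSpecResidueField s⟩ ((Scheme.Modules.pullback (f.fiberι s)).obj F) d) := by
  refine Mum71.isLocallyConstant_of_affine _ fun V hV => ?_
  refine exists_locallyConstant_affine f F hfp hfl hV d fun y _ p hp => ?_
  letI : (f.fiber y).Over (Spec (CommRingCat.of (S.residueField y))) := ⟨f.fiberToSpecResidueField y⟩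
  haveI : IsProper (f.fiber y ↘ Spec (CommRingCat.of (S.residueField y))) :=
    MorphismProperty.pullback_snd (P := @IsProper) _ _ inferInstance
  haveI := Crv77.isNoetherian_of_proper (S.residueField y : Type u) (X := f.fiber y)
  haveI := Var76.subsingleton_HH_of_support (CohIII.fiberMod f F y) isClosed_univ
    (fun x hx => absurd trivial hx)
    ((topologicalKrullDim_subspace_le (f.fiber y) _).trans (hdim y)) p hp
  exact Module.finrank_zero_of_subsingleton

/-- Cohomology of the fibres over an affine open vanishes uniformly in high degrees. -/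
theorem exists_bound_fibre (f : X ⟶ S) [IsProper f] (F : X.Modules) [F.IsQuasicoherent]
    {V : S.Opens} (hV : IsAffineOpen V) :
    ∃ d : ℕ, ∀ y ∈ V, ∀ p : ℕ, d ≤ p → Subsingleton (CohIII.fiberH f F y p) := by
  have : IsAffine V := hV
  let W := f ⁻¹ᵁ V
  haveI : IsProper (f ∣_ V) := inferInstance
  haveI : CompactSpace W.toScheme := QuasiCompact.compactSpace_of_compactSpace (f ∣_ V)
  haveI : QuasiSeparatedSpace W.toScheme := quasiSeparatedSpace_of_quasiSeparated (f ∣_ V)
  obtain ⟨d, hd⟩ := Crv77.exists_bound_HH (X := W.toScheme)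
  refine ⟨d, fun y hy p hp => ?_⟩
  let σ := Mum71.affBase f hV
  have outer : IsPullback (f.fiberι y) (f.fiberToSpecResidueField y) f
      (Spec.map (S.evaluation V y hy) ≫ hV.fromSpec) := by
    have hη : Spec.map (S.evaluation V y hy) ≫ hV.fromSpec = S.fromSpecResidueField y := by
      rw [Scheme.fromSpecResidueField, ← hV.fromSpecStalk_eq_fromSpecStalk hy, IsAffineOpen.fromSpecStalk,
        ← Spec.map_comp_assoc]
      rfl
    rw [hη]
    exact IsPullback.of_hasPullback _ _
  let g := (Mum71.isPullback_affBase f hV).lift (f.fiberι y)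
    (f.fiberToSpecResidueField y ≫ Spec.map (S.evaluation V y hy)) (by rw [outer.w, Category.assoc])
  have hg : IsPullback g (f.fiberToSpecResidueField y) σ (Spec.map (S.evaluation V y hy)) :=
    outer.of_right' (Mum71.isPullback_affBase f hV)
  haveI : IsAffineHom g := MorphismProperty.of_isPullback (P := @IsAffineHom) hg.flip inferInstance
  haveI : (CohIII.fiberMod f F y).IsQuasicoherent := QCPull72.isQuasicoherent_pullback _ F
  obtain ⟨e⟩ := Coh69.nonempty_hh_push g (CohIII.fiberMod f F y) p
  have : Subsingleton (Coh.HH W.toScheme ((Coh.push g).obj (CohIII.fiberMod f F y)) p) :=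
    hd _ (QCqs72.isQuasicoherent_pushforward (M := CohIII.fiberMod f F y) g) p hp
  exact e.toEquiv.subsingleton

/-- The Euler characteristic of the fibres, summed over all degrees, is locally constant. -/
theorem isLocallyConstant_eulerChar (f : X ⟶ S) [IsProper f] [LocallyOfFinitePresentation f]
    (F : X.Modules) [F.IsQuasicoherent] (hfp : CohB1.IsFP F) (hfl : FlatMod.IsFlatOver f F) :
    IsLocallyConstant (fun s : S => ∑ᶠ i : ℕ, (-1 : ℤ) ^ i *
      (Module.finrank (S.residueField s) (CohIII.fiberH f F s i) : ℤ)) := by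
  refine Mum71.isLocallyConstant_of_affine _ fun V hV => ?_
  obtain ⟨d, hd⟩ := exists_bound_fibre f F hV
  have h0 : ∀ y ∈ V, ∀ p : ℕ, d ≤ p → Module.finrank (S.residueField y) (CohIII.fiberH f F y p) = 0 :=
    fun y hy p hp => haveI := hd y hy p hp; Module.finrank_zero_of_subsingleton
  obtain ⟨c, hc, hce⟩ := exists_locallyConstant_affine f F hfp hfl hV d fun y hy p hp => h0 y hy p hp.le
  refine ⟨c, hc, fun y hy => ?_⟩
  rw [← hce y hy]
  refine finsum_eq_sum_of_support_subset _ fun i hi => ?_
  simp only [Finset.coe_range, Set.mem_Iio]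
  by_contra hlt
  exact hi (by simp [h0 y hy i (by omega)])

end Groth.Agent.FGA29.EulerLC
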