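import Groth.Agent.VarMods75.Additive
import Groth.Agent.CurveDeg75.Pull
import Groth.Agent.FinCov99.Cover
import Groth.Agent.Cyc90.Dev.KerRank
import Groth.Agent.H1Push72.Main
import Groth.Agent.PP93.PicInj
import Groth.Agent.Grass5.FlagStep
import Groth.Agent.Desc59.AmpleDesc
import Groth.Agent.Var76.FibreBound
import Groth.Agent.FGA29.IntNumBasic
import Mathlib.AlgebraicGeometry.Morphisms.Etale
import Groth.Prelude.Def_FinCov

/-!
The Euler characteristic is multiplicative in finite etale covers.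
-/

set_option autoImplicit false
set_option backward.isDefEq.respectTransparency.types false
set_option linter.style.haveILetI false

noncomputable section

universe u

open CategoryTheory CategoryTheory.Limits AlgebraicGeometry TopologicalSpace Opposite
open Groth.Agent Groth.Agent.QC70

namespace Groth.Agent.FGA29.EtaleEuler

section Pieces

variable {Z' P : Scheme.{u}} (p : P ⟶ Z') (j : Z' ⟶ P) (hj : j ≫ p = 𝟙 Z')

/-- The restriction to the image of a section. -/
def resSec : (Coh.push p).obj (Coh.structureModule P) ⟶ Coh.structureModule Z' :=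
  (Coh.push p).map (H1Push72.pushUnit j) ≫ (Scheme.Modules.pushforwardComp j p).hom.app _ ≫
    (Scheme.Modules.pushforwardCongr hj).hom.app _ ≫ (Scheme.Modules.pushforwardId Z').hom.app _

theorem resSec_app (U : Z'.Opens) :
    ∃ e : Γ(Z', j ⁻¹ᵁ (p ⁻¹ᵁ U)) →+* Γ(Z', U), Function.Bijective e ∧
      ∀ a : Γ(P, p ⁻¹ᵁ U), ((resSec p j hj).app U a : Γ(Z', U)) = e (j.app (p ⁻¹ᵁ U) a) := by
  have hU : j ⁻¹ᵁ (p ⁻¹ᵁ U) = U := by rw [← Scheme.Hom.comp_preimage, hj]; rfl
  refine ⟨(Z'.presheaf.map (eqToHom hU.symm).op).hom,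
    ConcreteCategory.bijective_of_isIso (Z'.presheaf.map (eqToHom hU.symm).op), fun a => ?_⟩
  show _ = (Z'.presheaf.map (eqToHom hU.symm).op).hom (j.app (p ⁻¹ᵁ U) a)
  rw [← H1Push72.pushUnit_app]
  rfl

/-- The section `O → p_* O`. -/
theorem pushUnit_resSec : H1Push72.pushUnit p ≫ resSec p j hj = 𝟙 _ := by
  refine Scheme.Modules.hom_ext _ _ fun U => ?_
  ext (c : Γ(Z', U))
  let one : Γ(Coh.structureModule Z', U) := (show Γ(Z', U) from 1)
  let w : Γ(Z', U) := (H1Push72.pushUnit p ≫ resSec p j hj).app U one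
  have h1 : w = 1 := by
    obtain ⟨e, -, he⟩ := resSec_app p j hj U
    refine (he ((H1Push72.pushUnit p).app U one)).trans ?_
    have h := H1Push72.pushUnit_app p U (1 : Γ(Z', U))
    refine Eq.trans (congrArg (fun a => e (j.app (p ⁻¹ᵁ U) a)) (h.trans (map_one (p.app U).hom))) ?_
    exact (congrArg e (map_one (j.app _).hom)).trans (map_one e)
  have h2 := Scheme.Modules.Hom.app_smul (H1Push72.pushUnit p ≫ resSec p j hj) (U := U) c one
  have e1 : c • one = (show Γ(Coh.structureModule Z', U) from c) := mul_one c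
  rw [e1] at h2
  refine h2.trans ?_
  show c * w = c
  rw [h1, mul_one]

include hj in
theorem epi_resSec : Epi (resSec p j hj) :=
  epi_of_epi_fac (pushUnit_resSec p j hj)

variable [IsOpenImmersion j] [IsClosedImmersion j]

/-- The complement of the image of `j`. -/
abbrev rest : P.Opens := ⟨(Set.range j.base)ᶜ, j.isClosedEmbedding.isClosed_range.isOpen_compl⟩

/-- The restriction to the complement. -/
def resRest : (Coh.push p).obj (Coh.structureModule P) ⟶
    (Coh.push ((rest j).ι ≫ p)).obj (Coh.structureModule (rest j).toScheme) :=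
  (Coh.push p).map (H1Push72.pushUnit (rest j).ι) ≫ (Scheme.Modules.pushforwardComp (rest j).ι p).hom.app _

theorem resRest_app (U : Z'.Opens) (a : Γ(P, p ⁻¹ᵁ U)) :
    ((resRest p j).app U a : Γ((rest j).toScheme, (rest j).ι ⁻¹ᵁ (p ⁻¹ᵁ U))) = (rest j).ι.app (p ⁻¹ᵁ U) a := by
  rw [← H1Push72.pushUnit_app]
  rfl

theorem germ_eq_zero_of_app {A B : Scheme.{u}} (g : A ⟶ B) [IsOpenImmersion g] {V : B.Opens} {s : Γ(B, V)}
    (h : g.app V s = 0) (z : A) (hz : g z ∈ V) : B.presheaf.germ V (g z) hz s = 0 := by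
  refine (ConcreteCategory.bijective_of_isIso (g.stalkMap z)).1 ?_
  rw [map_zero]
  refine (Scheme.Hom.germ_stalkMap_apply g V z hz s).trans ?_
  rw [h, map_zero]

theorem isIso_kernel_resRest : IsIso (kernel.ι (resSec p j hj) ≫ resRest p j) := by
  refine FMK72.isIso_of_basis _ fun x W hx => ⟨W, le_rfl, hx, ?_, ?_⟩
  · refine (injective_iff_map_eq_zero ((kernel.ι (resSec p j hj) ≫ resRest p j).app W).hom).2 fun v hv => ?_
    obtain ⟨e, he, hea⟩ := resSec_app p j hj W
    let a : Γ(P, p ⁻¹ᵁ W) := (kernel.ι (resSec p j hj)).app W v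
    have h1 : (resSec p j hj).app W a = 0 :=
      congr((Scheme.Modules.Hom.app $(kernel.condition (resSec p j hj)) W) v)
    have h1' : j.app (p ⁻¹ᵁ W) a = 0 := he.1 (((hea a).symm.trans h1).trans (map_zero e).symm)
    have h2 : (rest j).ι.app (p ⁻¹ᵁ W) a = 0 := (resRest_app p j W a).symm.trans hv
    have ha : a = 0 := by
      refine TopCat.Presheaf.section_ext P.sheaf (p ⁻¹ᵁ W) a 0 fun y hy => ?_
      refine Eq.trans ?_ (map_zero _).symm
      by_cases hyj : y ∈ Set.range j.base
      · obtain ⟨z, rfl⟩ := hyj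
        exact germ_eq_zero_of_app j h1' z hy
      · exact germ_eq_zero_of_app (rest j).ι h2 (⟨y, hyj⟩ : (rest j).toScheme) hy
    exact app_injective_of_mono (kernel.ι (resSec p j hj)) W (ha.trans (map_zero _).symm)
  · intro t
    let V : P.Opens := p ⁻¹ᵁ W
    let D : P.Opens := ⟨Set.range j.base, j.isOpenEmbedding.isOpen_range⟩
    let W₂ : P.Opens := (rest j).ι ''ᵁ ((rest j).ι ⁻¹ᵁ V)
    let t' : Γ(P, W₂) := t
    let Ws : Bool → P.Opens := fun b => cond b W₂ (V ⊓ D)
    let ts : ∀ b, Γ(P, Ws b) := fun b => match b with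
      | true => t'
      | false => 0
    have hW₂ : W₂ ≤ V := Scheme.Hom.image_preimage_le _ _ |>.trans le_rfl
    have hle : ∀ b, Ws b ≤ V := fun b => by cases b; exacts [inf_le_left, hW₂]
    have hdisj : W₂ ⊓ (V ⊓ D) = ⊥ := by
      refine Opens.ext (Set.eq_empty_iff_forall_notMem.2 ?_)
      rintro y ⟨⟨z, -, rfl⟩, -, hyD⟩
      exact z.2 hyD
    obtain ⟨a, ha, -⟩ := TopCat.Sheaf.existsUnique_gluing' P.sheaf Ws V (fun b => homOfLE (hle b))
      (fun y hy => by
        by_cases hyj : y ∈ Set.range j.base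
        · exact Opens.mem_iSup.2 ⟨false, hy, hyj⟩
        · exact Opens.mem_iSup.2 ⟨true, ⟨⟨y, hyj⟩, hy, rfl⟩⟩)
      ts (fun b c => by
        cases b <;> cases c
        · rfl
        · haveI : Subsingleton Γ(P, (V ⊓ D) ⊓ W₂) := by rw [inf_comm, hdisj]; infer_instance
          exact Subsingleton.elim (α := Γ(P, (V ⊓ D) ⊓ W₂)) _ _
        · haveI : Subsingleton Γ(P, W₂ ⊓ (V ⊓ D)) := by rw [hdisj]; infer_instance
          exact Subsingleton.elim (α := Γ(P, W₂ ⊓ (V ⊓ D))) _ _
        · rfl)
    obtain ⟨e, he, hea⟩ := resSec_app p j hj W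
    have hja : j.app V a = 0 := by
      have h0 : P.presheaf.map (homOfLE (hle false)).op a = 0 := ha false
      refine TopCat.Presheaf.section_ext Z'.sheaf (j ⁻¹ᵁ V) _ 0 fun z hz => ?_
      refine Eq.trans ?_ (map_zero _).symm
      refine (Scheme.Hom.germ_stalkMap_apply j V z hz a).symm.trans ?_
      have hg : P.presheaf.germ V (j z) hz a = 0 := by
        rw [← P.presheaf.germ_res_apply (homOfLE (hle false)) (j z) ⟨hz, z, rfl⟩ a]
        exact (congrArg _ h0).trans (map_zero _)
      rw [hg]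
      exact map_zero _
    have hb : (resSec p j hj).app W (show Γ(P, p ⁻¹ᵁ W) from a) = 0 :=
      (hea a).trans ((congrArg e hja).trans (map_zero e))
    obtain ⟨v, hv⟩ := exists_kernel_app_eq (resSec p j hj) W _ hb
    refine ⟨v, ?_⟩
    show (resRest p j).app W ((kernel.ι (resSec p j hj)).app W v) = t
    rw [hv]
    refine (resRest_app p j W a).trans ?_
    rw [Scheme.Opens.ι_app]
    exact ha true

end Pieces

section Additive

variable {X : Scheme.{u}} (k : Type u) [Field k] [X.Over (Spec (CommRingCat.of k))]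
  [IsProper (X ↘ Spec (CommRingCat.of k))]
include k

theorem exists_dim_le : ∃ d : ℕ, topologicalKrullDim X ≤ (d : WithBot ℕ∞) := by
  haveI := Crv77.isNoetherian_of_proper k X
  let f := X ↘ Spec (CommRingCat.of k)
  let s : Set X := {x : X | closure ({x} : Set X) ∈ irreducibleComponents X}
  have hs : s.Finite := by
    refine Set.Finite.of_finite_image (f := fun x : X => closure ({x} : Set X))
      ((NoetherianSpace.finite_irreducibleComponents (α := X)).subset (by rintro _ ⟨x, hx, rfl⟩; exact hx)) ?_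
    intro a _ b _ hab
    exact IsGenericPoint.eq (S := closure ({b} : Set X)) hab rfl
  obtain ⟨d, hd⟩ := (hs.image fun x => WC97.tdegN f x).bddAbove
  refine ⟨d, Var76.FibreBound.dim_le_of_forall_univ f fun x => ?_⟩
  have hZ := irreducibleComponent_mem_irreducibleComponents x
  have hcl := hZ.1.closure_genericPoint isClosed_irreducibleComponent
  have hsp : hZ.1.genericPoint ⤳ x := by
    rw [specializes_iff_mem_closure, hcl]
    exact mem_irreducibleComponent
  refine (Nat.cast_le.2 ((Var76.FibreBound.tdegN_le f hsp).trans (hd ⟨_, ?_, rfl⟩)))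
  show closure _ ∈ irreducibleComponents X
  rwa [hcl]

theorem eq_zero_of_tensor {f : X.Modules → ℚ} (hf : VarMods75.AddFn f) {n : ℕ} (hn : 0 < n) {A : X.Modules}
    (hA : FlatMod.IsFinLocFreeOfRank n A)
    (h : ∀ M : X.Modules, Coh.IsCoh M → f (CohB1.tensorMod M A) = 0)
    {M : X.Modules} (hM : Coh.IsCoh M) : f M = 0 := by
  classical
  haveI := Crv77.isNoetherian_of_proper k X
  suffices ∀ e : ℕ, ∀ M : X.Modules, Coh.IsCoh M →
      topologicalKrullDim (CohB1.support M) < (e : WithBot ℕ∞) → f M = 0 by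
    obtain ⟨d, hd⟩ := exists_dim_le (X := X) k
    exact this (d + 1) M hM (lt_of_le_of_lt ((topologicalKrullDim_subspace_le X _).trans hd)
      (by exact_mod_cast Nat.lt_succ_self d))
  intro e
  induction e with
  | zero =>
    intro M hM hlt
    refine hf.of_isZero (QC70.isZero_of_support_eq_empty ?_)
    refine Set.eq_empty_iff_forall_notMem.2 fun x hx => not_le.2 hlt ?_
    haveI : Nonempty (CohB1.support M) := ⟨⟨x, hx⟩⟩
    rw [Nat.cast_zero]
    exact Order.krullDim_nonneg_iff.2 ⟨⟨closure {⟨x, hx⟩}, isIrreducible_singleton.closure, isClosed_closure⟩⟩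
  | succ e ih =>
    intro M hM hlt
    haveI := hM.1
    haveI := hM.2
    have hSc := QC70.isClosed_support M
    have hd : topologicalKrullDim (CohB1.support M) ≤ (e : WithBot ℕ∞) := Snapper75.le_of_lt_succ hlt
    let T := (Snapper75.finite_top_points hSc hd).toFinset
    have hT : ∀ η : X, η ∈ T ↔ η ∈ CohB1.support M ∧
        topologicalKrullDim (closure ({η} : Set X)) = (e : WithBot ℕ∞) := fun η => Set.Finite.mem_toFinset _
    rw [hf.eq_sum_len ih hSc hd hT hM subset_rfl]
    refine Finset.sum_eq_zero fun η hη => mul_eq_zero_of_right _ ?_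
    obtain ⟨-, hde⟩ := (hT η).1 hη
    have hpt : Coh.IsCoh (Snapper75.ptMod η) := Crv77.isCoh_quotMod _
    haveI := hpt.1
    have h1 := hf.eq_sum_len ih (S := closure ({η} : Set X)) isClosed_closure hde.le (T := {η}) (fun ξ => ?_)
      (Crv77.isCoh_tensorMod hpt (VarMods75.isCoh hA))
      ((VarMods75.support_tensor_subset hA (Snapper75.ptMod η)).trans (Snapper75.support_ptMod η))
    · rw [h _ hpt, Finset.sum_singleton] at h1
      have hl : Snapper75.len (CohB1.tensorMod (Snapper75.ptMod η) A) η = n := by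
        simp only [Snapper75.len, VarMods75.length_stalk_tensor hA (Snapper75.ptMod η) η,
          Snapper75.length_ptMod, mul_one, ENat.toNat_coe]
      rw [hl] at h1
      exact (mul_eq_zero.1 h1.symm).resolve_left (by exact_mod_cast hn.ne')
    · rw [Finset.mem_singleton]
      refine ⟨?_, fun ⟨hξ, hξd⟩ => ?_⟩
      · rintro rfl
        exact ⟨subset_closure rfl, hde⟩
      · exact (Snapper75.eq_of_dim_eq hξd hde.le (specializes_iff_mem_closure.2 hξ)).symm

theorem euler_tensor_rank_zero {A : X.Modules} (hA : FlatMod.IsFinLocFreeOfRank 0 A) {M : X.Modules}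
    (hM : Coh.IsCoh M) : Curv2.euler k X (CohB1.tensorMod M A) = 0 := by
  haveI := Crv77.isNoetherian_of_proper k X
  haveI := hM.1
  have hc := Crv77.isCoh_tensorMod hM (VarMods75.isCoh hA)
  have hS : CohB1.support (CohB1.tensorMod M A) ⊆ (∅ : Set X) := fun x hx => hx (by
    have hl := VarMods75.length_stalk_tensor hA M x
    rw [Nat.cast_zero, zero_mul] at hl
    exact Module.length_eq_zero_iff.1 hl)
  have hd : topologicalKrullDim (∅ : Set X) ≤ (0 : WithBot ℕ∞) :=
    topologicalKrullDim_zero_of_discreteTopology _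
  have h0 := VarMods75.euler_eq_sum_len k isClosed_empty hd (T := ∅) (by simp) hc hS
  rw [Finset.sum_empty] at h0
  exact_mod_cast h0

end Additive

theorem isCoh_pullback {X Y : Scheme.{u}} (f : X ⟶ Y) {M : Y.Modules} (hM : Coh.IsCoh M) :
    Coh.IsCoh ((Scheme.Modules.pullback f).obj M) :=
  haveI := hM.1
  haveI := hM.2
  ⟨QCPull72.isQuasicoherent_pullback f M, QCPull72.isFiniteType_pullback f M⟩

variable (k : Type u) [Field k]

theorem isProper_comp_finite {Z Z' : Scheme.{u}} (g : Z ⟶ Spec (CommRingCat.of k)) [IsProper g]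
    (ψ : Z' ⟶ Z) [IsFinite ψ] : IsProper (ψ ≫ g) := inferInstance

theorem euler_tensor_push {Z Z' : Scheme.{u}} [Z.Over (Spec (CommRingCat.of k))]
    [Z'.Over (Spec (CommRingCat.of k))] [IsProper (Z ↘ Spec (CommRingCat.of k))] (ψ : Z' ⟶ Z) [IsFinite ψ]
    (hψ : ψ ≫ (Z ↘ Spec (CommRingCat.of k)) = Z' ↘ Spec (CommRingCat.of k)) {N : Z.Modules} (hN : Coh.IsCoh N) :
    Curv2.euler k Z (CohB1.tensorMod N ((Coh.push ψ).obj (Coh.structureModule Z'))) =
      Curv2.euler k Z' ((Scheme.Modules.pullback ψ).obj N) := by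
  haveI := Crv77.isNoetherian_of_proper k Z
  haveI := hN.1
  haveI : (Coh.structureModule Z').IsQuasicoherent := QC70.isQuasicoherent_unit (X := Z')
  obtain ⟨e⟩ := CurveDeg75.nonempty_projIso ψ (Coh.structureModule Z') (E := N)
  rw [Crv77.euler_congr (EGA73.tensComm N _), Crv77.euler_congr e,
    Crv77.euler_congr ((Coh.push ψ).mapIso (EGA73.tensUnitLeft ((Scheme.Modules.pullback ψ).obj N))),
    CurveDeg75.euler_push_finite k ψ hψ _ (isCoh_pullback ψ hN)]

theorem main_aux : ∀ (d : ℕ) {Z Z' : Scheme.{u}} [Z.Over (Spec (CommRingCat.of k))]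
    [IsProper (Z ↘ Spec (CommRingCat.of k))] (ψ : Z' ⟶ Z) [IsFinite ψ] [Etale ψ],
    FlatMod.IsFinLocFreeOfRank d ((Coh.push ψ).obj (Coh.structureModule Z')) →
    ∀ M : Z.Modules, Coh.IsCoh M →
      Curv2.euler k Z (CohB1.tensorMod M ((Coh.push ψ).obj (Coh.structureModule Z'))) =
        d * Curv2.euler k Z M := by
  intro d
  induction d with
  | zero =>
    intro Z Z' _ _ ψ _ _ hA M hM
    rw [euler_tensor_rank_zero k hA hM, Nat.cast_zero, zero_mul]
  | succ d ih =>
    intro Z Z' _ _ ψ _ _ hA M hM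
    let A := (Coh.push ψ).obj (Coh.structureModule Z')
    letI : Z'.Over (Spec (CommRingCat.of k)) := ⟨ψ ≫ (Z ↘ Spec (CommRingCat.of k))⟩
    haveI : IsProper (Z' ↘ Spec (CommRingCat.of k)) := isProper_comp_finite k _ ψ
    haveI := Crv77.isNoetherian_of_proper k Z
    haveI := Crv77.isNoetherian_of_proper k Z'
    -- the fibre square
    let p : pullback ψ ψ ⟶ Z' := pullback.fst ψ ψ
    let j : Z' ⟶ pullback ψ ψ := pullback.diagonal ψ
    have hj : j ≫ p = 𝟙 Z' := pullback.diagonal_fst ψ
    haveI : IsOpenImmersion j := inferInstanceAs (IsOpenImmersion (pullback.diagonal ψ))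
    haveI : IsClosedImmersion j := inferInstanceAs (IsClosedImmersion (pullback.diagonal ψ))
    haveI : IsFinite p := MorphismProperty.pullback_fst (P := @IsFinite.{u}) ψ ψ inferInstance
    haveI : Etale p := MorphismProperty.pullback_fst (P := @Etale.{u}) ψ ψ inferInstance
    haveI : (Coh.structureModule Z').IsQuasicoherent := QC70.isQuasicoherent_unit (X := Z')
    have hw : pullback.fst ψ ψ ≫ ψ = pullback.snd ψ ψ ≫ ψ := pullback.condition
    haveI := FMK72.isIso_bcNat_app hw (IsPullback.of_hasPullback ψ ψ) (Coh.structureModule Z')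
    obtain ⟨u0⟩ := PP93.nonempty_pullback_unit (pullback.snd ψ ψ)
    let eA : (Scheme.Modules.pullback ψ).obj A ≅ (Coh.push p).obj (Coh.structureModule (pullback ψ ψ)) :=
      asIso ((FMK72.bcNat hw).app (Coh.structureModule Z')) ≪≫ (Coh.push p).mapIso u0
    have hC : FlatMod.IsFinLocFreeOfRank (d + 1) ((Coh.push p).obj (Coh.structureModule (pullback ψ ψ))) :=
      Var76.OmegaRegular.isFinLocFreeOfRank_of_iso eA (Grass5.QuotBC.isFinLocFreeOfRank_pullback ψ hA)
    haveI : Epi (resSec p j hj) := epi_resSec p j hj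
    haveI := isIso_kernel_resRest p j hj
    let r : (rest j).toScheme ⟶ Z' := (rest j).ι ≫ p
    haveI : IsClosedImmersion (rest j).ι := IsClosedImmersion.of_isPreimmersion _ (by
      rw [Scheme.Opens.range_ι]
      exact j.isOpenEmbedding.isOpen_range.isClosed_compl)
    haveI : IsFinite r := inferInstanceAs (IsFinite ((rest j).ι ≫ p))
    haveI : Etale r := inferInstanceAs (Etale ((rest j).ι ≫ p))
    have hO : PicF.IsInvertible (Coh.structureModule Z') := EGA73.isInvertible_structureModule
    let eK : kernel (resSec p j hj) ≅ (Coh.push r).obj (Coh.structureModule (rest j).toScheme) :=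
      asIso (kernel.ι (resSec p j hj) ≫ resRest p j)
    have hB : FlatMod.IsFinLocFreeOfRank d ((Coh.push r).obj (Coh.structureModule (rest j).toScheme)) :=
      Var76.OmegaRegular.isFinLocFreeOfRank_of_iso eK (Cyc90.Dev.isFinLocFreeOfRank_kernel hC hO (resSec p j hj))
    have hsplit : ∀ N : Z'.Modules, Coh.IsCoh N →
        Curv2.euler k Z' (CohB1.tensorMod N ((Scheme.Modules.pullback ψ).obj A)) =
          ((d + 1 : ℕ) : ℤ) * Curv2.euler k Z' N := by
      intro N hN
      let S : ShortComplex Z'.Modules := ShortComplex.mk _ _ (kernel.condition (resSec p j hj))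
      have hSp : S.Splitting := ShortComplex.Splitting.ofExactOfSection S (ShortComplex.exact_kernel _)
        (H1Push72.pushUnit p) (pushUnit_resSec p j hj) (inferInstanceAs (Mono (kernel.ι (resSec p j hj))))
      have hS := (hSp.map (DCoh.tensorBi.obj N)).shortExact
      have hK : Coh.IsCoh (kernel (resSec p j hj)) :=
        QC70.isCoh_kernel _ (VarMods75.isCoh hC) Crv77.isCoh_structureModule.1
      have h := Snapper75.euler_add k hS (Crv77.isCoh_tensorMod hN hK)
        (Crv77.isCoh_tensorMod hN (VarMods75.isCoh hC))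
        (Crv77.isCoh_tensorMod hN Crv77.isCoh_structureModule)
      change Curv2.euler k Z' (CohB1.tensorMod N _) =
        Curv2.euler k Z' (CohB1.tensorMod N _) + Curv2.euler k Z' (CohB1.tensorMod N _) at h
      rw [Crv77.euler_congr (EGA73.tensIso (Iso.refl N) eA)]
      refine h.trans ?_
      rw [Crv77.euler_congr (EGA73.tensIso (Iso.refl N) eK), ih r hB N hN,
        Crv77.euler_congr (EGA73.tensUnitRight N)]
      push_cast
      ring
    have hf := VarMods75.addFn_tensor k hA
    suffices h : (Curv2.euler k Z (CohB1.tensorMod M A) : ℚ) - ((d + 1 : ℕ) : ℚ) * (Curv2.euler k Z M : ℚ) = 0 by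
      exact_mod_cast sub_eq_zero.1 h
    refine eq_zero_of_tensor k hf (Nat.succ_pos d) hA (fun N hN => ?_) hM
    rw [sub_eq_zero]
    have e1 := euler_tensor_push k ψ rfl (Crv77.isCoh_tensorMod hN (VarMods75.isCoh hA))
    rw [Crv77.euler_congr (Desc59.AmpleDesc.pullTensIso ψ N A), hsplit _ (isCoh_pullback ψ hN),
      ← euler_tensor_push k ψ rfl hN] at e1
    exact_mod_cast e1

/-- Finite etale covers multiply the Euler characteristic by the degree. -/
theorem main {X X' : Scheme.{u}} [X.Over (Spec (CommRingCat.of k))] [X'.Over (Spec (CommRingCat.of k))]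
    [IsProper (X ↘ Spec (CommRingCat.of k))] (φ : X' ⟶ X) [Etale φ]
    (hφ : φ ≫ (X ↘ Spec (CommRingCat.of k)) = X' ↘ Spec (CommRingCat.of k))
    (d : ℕ) (hd : Mor2.IsFinLocFreeOfDeg d φ) :
    Curv2.euler k X' (Coh.structureModule X') = d * Curv2.euler k X (Coh.structureModule X) := by
  haveI : IsFinite φ := hd.1.1
  have hA := FinCov99.isFinLocFreeOfRank_of_isCover φ d hd
  rw [← main_aux k d φ hA _ Crv77.isCoh_structureModule, euler_tensor_push k φ hφ Crv77.isCoh_structureModule]
  obtain ⟨u0⟩ := PP93.nonempty_pullback_unit φ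
  rw [Crv77.euler_congr u0]

/-- The truncated Euler characteristic of a finite cover. -/
theorem eulerCharLE_eq_euler {X X' : Scheme.{u}} [X.Over (Spec (CommRingCat.of k))] [X'.Over (Spec (CommRingCat.of k))]
    [IsProper (X ↘ Spec (CommRingCat.of k))] [IsProper (X' ↘ Spec (CommRingCat.of k))] (φ : X' ⟶ X) [IsFinite φ]
    (hφ : φ ≫ (X ↘ Spec (CommRingCat.of k)) = X' ↘ Spec (CommRingCat.of k)) {n : ℕ}
    (hn : topologicalKrullDim X ≤ n) :
    FGA.eulerCharLE k X' (Coh.structureModule X') n = Curv2.euler k X' (Coh.structureModule X') := by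
  haveI := Crv77.isNoetherian_of_proper k X
  haveI := Crv77.isNoetherian_of_proper k X'
  haveI : (Coh.structureModule X').IsQuasicoherent := QC70.isQuasicoherent_unit (X := X')
  have hc := Cyc90.isCoh_push_of_isFinite φ (Coh.structureModule X') Crv77.isCoh_structureModule
  have hb : Crv77.FinBdd k (Coh.structureModule X') (n + 1) :=
    ⟨fun m => Serre71.finite_hh_of_isProper k _ Crv77.isCoh_structureModule m, fun m hm => by
      obtain ⟨e⟩ := Var76.nonempty_hhLin_push φ hφ (Coh.structureModule X') hc.1 m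
      haveI := Var76.subsingleton_HH_of_support ((Coh.push φ).obj (Coh.structureModule X')) isClosed_univ
        (fun x hx => absurd trivial hx) ((topologicalKrullDim_subspace_le X _).trans hn) m (by omega)
      first
        | exact e.toEquiv.subsingleton
        | exact e.symm.toEquiv.subsingleton⟩
  exact hb.euler_eq.symm

end Groth.Agent.FGA29.EtaleEuler
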