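import Groth.Agent.Amp73.PullTensor
import Groth.Agent.Amp73.Powers
import Groth.Agent.PicH1x97.Rel
import Groth.Agent.EGA73.LineCocycle
import Groth.Agent.Curves2.Glue.Descend
import Groth.Agent.EtPic91.H1GmPic

/-!
`n`-th roots of invertible modules extend uniquely along a square-zero thickening when `n` is invertible.
-/

set_option autoImplicit false
set_option backward.isDefEq.respectTransparency.types false

universe u

open CategoryTheory CategoryTheory.Limits AlgebraicGeometry TopologicalSpace Opposite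

noncomputable section

namespace Groth.Agent.FGA29.RootLift

open Var76.LineBundle

variable {X X₀ : Scheme.{u}} (i : X₀ ⟶ X) [IsClosedImmersion i]
  (hi : ∀ U : X.affineOpens, i.ker.ideal U ^ 2 = ⊥)

include hi in
theorem mul_eq_zero_of_app_eq_zero {W : X.Opens} {x y : Γ(X, W)} (hx : i.app W x = 0) (hy : i.app W y = 0) :
    x * y = 0 := by
  refine EGA73.fres_eq_of_locally _ _ fun p hp => ?_
  obtain ⟨V, hV, hpV, hVW⟩ := exists_isAffineOpen_mem_and_subset (X := X) (x := p) (U := W) hp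
  refine ⟨V, hVW, hpV, ?_⟩
  have hres : ∀ z, i.app W z = 0 → Var76.ZeroScheme.fres (show V ≤ W from hVW) z ∈ i.ker.ideal ⟨V, hV⟩ := by
    intro z hz
    rw [Scheme.Hom.ker_apply, RingHom.mem_ker]
    have := ConcreteCategory.congr_hom (i.naturality (homOfLE (show V ≤ W from hVW)).op) z
    refine this.trans ?_
    show (X₀.presheaf.map _) (i.app W z) = 0
    rw [hz, map_zero]
  have h := Ideal.mul_mem_mul (hres x hx) (hres y hy)
  rw [← pow_two, hi ⟨V, hV⟩, Ideal.mem_bot] at h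
  simp only [Var76.ZeroScheme.fres, map_mul, map_zero] at h ⊢
  exact h

include hi in
theorem isUnit_of_app {W : X.Opens} {x y : Γ(X, W)} (h : i.app W x * i.app W y = 1) : IsUnit x := by
  have hd : i.app W (x * y - 1) = 0 := by rw [map_sub, map_mul, map_one, h, sub_self]
  have h2 := mul_eq_zero_of_app_eq_zero i hi hd hd
  refine IsUnit.of_mul_eq_one_right (y * (1 - (x * y - 1))) ?_
  linear_combination (-1 : Γ(X, W)) * h2

omit [IsClosedImmersion i] in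
theorem add_pow_sq_zero {R : Type*} [CommRing R] (g d : R) (h : d * d = 0) :
    ∀ m : ℕ, (g + d) ^ (m + 1) = g ^ (m + 1) + (m + 1 : ℕ) * g ^ m * d
  | 0 => by simp
  | m + 1 => by
    rw [pow_succ, add_pow_sq_zero g d h m]
    push_cast
    linear_combination ((m : R) + 1) * g ^ m * h

include hi in
/-- Roots with given image are unique. -/
theorem root_unique {W : X.Opens} {m : ℕ} (hn : IsUnit ((m + 1 : ℕ) : Γ(X, W))) {g g' : Γ(X, W)} (hg : IsUnit g)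
    (hi' : i.app W g = i.app W g') (hp : g ^ (m + 1) = g' ^ (m + 1)) : g = g' := by
  have hd : i.app W (g' - g) = 0 := by rw [map_sub, hi', sub_self]
  have h2 := mul_eq_zero_of_app_eq_zero i hi hd hd
  have h3 := add_pow_sq_zero g (g' - g) h2 m
  rw [add_sub_cancel, ← hp, left_eq_add] at h3
  exact (sub_eq_zero.1 (((hn.mul (hg.pow m)).mul_right_eq_zero).1 h3)).symm

include hi in
/-- Roots exist on an affine open. -/
theorem exists_root {W : X.Opens} (hW : IsAffineOpen W) {m : ℕ} (hn : IsUnit ((m + 1 : ℕ) : Γ(X, W)))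
    (c : Γ(X, W)ˣ) (g₀ : Γ(X₀, i ⁻¹ᵁ W)ˣ) (h : (g₀ : Γ(X₀, i ⁻¹ᵁ W)) ^ (m + 1) = i.app W (c : Γ(X, W))) :
    ∃ g : Γ(X, W)ˣ, i.app W (g : Γ(X, W)) = g₀ ∧ (g : Γ(X, W)) ^ (m + 1) = c := by
  obtain ⟨g, hg⟩ := i.app_surjective W hW (g₀ : Γ(X₀, i ⁻¹ᵁ W))
  obtain ⟨g', hg'⟩ := i.app_surjective W hW ((g₀⁻¹ : Γ(X₀, i ⁻¹ᵁ W)ˣ) : Γ(X₀, i ⁻¹ᵁ W))
  have hu : IsUnit g := isUnit_of_app i hi (x := g) (y := g') (by rw [hg, hg', Units.mul_inv])
  obtain ⟨q, hq⟩ : IsUnit (((m + 1 : ℕ) : Γ(X, W)) * g ^ m) := hn.mul (hu.pow m)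
  have hd : i.app W ((c : Γ(X, W)) - g ^ (m + 1)) = 0 := by rw [map_sub, map_pow, hg, h, sub_self]
  let δ : Γ(X, W) := ((q⁻¹ : Γ(X, W)ˣ) : Γ(X, W)) * ((c : Γ(X, W)) - g ^ (m + 1))
  have hδ : i.app W δ = 0 := by
    show i.app W (_ * _) = 0
    rw [map_mul, hd, mul_zero]
  have h3 := add_pow_sq_zero g δ (mul_eq_zero_of_app_eq_zero i hi hδ hδ) m
  rw [← hq, ← mul_assoc, Units.mul_inv, one_mul, add_sub_cancel] at h3
  have hu' : IsUnit (g + δ) := (isUnit_pow_succ_iff).1 (h3.symm ▸ c.isUnit)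
  exact ⟨hu'.unit, by rw [IsUnit.unit_spec, map_add, hg, hδ, add_zero], h3⟩

include hi in
theorem isUnit_lift {W : X.Opens} (hW : IsAffineOpen W) (v : Γ(X₀, i ⁻¹ᵁ W)ˣ) :
    ∃ w : Γ(X, W)ˣ, i.app W (w : Γ(X, W)) = v := by
  obtain ⟨x, hx⟩ := i.app_surjective W hW (v : Γ(X₀, i ⁻¹ᵁ W))
  obtain ⟨y, hy⟩ := i.app_surjective W hW ((v⁻¹ : Γ(X₀, i ⁻¹ᵁ W)ˣ) : Γ(X₀, i ⁻¹ᵁ W))
  exact ⟨(isUnit_of_app i hi (x := x) (y := y) (by rw [hx, hy, Units.mul_inv])).unit, hx⟩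

theorem app_fres {A B : X.Opens} (h : B ≤ A) (z : Γ(X, A)) :
    i.app B (Var76.ZeroScheme.fres h z) = X₀.presheaf.map (homOfLE (i.preimage_mono h)).op (i.app A z) :=
  ConcreteCategory.congr_hom (i.naturality (homOfLE h).op) z

theorem app_nat_unit {n : ℕ} (hn : IsUnit (n : Γ(X, ⊤))) (W : X.Opens) : IsUnit (n : Γ(X, W)) := by
  have := hn.map (X.presheaf.map (homOfLE (le_top : W ≤ ⊤)).op).hom
  rwa [map_natCast] at this

include hi in
/-- `n`-th roots of invertible modules lift, compatibly. -/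
theorem exists_root_lift' [X.IsSeparated] [Surjective i] {m : ℕ} (hn : IsUnit ((m + 1 : ℕ) : Γ(X, ⊤)))
    {L : X.Modules} (hL : PicF.IsInvertible L) {L' : X₀.Modules} (hL' : PicF.IsInvertible L')
    (φ : CohB1.tensorPow L' (m + 1) ≅ (Scheme.Modules.pullback i).obj L) :
    ∃ M : X.Modules, PicF.IsInvertible M ∧ Nonempty (CohB1.tensorPow M (m + 1) ≅ L) ∧
      Nonempty ((Scheme.Modules.pullback i).obj M ≅ L') := by
  have hloc : ∀ x : X, ∃ (V : X.Opens) (l : Γ(L, V)) (e : Γ(L', i ⁻¹ᵁ V)), x ∈ V ∧ IsAffineOpen V ∧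
      IsFrame L V l ∧ IsFrame L' (i ⁻¹ᵁ V) e ∧
      φ.hom.app (i ⁻¹ᵁ V) (Amp73.epow e (m + 1)) = Amp73.pullS i L V l := by
    intro x
    obtain ⟨y, rfl⟩ := i.surjective x
    obtain ⟨O, hyO, e, he⟩ := Mero90.exists_frame' hL' y
    obtain ⟨UL, hUL, l, hl⟩ := Mero90.exists_frame' hL (i y)
    obtain ⟨W, hWo, hW⟩ := i.isClosedEmbedding.isInducing.isOpen_iff.mp O.2
    obtain ⟨V, hV, hyV, hVW⟩ := exists_isAffineOpen_mem_and_subset (X := X) (x := i y)
      (U := (⟨W, hWo⟩ : X.Opens) ⊓ UL) ⟨(Set.ext_iff.1 hW y).2 hyO, hUL⟩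
    have hle : i ⁻¹ᵁ V ≤ O := fun z hz => (Set.ext_iff.1 hW z).1 (hVW hz).1
    have hVL : V ≤ UL := fun z hz => (hVW hz).2
    let e' := res L' hle e
    have he' : IsFrame L' (i ⁻¹ᵁ V) e' := he.res hle
    obtain ⟨v, hv⟩ := PicH1x97.exists_unit (Amp73.isFrame_pullS i hL (hl.res hVL))
      (EtPic91.isFrame_of_iso φ (Amp73.isFrame_epow he' (m + 1)))
    obtain ⟨w, hw⟩ := isUnit_lift i hi hV v
    refine ⟨V, (w : Γ(X, V)) • res L hVL l, e', hyV, hV, ?_, he', ?_⟩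
    · exact (Amp73.isFrame_smul_iff (hl.res hVL) _).2 w.isUnit
    · rw [hv, Amp73.pullS_smul, hw]
  choose V l e hxV hV hl he hφ using hloc
  choose c hc using fun a b : X => PicH1x97.exists_unit
    ((hl a).res (inf_le_left : V a ⊓ V b ≤ V a)) ((hl b).res (inf_le_right : V a ⊓ V b ≤ V b))
  choose g₀ hg₀ using fun a b : X => PicH1x97.exists_unit
    ((he a).res (i.preimage_mono inf_le_left : i ⁻¹ᵁ (V a ⊓ V b) ≤ i ⁻¹ᵁ V a))
    ((he b).res (i.preimage_mono inf_le_right : i ⁻¹ᵁ (V a ⊓ V b) ≤ i ⁻¹ᵁ V b))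
  have hpow : ∀ a b, (g₀ a b : Γ(X₀, i ⁻¹ᵁ (V a ⊓ V b))) ^ (m + 1) = i.app (V a ⊓ V b) (c a b : Γ(X, V a ⊓ V b)) := by
    intro a b
    have hP := Amp73.pullS_smul i L (V a ⊓ V b) (c a b : Γ(X, V a ⊓ V b)) (res L inf_le_left (l a))
    rw [← hc a b, ← Amp73.res_pullS i L (inf_le_right : V a ⊓ V b ≤ V b),
      ← Amp73.res_pullS i L (inf_le_left : V a ⊓ V b ≤ V a), ← hφ, ← hφ, ← Mero90.app_res, ← Mero90.app_res,
      Amp73.res_epow, Amp73.res_epow, hg₀ a b, Amp73.epow_smul, Scheme.Modules.Hom.app_smul] at hP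
    refine ((EtPic91.isFrame_of_iso φ (Amp73.isFrame_epow
      ((he a).res (i.preimage_mono inf_le_left : i ⁻¹ᵁ (V a ⊓ V b) ≤ i ⁻¹ᵁ V a)) (m + 1))) _ le_rfl).1 ?_
    dsimp only
    rw [Amp73.res_self]
    exact hP
  choose g hgi hgp using fun a b : X =>
    exists_root i hi ((hV a).inf (hV b)) (app_nat_unit hn _) (c a b) (g₀ a b) (hpow a b)
  have hc0 : ∀ a, (c a a : Γ(X, V a ⊓ V a)) = 1 := fun a => by
    refine ((hl a).res (inf_le_left : V a ⊓ V a ≤ V a) _ le_rfl).1 ?_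
    dsimp only
    rw [Amp73.res_self, one_smul]
    exact (hc a a).symm
  have hg0 : ∀ a, (g₀ a a : Γ(X₀, i ⁻¹ᵁ (V a ⊓ V a))) = 1 := fun a => by
    refine ((he a).res (i.preimage_mono inf_le_left : i ⁻¹ᵁ (V a ⊓ V a) ≤ i ⁻¹ᵁ V a) _ le_rfl).1 ?_
    dsimp only
    rw [Amp73.res_self, one_smul]
    exact (hg₀ a a).symm
  have hc3 : ∀ (a b d : X) (A : X.Opens) (hab : A ≤ V a ⊓ V b) (hbd : A ≤ V b ⊓ V d) (had : A ≤ V a ⊓ V d),
      Var76.ZeroScheme.fres hab (c a b : Γ(X, V a ⊓ V b)) * Var76.ZeroScheme.fres hbd (c b d : Γ(X, V b ⊓ V d)) =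
        Var76.ZeroScheme.fres had (c a d : Γ(X, V a ⊓ V d)) := by
    intro a b d A hab hbd had
    refine ((hl a).res (hab.trans inf_le_left) _ le_rfl).1 ?_
    dsimp only
    rw [Amp73.res_self]
    have e1 := congrArg (res L hab) (hc a b)
    have e2 := congrArg (res L hbd) (hc b d)
    have e3 := congrArg (res L had) (hc a d)
    simp only [res_smul, res_res] at e1 e2 e3
    rw [e1, e3, smul_smul] at e2
    simp only [Var76.ZeroScheme.fres]
    rw [mul_comm]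
    exact e2.symm
  have hg3 : ∀ (a b d : X) (A : X.Opens) (hab : A ≤ V a ⊓ V b) (hbd : A ≤ V b ⊓ V d) (had : A ≤ V a ⊓ V d),
      i.app A (Var76.ZeroScheme.fres hab (g a b : Γ(X, V a ⊓ V b)) * Var76.ZeroScheme.fres hbd (g b d : Γ(X, V b ⊓ V d))) =
        i.app A (Var76.ZeroScheme.fres had (g a d : Γ(X, V a ⊓ V d))) := by
    intro a b d A hab hbd had
    rw [map_mul, app_fres, app_fres, app_fres, hgi, hgi, hgi]
    refine ((he a).res (i.preimage_mono (hab.trans inf_le_left)) _ le_rfl).1 ?_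
    dsimp only
    rw [Amp73.res_self]
    have e1 := congrArg (res L' (i.preimage_mono hab)) (hg₀ a b)
    have e2 := congrArg (res L' (i.preimage_mono hbd)) (hg₀ b d)
    have e3 := congrArg (res L' (i.preimage_mono had)) (hg₀ a d)
    simp only [res_smul, res_res] at e1 e2 e3
    rw [e1, e3, smul_smul] at e2
    rw [mul_comm]
    exact e2.symm
  obtain ⟨M, f, hM, hf, hff⟩ := EGA73.exists_lineBundle (W := V) (fun x => ⟨x, hxV x⟩)
    (fun a b => (g a b : Γ(X, V a ⊓ V b)))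
    (fun a => (root_unique i hi (app_nat_unit hn _) (g a a).isUnit
      (by rw [hgi, hg0, map_one]) (by rw [hgp, hc0, one_pow])))
    (fun a b d A hab hbd had => root_unique i hi (app_nat_unit hn _)
      (((g a b).isUnit.map _).mul ((g b d).isUnit.map _)) (hg3 a b d A hab hbd had)
      (by
        simp only [Var76.ZeroScheme.fres]
        rw [mul_pow, ← map_pow, ← map_pow, ← map_pow, hgp, hgp, hgp]
        exact hc3 a b d A hab hbd had))
  refine ⟨M, hM, Curves2.Glue.nonempty_iso_of_frames V (fun x => ⟨x, hxV x⟩)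
    (fun a => Amp73.epow (f a) (m + 1)) l (fun a => Amp73.isFrame_epow (hf a) _) hl (fun a b d hd => ?_),
    Curves2.Glue.nonempty_iso_of_frames (fun a => i ⁻¹ᵁ V a) (fun x => ⟨i x, hxV (i x)⟩)
      (fun a => Amp73.pullS i M (V a) (f a)) e (fun a => Amp73.isFrame_pullS i hM (hf a)) he
      (fun a b t ht => ?_)⟩
  swap
  · -- the pulled back frames
    have hA : res ((Scheme.Modules.pullback i).obj M) (inf_le_right : i ⁻¹ᵁ V a ⊓ i ⁻¹ᵁ V b ≤ _)
        (Amp73.pullS i M (V b) (f b)) =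
        (g₀ a b : Γ(X₀, i ⁻¹ᵁ (V a ⊓ V b))) • res ((Scheme.Modules.pullback i).obj M)
          (i.preimage_mono inf_le_left : i ⁻¹ᵁ (V a ⊓ V b) ≤ i ⁻¹ᵁ V a) (Amp73.pullS i M (V a) (f a)) := by
      erw [Amp73.res_pullS i M (inf_le_right : V a ⊓ V b ≤ V b),
        Amp73.res_pullS i M (inf_le_left : V a ⊓ V b ≤ V a)]
      rw [← hgi a b]
      exact (congrArg (Amp73.pullS i M (V a ⊓ V b)) (hff a b)).trans (Amp73.pullS_smul i M _ _ _)
    let dv : Γ(X₀, i ⁻¹ᵁ V a ⊓ i ⁻¹ᵁ V b) := (g₀ a b : Γ(X₀, i ⁻¹ᵁ (V a ⊓ V b)))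
    have hfr := ((Amp73.isFrame_pullS i hM (hf a)).res
      (inf_le_left : i ⁻¹ᵁ V a ⊓ i ⁻¹ᵁ V b ≤ _))
    have htd : t * dv = 1 := by
      refine (hfr _ le_rfl).1 ?_
      dsimp only
      rw [Amp73.res_self, one_smul, mul_smul]
      exact (congrArg (t • ·) hA.symm).trans ht
    have h2 : res L' (inf_le_right : i ⁻¹ᵁ V a ⊓ i ⁻¹ᵁ V b ≤ i ⁻¹ᵁ V b) (e b) =
        dv • res L' (inf_le_left : i ⁻¹ᵁ V a ⊓ i ⁻¹ᵁ V b ≤ i ⁻¹ᵁ V a) (e a) := hg₀ a b
    rw [h2, smul_smul, htd, one_smul]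
  rw [Amp73.res_epow, Amp73.res_epow, hff a b, Amp73.epow_smul, hgp, smul_smul] at hd
  rw [hc a b, smul_smul]
  have hd' : d * (c a b : Γ(X, V a ⊓ V b)) = 1 := by
    refine ((Amp73.isFrame_epow ((hf a).res (inf_le_left : V a ⊓ V b ≤ V a)) (m + 1)) _ le_rfl).1 ?_
    dsimp only
    rw [Amp73.res_self, one_smul]
    exact hd
  rw [hd', one_smul]

include hi in
/-- `n`-th roots of invertible modules lift. -/
theorem exists_root_lift [X.IsSeparated] [Surjective i] {m : ℕ} (hn : IsUnit ((m + 1 : ℕ) : Γ(X, ⊤)))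
    {L : X.Modules} (hL : PicF.IsInvertible L) {L' : X₀.Modules} (hL' : PicF.IsInvertible L')
    (φ : CohB1.tensorPow L' (m + 1) ≅ (Scheme.Modules.pullback i).obj L) :
    ∃ M : X.Modules, PicF.IsInvertible M ∧ Nonempty (CohB1.tensorPow M (m + 1) ≅ L) := by
  obtain ⟨M, hM, h, -⟩ := exists_root_lift' i hi hn hL hL' φ
  exact ⟨M, hM, h⟩

end Groth.Agent.FGA29.RootLift
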