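import Groth.Agent.FGA29.SmallLift
import Groth.Agent.FGA29.DualH1
import Groth.Agent.FGA29.RootLift
import Groth.Agent.FGA29.PicGroup
import Groth.Agent.Unr55.ArtinCrit
import Mathlib.FieldTheory.IsAlgClosed.AlgebraicClosure

/-!
The power maps of a relative Picard scheme are étale where the exponent is invertible.
-/

set_option autoImplicit false
set_option backward.isDefEq.respectTransparency.types false
set_option linter.style.haveILetI false

noncomputable section

universe u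

open CategoryTheory CategoryTheory.Limits AlgebraicGeometry IsLocalRing TrivSqZeroExt

namespace Groth.Agent.FGA29.EtPow

open Cube7.PicCalc

/-- A class on a dual number thickening which dies on the closed fibre and under an invertible power is trivial. -/
theorem eq_one_of_torsion {K : Type u} [Field K] {Y : Scheme.{u}} (g : Y ⟶ Spec (CommRingCat.of (DualNumber K)))
    [Flat g] (ψ : K → (Y ⟶ Y))
    (hψ : ∀ c, ψ c ≫ g = g ≫ Spec.map (CommRingCat.ofHom (DualH1.sc c)))
    (hψi : ∀ c, (DualH1.J g).subschemeι ≫ ψ c = (DualH1.J g).subschemeι)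
    {n : ℕ} (hn : (n : K) ≠ 0) (d : PicLoc.PicSet Y) (h0 : pb (ψ 0) d = 1) (hpow : d ^ n = 1) : d = 1 := by
  letI : Y.Over (Spec (CommRingCat.of K)) := ⟨g ≫ Spec.map (CommRingCat.ofHom (DualH1.con K))⟩
  obtain ⟨Φ, hinj, hker, -⟩ := DualH1.exists_phi g rfl ψ hψ hψi
  obtain ⟨x, hx⟩ := (hker (H1U.h1Cls d)).1 (by
    rw [← H1U.h1Cls_pb (ψ 0) (DualH1.fix (hψi 0)), h0, H1U.h1Cls_one])
  have h1 : Φ (n • x) = 0 := by
    rw [map_nsmul, hx]
    exact (map_nsmul H1U.h1Hom n (Additive.ofMul d)).symm.trans ((congrArg H1U.h1Cls hpow).trans H1U.h1Cls_one)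
  have h2 : n • x = 0 := hinj (h1.trans (map_zero Φ).symm)
  rw [← Nat.cast_smul_eq_nsmul K] at h2
  have hx0 : x = 0 := (smul_eq_zero.1 h2).resolve_left hn
  exact (H1U.h1Cls_eq_zero_iff d).1 (by rw [← hx, hx0, map_zero])

variable {X S : Scheme.{u}} (f : X ⟶ S) [Flat f]

section Dual

variable {K : Type u} [Field K] (tK : Spec (CommRingCat.of K) ⟶ S)

/-- The dual numbers over a point. -/
abbrev Td : Over S := Over.mk (Spec.map (CommRingCat.ofHom (DualH1.con K)) ≫ tK)

/-- The closed point of the dual numbers. -/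
abbrev cl0 : Over.mk tK ⟶ Td tK :=
  Over.homMk (Spec.map (CommRingCat.ofHom (DualH1.aug K))) (by
    show _ ≫ _ ≫ tK = tK
    rw [← Category.assoc, ← Spec.map_comp, ← CommRingCat.ofHom_comp]
    rw [show (DualH1.aug K).comp (DualH1.con K) = RingHom.id K from RingHom.ext fun a => TrivSqZeroExt.fst_inl K a]
    exact (congrArg (· ≫ tK) (Spec.map_id _)).trans (Category.id_comp _))

/-- The scalings of the dual numbers. -/
abbrev scT (c : K) : Td tK ⟶ Td tK :=
  Over.homMk (Spec.map (CommRingCat.ofHom (DualH1.sc c))) (by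
    show _ ≫ _ ≫ tK = _ ≫ tK
    rw [← Category.assoc, ← Spec.map_comp, ← CommRingCat.ofHom_comp]
    refine congrArg (fun q => Spec.map (CommRingCat.ofHom q) ≫ tK) (RingHom.ext fun a => ?_)
    exact TrivSqZeroExt.map_inl (c • (LinearMap.id : K →ₗ[K] K)) a)

/-- The projection to the point. -/
abbrev pr0 : Td tK ⟶ Over.mk tK := Over.homMk (Spec.map (CommRingCat.ofHom (DualH1.con K))) rfl

theorem scT_zero : scT tK 0 = pr0 tK ≫ cl0 tK := by
  apply Over.OverMorphism.ext
  show Spec.map _ = Spec.map _ ≫ Spec.map _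
  rw [← Spec.map_comp, ← CommRingCat.ofHom_comp]
  refine congrArg (fun q => Spec.map (CommRingCat.ofHom q)) (RingHom.ext fun a => ?_)
  let b : DualNumber K := a
  show TrivSqZeroExt.map _ b = TrivSqZeroExt.inl (TrivSqZeroExt.fst b)
  ext
  · simp
  · simp

theorem eq_of_dual {n : ℕ} (hn : (n : K) ≠ 0) {c c' : PicLoc.PicSet (PicF.XT f (Td tK))}
    (h0 : pb (PicF.XTmap f (cl0 tK)) c = pb (PicF.XTmap f (cl0 tK)) c') (hpow : c ^ n = c' ^ n) : c = c' := by
  let g : PicF.XT f (Td tK) ⟶ Spec (CommRingCat.of (DualNumber K)) := PicF.XTproj f (Td tK)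
  haveI : Flat g := inferInstanceAs (Flat (pullback.snd f _))
  have hψ : ∀ a, PicF.XTmap f (scT tK a) ≫ g = g ≫ Spec.map (CommRingCat.ofHom (DualH1.sc a)) := fun a =>
    pullback.lift_snd _ _ _
  have hψi : ∀ a, (DualH1.J g).subschemeι ≫ PicF.XTmap f (scT tK a) = (DualH1.J g).subschemeι := by
    intro a
    obtain ⟨e', he⟩ := DualH1.exists_iso g
    refine pullback.hom_ext ?_ ?_
    · rw [Category.assoc]
      exact congrArg (_ ≫ ·) ((pullback.lift_fst _ _ _).trans (Category.comp_id _))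
    · show ((DualH1.J g).subschemeι ≫ PicF.XTmap f (scT tK a)) ≫ g = (DualH1.J g).subschemeι ≫ g
      rw [Category.assoc, hψ, ← he, Category.assoc, Category.assoc,
        show Units47.iSub g (DualH1.aug K) ≫ g =
          pullback.snd _ _ ≫ Spec.map (CommRingCat.ofHom (DualH1.aug K)) from pullback.condition,
        ← Category.assoc (Units47.iSub _ _), show Units47.iSub g (DualH1.aug K) ≫ g =
          pullback.snd _ _ ≫ Spec.map (CommRingCat.ofHom (DualH1.aug K)) from pullback.condition,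
        Category.assoc, ← Spec.map_comp, ← CommRingCat.ofHom_comp]
      refine congrArg (fun q => e'.hom ≫ pullback.snd _ _ ≫ Spec.map (CommRingCat.ofHom q)) ?_
      exact RingHom.ext fun z => TrivSqZeroExt.fst_map _ z
  refine mul_inv_eq_one.1 (eq_one_of_torsion g (fun a => PicF.XTmap f (scT tK a)) hψ hψi hn _ ?_ ?_)
  · show pb (PicF.XTmap f (scT tK 0)) (c * c'⁻¹) = 1
    rw [scT_zero, Desc59.Pic.XTmap_comp, pb_comp, map_mul, map_inv, h0, mul_inv_cancel, map_one]
  · rw [mul_pow, inv_pow, hpow, mul_inv_cancel]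

end Dual

variable {P : Over S} {φ : ∀ T : Over S, PicF.Cl (PicF.XT f T) → (T ⟶ P)}
  (hP : PicRel.IsRelPic f P φ) (n : ℕ) (m : P ⟶ P)
  (hm : ∀ (T : Over S) (L : (PicF.XT f T).Modules), PicF.IsInvertible L →
      φ T (PicF.cl (CohB1.tensorPow L n)) = φ T (PicF.cl L) ≫ m)

include hm in
omit [Flat f] in
theorem psi_pow {T : Over S} (c : PicLoc.PicSet (PicF.XT f T)) :
    PicGroup.ψ φ (c ^ n) = PicGroup.ψ φ c ≫ m := by
  obtain ⟨L, hL, rfl⟩ := PicGrp.exists_eq_cls c
  show φ T (PicGrp.cls L hL ^ n).1 = φ T (PicF.cl L) ≫ m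
  rw [PicGrp.cls_pow_val hL n]
  exact hm T L hL

include hP in
omit [Flat f] in
theorem exists_psi {A : Type u} [CommRing A] [HenselianLocalRing A] [IsSepClosed (ResidueField A)]
    (t : Spec (CommRingCat.of A) ⟶ S) (g : Over.mk t ⟶ P) :
    ∃ c : PicLoc.PicSet (PicF.XT f (Over.mk t)), PicGroup.ψ φ c = g := by
  obtain ⟨c, hc, h⟩ := PicArtin.exists_cl hP A t g
  exact ⟨⟨c, hc⟩, h⟩

include hP in
omit [Flat f] in
theorem psi_injective {A : Type u} [CommRing A] [HenselianLocalRing A] [IsSepClosed (ResidueField A)]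
    (t : Spec (CommRingCat.of A) ⟶ S) {c c' : PicLoc.PicSet (PicF.XT f (Over.mk t))}
    (h : PicGroup.ψ φ c = PicGroup.ψ φ c') : c = c' :=
  Subtype.ext (PicArtin.cl_ext hP A t c.2 c'.2 h)

include hP hm in
/-- Uniqueness on the dual numbers. -/
theorem eq_of_dual_point {K : Type u} [Field K] [IsSepClosed K] (hn : (n : K) ≠ 0)
    (tK : Spec (CommRingCat.of K) ⟶ S) {x x' : Td tK ⟶ P} (h0 : cl0 tK ≫ x = cl0 tK ≫ x')
    (hx : x ≫ m = x' ≫ m) : x = x' := by
  obtain ⟨hH, hK⟩ := PicArtin.strict_of_nil (DualH1.aug K) DualH1.aug_surjective fun a ha => ⟨2, by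
    let b : DualNumber K := a
    have hb : TrivSqZeroExt.fst b = 0 := ha
    show b ^ 2 = 0
    rw [pow_two]
    ext <;> simp [hb]⟩
  haveI : HenselianLocalRing K := inferInstance
  haveI : IsSepClosed (ResidueField K) :=
    Unr55.isSepClosed_of_surjective (residue K) residue_surjective
  obtain ⟨c, hc⟩ := @exists_psi _ _ f _ φ hP (DualNumber K) _ hH hK _ x
  obtain ⟨c', hc'⟩ := @exists_psi _ _ f _ φ hP (DualNumber K) _ hH hK _ x'
  rw [← hc, ← hc', eq_of_dual f tK hn (c := c) (c' := c') ?_ ?_]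
  · refine psi_injective f hP tK ?_
    rw [PicGroup.ψ_pb hP, PicGroup.ψ_pb hP, hc, hc', h0]
  · refine @psi_injective _ _ f _ φ hP (DualNumber K) _ hH hK _ _ _ ?_
    rw [psi_pow f n m hm, psi_pow f n m hm, hc, hc', hx]

omit [Flat f] in
theorem specMap_fromSpecStalk_left {p : P.left} {R : Type u} [CommRing R] (g : P.left.presheaf.stalk p →+* R) :
    (Spec.map (CommRingCat.ofHom g) ≫ P.left.fromSpecStalk p) ≫ m.left =
      Spec.map (CommRingCat.ofHom (g.comp (m.left.stalkMap p).hom)) ≫ P.left.fromSpecStalk (m.left p) := by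
  rw [Category.assoc, ← Scheme.SpecMap_stalkMap_fromSpecStalk, ← Category.assoc, ← Spec.map_comp]
  rfl

/-- The ring homomorphism of a derivation. -/
def derMap {K : Type u} [Field K] {B : Type u} [CommRing B] (e : B →+* K) (d : B → K)
    (hd₁ : d 1 = 0) (hadd : ∀ a b, d (a + b) = d a + d b) (hmul : ∀ a b, d (a * b) = e a * d b + e b * d a) :
    B →+* DualNumber K where
  toFun b := TrivSqZeroExt.inl (e b) + TrivSqZeroExt.inr (d b)
  map_one' := TrivSqZeroExt.ext (by simp) (by simp [hd₁])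
  map_mul' a b := TrivSqZeroExt.ext (by simp) (by simp [hmul, mul_comm])
  map_zero' := by
    have h0 : d 0 = 0 := left_eq_add.1 (show d 0 = d 0 + d 0 by rw [← hadd, add_zero])
    simp [h0]
  map_add' a b := TrivSqZeroExt.ext (by simp) (by simp [hadd])

include hP hm in
/-- Vanishing of derivations. -/
theorem derivation_eq_zero (p : P.left) (hn : IsUnit (n : P.left.presheaf.stalk p)) :
    letI := (m.left.stalkMap p).hom.toAlgebra
    ∀ D : Derivation (P.left.presheaf.stalk (m.left p)) (P.left.presheaf.stalk p)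
      (ResidueField (P.left.presheaf.stalk p)), D = 0 := by
  letI := (m.left.stalkMap p).hom.toAlgebra
  intro D
  let B := P.left.presheaf.stalk p
  let K := AlgebraicClosure (ResidueField B)
  let e : ResidueField B →+* K := algebraMap _ _
  have hres : ∀ (b : B) (z : ResidueField B), b • z = residue B b * z := fun b z => by
    rw [Algebra.smul_def]; rfl
  haveI : IsLocalRing (DualNumber K) := IsLocalRing.of_isUnit_or_isUnit_one_sub_self fun a => by
    rw [TrivSqZeroExt.isUnit_iff_isUnit_fst, TrivSqZeroExt.isUnit_iff_isUnit_fst (x := 1 - a),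
      TrivSqZeroExt.fst_sub, TrivSqZeroExt.fst_one]
    exact IsLocalRing.isUnit_or_isUnit_one_sub_self a.fst
  let g₁ : B →+* DualNumber K := (DualH1.con K).comp (e.comp (residue B))
  let g₂ : B →+* DualNumber K := derMap (e.comp (residue B)) (fun b => e (D b))
    (by rw [D.map_one_eq_zero, map_zero]) (fun a b => by rw [map_add, map_add])
    (fun a b => by rw [D.leibniz, hres, hres, map_add, map_mul, map_mul]; rfl)
  have hfst : ∀ b, (DualH1.aug K) (g₂ b) = e (residue B b) := fun b => by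
    show TrivSqZeroExt.fst (TrivSqZeroExt.inl (e (residue B b)) + TrivSqZeroExt.inr (e (D b))) = _
    simp
  have hloc1 : IsLocalHom g₁ := ⟨fun b hb => by
    have h1 : IsUnit (e (residue B b)) := TrivSqZeroExt.isUnit_iff_isUnit_fst.1 hb
    exact IsUnit.of_map (residue B) b (IsUnit.of_map e _ h1)⟩
  have hloc2 : IsLocalHom g₂ := ⟨fun b hb => by
    have h1 : IsUnit (e (residue B b)) := hfst b ▸ hb.map (DualH1.aug K)
    exact IsUnit.of_map (residue B) b (IsUnit.of_map e _ h1)⟩
  let tK : Spec (CommRingCat.of K) ⟶ S :=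
    (Spec.map (CommRingCat.ofHom (e.comp (residue B))) ≫ P.left.fromSpecStalk p) ≫ P.hom
  have hσ : g₁.comp (m.left.stalkMap p).hom = g₂.comp (m.left.stalkMap p).hom := RingHom.ext fun a => by
    have h0 : D ((m.left.stalkMap p).hom a) = 0 := D.map_algebraMap a
    refine TrivSqZeroExt.ext ?_ ?_
    · exact (TrivSqZeroExt.fst_inl K _).trans (hfst _).symm
    · refine (TrivSqZeroExt.snd_inl K _).trans ?_
      show 0 = TrivSqZeroExt.snd (TrivSqZeroExt.inl (e (residue B _)) + TrivSqZeroExt.inr (e (D ((m.left.stalkMap p).hom a))) : DualNumber K)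
      rw [h0, TrivSqZeroExt.snd_add, TrivSqZeroExt.snd_inl, TrivSqZeroExt.snd_inr, map_zero, add_zero]
  have hw₁ : (Spec.map (CommRingCat.ofHom g₁) ≫ P.left.fromSpecStalk p) ≫ P.hom = (Td tK).hom := by
    show _ = Spec.map _ ≫ (_ ≫ _) ≫ _
    rw [CommRingCat.ofHom_comp, Spec.map_comp, Category.assoc, Category.assoc, Category.assoc]
  have hw₂ : (Spec.map (CommRingCat.ofHom g₂) ≫ P.left.fromSpecStalk p) ≫ P.hom = (Td tK).hom := by
    rw [← hw₁, ← Over.w m, ← Category.assoc, ← Category.assoc, specMap_fromSpecStalk_left,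
      specMap_fromSpecStalk_left, hσ]
  let x₁ : Td tK ⟶ P := Over.homMk (Spec.map (CommRingCat.ofHom g₁) ≫ P.left.fromSpecStalk p) hw₁
  let x₂ : Td tK ⟶ P := Over.homMk (Spec.map (CommRingCat.ofHom g₂) ≫ P.left.fromSpecStalk p) hw₂
  have hnK : (n : K) ≠ 0 := by
    have h := hn.map (e.comp (residue B))
    rw [map_natCast] at h
    exact h.ne_zero
  have heq : x₁ = x₂ := by
    refine eq_of_dual_point f hP n m hm hnK tK (Over.OverMorphism.ext ?_) (Over.OverMorphism.ext ?_)
    · show Spec.map _ ≫ Spec.map _ ≫ _ = Spec.map _ ≫ Spec.map _ ≫ _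
      rw [← Category.assoc, ← Spec.map_comp, ← Category.assoc, ← Spec.map_comp, ← CommRingCat.ofHom_comp,
        ← CommRingCat.ofHom_comp]
      refine congrArg (fun q => Spec.map (CommRingCat.ofHom q) ≫ P.left.fromSpecStalk p) (RingHom.ext fun b => ?_)
      exact ((hfst b).trans (TrivSqZeroExt.fst_inl K (e (residue B b))).symm).symm
    · show (_ ≫ _) ≫ m.left = (_ ≫ _) ≫ m.left
      rw [specMap_fromSpecStalk_left, specMap_fromSpecStalk_left, hσ]
  have hg : g₁ = g₂ := congrArg CommRingCat.Hom.hom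
    (SmLift.eq_of_specMap (CommRingCat.ofHom g₁) (CommRingCat.ofHom g₂) hloc1 hloc2
      (congrArg CommaMorphism.left heq))
  ext b
  have h := congrArg TrivSqZeroExt.snd (RingHom.congr_fun hg b)
  have h' : e (D b) = 0 := by
    change TrivSqZeroExt.snd (TrivSqZeroExt.inl _ : DualNumber K) =
      TrivSqZeroExt.snd (TrivSqZeroExt.inl _ + TrivSqZeroExt.inr (e (D b)) : DualNumber K) at h
    rw [TrivSqZeroExt.snd_inl, TrivSqZeroExt.snd_add, TrivSqZeroExt.snd_inl, TrivSqZeroExt.snd_inr, zero_add] at h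
    exact h.symm
  exact (map_eq_zero e).1 h'

theorem formallyUnramified_of_der {A B : Type u} [CommRing A] [CommRing B] [IsLocalRing B] [Algebra A B]
    [Algebra.EssFiniteType A B] (hD : ∀ D : Derivation A B (ResidueField B), D = 0) :
    Algebra.FormallyUnramified A B := by
  have hsub : Subsingleton (TensorProduct B (ResidueField B) Ω[B⁄A]) := by
    refine subsingleton_of_forall_eq 0 fun z => (Module.forall_dual_apply_eq_zero_iff (ResidueField B) z).1 fun χ => ?_
    let l : Ω[B⁄A] →ₗ[B] (ResidueField B) :=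
      (χ.restrictScalars B).comp ((TensorProduct.mk B (ResidueField B) Ω[B⁄A]) 1)
    have hl : l = 0 := (KaehlerDifferential.linearMapEquivDerivation A B).injective
      ((hD _).trans (map_zero _).symm)
    have hχ : χ = 0 := by
      refine TensorProduct.AlgebraTensorModule.ext fun a x => ?_
      have : a ⊗ₜ[B] x = a • ((1 : (ResidueField B)) ⊗ₜ[B] x) := by rw [TensorProduct.smul_tmul', smul_eq_mul, mul_one]
      rw [this, map_smul, show χ ((1 : (ResidueField B)) ⊗ₜ[B] x) = l x from rfl, hl]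
      simp
    rw [hχ]; rfl
  exact ⟨(IsLocalRing.subsingleton_tensorProduct).1 hsub⟩

section Lift

variable [IsProper f]

omit n in
/-- Roots of classes lift along the thickening. -/
theorem exists_cl_root {R : Type u} [CommRing R] [IsLocalRing R] [IsArtinianRing R]
    (tT : Spec (CommRingCat.of R) ⟶ S) (J : Ideal R) (hJ : J ≤ maximalIdeal R) (hJ2 : J * J = ⊥) {n : ℕ}
    (hn : IsUnit (n : R)) (c' : PicLoc.PicSet (PicF.XT f (SmLift.Tfull tT)))
    (c₀ : PicLoc.PicSet (PicF.XT f (SmLift.Tsub tT J)))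
    (hrel : c₀ ^ n = pb (PicF.XTmap f (SmLift.jT tT J)) c') :
    ∃ c : PicLoc.PicSet (PicF.XT f (SmLift.Tfull tT)),
      c ^ n = c' ∧ pb (PicF.XTmap f (SmLift.jT tT J)) c = c₀ := by
  obtain ⟨L, hL, rfl⟩ := PicGrp.exists_eq_cls c'
  obtain ⟨L', hL', rfl⟩ := PicGrp.exists_eq_cls c₀
  -- the thickening
  let g := pullback.snd f tT
  haveI : Flat g := inferInstance
  let ψ := Ideal.Quotient.mk J
  have hψ : Function.Surjective ψ := Ideal.Quotient.mk_surjective
  haveI : IsClosedImmersion (Spec.map (CommRingCat.ofHom ψ)) := IsClosedImmersion.spec_of_surjective _ hψ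
  haveI : Surjective (Spec.map (CommRingCat.ofHom ψ)) := by
    refine ⟨fun (x : PrimeSpectrum R) => ?_⟩
    have : RingHom.ker ψ ≤ x.asIdeal := (Ideal.mk_ker.trans_le hJ).trans
      (IsLocalRing.eq_maximalIdeal (IsArtinianRing.isMaximal_of_isPrime x.asIdeal)).ge
    exact ((range_comap_of_surjective _ _ hψ).ge this)
  let i := Units47.iSub g ψ
  haveI : Surjective i := MorphismProperty.of_isPullback (P := @Surjective)
    (IsPullback.of_hasPullback g (Spec.map (CommRingCat.ofHom ψ))).flip inferInstance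
  haveI : IsClosedImmersion i := inferInstanceAs (IsClosedImmersion (pullback.fst g _))
  have hi : ∀ U : (PicF.XT f (SmLift.Tfull tT)).affineOpens, i.ker.ideal U ^ 2 = ⊥ := fun U => by
    have hk : i.ker.ideal U = (RingHom.ker ψ).map (Units47.rU g U.1) := by
      ext b
      rw [Scheme.Hom.ker_apply, RingHom.mem_ker]
      exact Units47.app_iSub_eq_zero_iff g hψ U b
    rw [hk, ← Ideal.map_pow, Ideal.mk_ker, pow_two, hJ2, Ideal.map_bot]
  obtain ⟨k, rfl⟩ : ∃ k, n = k + 1 := Nat.exists_eq_succ_of_ne_zero fun h => hn.ne_zero (by rw [h, Nat.cast_zero])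
  have hnX : IsUnit ((k + 1 : ℕ) : Γ(PicF.XT f (SmLift.Tfull tT), ⊤)) := by
    have := hn.map (Units47.rU g ⊤)
    rwa [map_natCast] at this
  haveI hsep : (pullback f tT).IsSeparated := ⟨by
    rw [← terminal.comp_from g]
    infer_instance⟩
  haveI : (PicF.XT f (SmLift.Tfull tT)).IsSeparated := hsep
  let e : PicF.XT f (SmLift.Tsub tT J) ≅ pullback g (Spec.map (CommRingCat.ofHom ψ)) :=
    (pullbackLeftPullbackSndIso f tT (Spec.map (CommRingCat.ofHom ψ))).symm
  have hts : e.hom ≫ i = PicF.XTmap f (SmLift.jT tT J) := by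
    refine pullback.hom_ext ?_ ?_
    · simp only [e, i, PicF.XTmap, g, Units47.iSub, Iso.symm_hom, Category.assoc]
      erw [pullback.lift_fst]
      simp [ψ]
    · simp only [e, i, PicF.XTmap, g, Units47.iSub, Iso.symm_hom, Category.assoc]
      erw [pullback.lift_snd]
      simp [ψ]
  have hrel' : (pb e.inv (PicGrp.cls L' hL')) ^ (k + 1) = pb i (PicGrp.cls L hL) := by
    rw [← map_pow, hrel, ← hts, pb_comp, ← pb_comp e.inv e.hom, e.inv_hom_id, pb_id]
  rw [pb_cls, ← cls_tensorPow, pb_cls, PicGrp.cls_eq_cls_iff] at hrel'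
  obtain ⟨θ⟩ := hrel'
  obtain ⟨M, hM, ⟨eM⟩, ⟨eM'⟩⟩ := RootLift.exists_root_lift' i hi hnX hL (PicLoc.isInvertible_pullback e.inv hL') θ
  have hM1 : PicGrp.cls M hM ^ (k + 1) = PicGrp.cls L hL := by
    rw [← cls_tensorPow, PicGrp.cls_eq_cls_iff]
    exact ⟨eM⟩
  have hM0 : pb (PicF.XTmap f (SmLift.jT tT J)) (PicGrp.cls M hM) = PicGrp.cls L' hL' := by
    have h1 : pb i (PicGrp.cls M hM) = pb e.inv (PicGrp.cls L' hL') := by
      rw [pb_cls, pb_cls, PicGrp.cls_eq_cls_iff]
      exact ⟨eM'⟩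
    rw [← hts, pb_comp, h1, ← pb_comp, e.hom_inv_id, pb_id]
  exact ⟨PicGrp.cls M hM, hM1, hM0⟩

include hP hm in
theorem exists_point_lift_pow {p : P.left} {R : Type u} [CommRing R] [IsLocalRing R] [IsArtinianRing R]
    [IsSepClosed (ResidueField R)] (hA : P.left.presheaf.stalk (m.left p) →+* R) [IsLocalHom hA]
    (J : Ideal R) (hJ : J ≤ maximalIdeal R) (hJ2 : J * J = ⊥) (hn : IsUnit (n : R))
    (g₀ : P.left.presheaf.stalk p →+* R ⧸ J) [IsLocalHom g₀]
    (hg₀ : g₀.comp (m.left.stalkMap p).hom = (Ideal.Quotient.mk J).comp hA) :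
    ∃ g : P.left.presheaf.stalk p →+* R, g.comp (m.left.stalkMap p).hom = hA ∧
      (Ideal.Quotient.mk J).comp g = g₀ := by
  have hJne : J ≠ ⊤ := fun h => (maximalIdeal.isMaximal R).ne_top (top_le_iff.1 (h ▸ hJ))
  haveI : Nontrivial (R ⧸ J) := Ideal.Quotient.nontrivial_iff.2 hJne
  haveI : IsLocalRing (R ⧸ J) := IsLocalRing.of_surjective' _ Ideal.Quotient.mk_surjective
  haveI : IsLocalHom (Ideal.Quotient.mk J) := IsLocalHom.of_surjective _ Ideal.Quotient.mk_surjective
  have hnil : ∀ x ∈ maximalIdeal R, IsNilpotent x := fun x hx => by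
    obtain ⟨N, hN⟩ : IsNilpotent (maximalIdeal R) := by
      rw [← jacobson_eq_maximalIdeal ⊥ bot_ne_top]
      exact IsArtinianRing.isNilpotent_jacobson_bot
    have h1 := Ideal.pow_mem_pow hx N
    rw [hN] at h1
    exact ⟨N, Ideal.mem_bot.1 h1⟩
  let ρ : R ⧸ J →+* ResidueField R :=
    Ideal.Quotient.lift J (residue R) fun x hx => (residue_eq_zero_iff x).2 (hJ hx)
  obtain ⟨hH₀, hK₀⟩ := PicArtin.strict_of_nil ρ
    (Ideal.Quotient.lift_surjective_of_surjective _ _ residue_surjective) fun x hx => by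
      obtain ⟨x, rfl⟩ := Ideal.Quotient.mk_surjective x
      exact (hnil x ((residue_eq_zero_iff x).1 hx)).map _
  obtain ⟨hH, hK⟩ := PicArtin.strict_of_nil (residue R) residue_surjective
    fun x hx => hnil x ((residue_eq_zero_iff x).1 hx)
  let tT : Spec (CommRingCat.of R) ⟶ S :=
    (Spec.map (CommRingCat.ofHom hA) ≫ P.left.fromSpecStalk (m.left p)) ≫ P.hom
  let y : SmLift.Tfull tT ⟶ P := Over.homMk (Spec.map (CommRingCat.ofHom hA) ≫ P.left.fromSpecStalk (m.left p)) rfl
  have hj : Spec.map (CommRingCat.ofHom g₀) ≫ P.left.fromSpecStalk p ≫ m.left =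
      Spec.map (CommRingCat.ofHom (Ideal.Quotient.mk J)) ≫ y.left := by
    rw [← Category.assoc, specMap_fromSpecStalk_left, hg₀, CommRingCat.ofHom_comp, Spec.map_comp, Category.assoc]
    rfl
  let x₀ : SmLift.Tsub tT J ⟶ P := Over.homMk (Spec.map (CommRingCat.ofHom g₀) ≫ P.left.fromSpecStalk p) (by
    show (Spec.map (CommRingCat.ofHom g₀) ≫ P.left.fromSpecStalk p) ≫ P.hom = Spec.map _ ≫ y.left ≫ P.hom
    refine (congrArg ((Spec.map (CommRingCat.ofHom g₀) ≫ P.left.fromSpecStalk p) ≫ ·) (Over.w m)).symm.trans ?_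
    show (Spec.map (CommRingCat.ofHom g₀) ≫ P.left.fromSpecStalk p) ≫ m.left ≫ P.hom = _
    rw [← Category.assoc, ← Category.assoc, Category.assoc (Spec.map (CommRingCat.ofHom g₀)), hj])
  obtain ⟨c', hc'⟩ := @exists_psi _ _ f _ φ hP R _ hH hK _ y
  obtain ⟨c₀, hc₀⟩ := @exists_psi _ _ f _ φ hP (R ⧸ J) _ hH₀ hK₀ _ x₀
  have hrel : c₀ ^ n = pb (PicF.XTmap f (SmLift.jT tT J)) c' := by
    refine @psi_injective _ _ f _ φ hP (R ⧸ J) _ hH₀ hK₀ _ _ _ ?_
    rw [psi_pow f n m hm, PicGroup.ψ_pb hP, hc', hc₀]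
    exact Over.OverMorphism.ext ((Category.assoc _ _ _).trans hj)
  obtain ⟨c, hM1, hM0⟩ := exists_cl_root f tT J hJ hJ2 hn c' c₀ hrel
  let x := PicGroup.ψ φ c
  have hxm : x.left ≫ m.left = y.left := by
    have h1 : x ≫ m = y := by rw [← psi_pow f n m hm, hM1, hc']
    exact congrArg CommaMorphism.left h1
  have hjx : Spec.map (CommRingCat.ofHom (Ideal.Quotient.mk J)) ≫ x.left =
      Spec.map (CommRingCat.ofHom g₀) ≫ P.left.fromSpecStalk p := by
    have h1 := PicGroup.ψ_pb hP (SmLift.jT tT J) c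
    rw [hM0, hc₀] at h1
    exact (congrArg CommaMorphism.left h1).symm
  have hxp : x.left (closedPoint R) = p := by
    have h1 : (Spec.map (CommRingCat.ofHom (Ideal.Quotient.mk J)) ≫ x.left) (closedPoint (R ⧸ J)) =
        (Spec.map (CommRingCat.ofHom g₀) ≫ P.left.fromSpecStalk p) (closedPoint (R ⧸ J)) := by rw [hjx]
    rw [Scheme.Hom.comp_apply, Scheme.Hom.comp_apply, SmLift.specMap_apply_closedPoint,
      SmLift.specMap_apply_closedPoint, Scheme.fromSpecStalk_closedPoint] at h1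
    exact h1
  obtain ⟨γ, hγl, hγx⟩ := SmLift.exists_stalkHom x.left p hxp
  haveI := hγl
  refine ⟨γ.hom, ?_, ?_⟩
  · haveI : IsLocalHom ((γ.hom).comp (m.left.stalkMap p).hom) := inferInstance
    refine congrArg CommRingCat.Hom.hom (SmLift.eq_of_specMap
      (CommRingCat.ofHom (γ.hom.comp (m.left.stalkMap p).hom)) (CommRingCat.ofHom hA) ‹_› ‹IsLocalHom hA› ?_)
    refine (specMap_fromSpecStalk_left m γ.hom).symm.trans ?_
    show (Spec.map γ ≫ _) ≫ _ = y.left
    rw [hγx, hxm]
  · haveI : IsLocalHom ((Ideal.Quotient.mk J).comp γ.hom) := inferInstance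
    refine congrArg CommRingCat.Hom.hom (SmLift.eq_of_specMap (CommRingCat.ofHom ((Ideal.Quotient.mk J).comp γ.hom))
      (CommRingCat.ofHom g₀) ‹_› ‹IsLocalHom g₀› ?_)
    refine Eq.trans ?_ hjx
    rw [← hγx, ← Category.assoc, ← Spec.map_comp]
    rfl

include hP hm in
/-- Lifting along small extensions. -/
theorem exists_small_lift_pow {p : P.left} (hn : IsUnit (n : P.left.presheaf.stalk p))
    (A' : Type u) [CommRing A'] [IsLocalRing A'] [IsArtinianRing A']
    (h : P.left.presheaf.stalk (m.left p) →+* A') [IsLocalHom h]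
    (I : Ideal A') (hI : I ≠ ⊤) (hIm : I * maximalIdeal A' = ⊥)
    (g₀ : P.left.presheaf.stalk p →+* A' ⧸ I)
    (hg₀ : g₀.comp (m.left.stalkMap p).hom = (Ideal.Quotient.mk I).comp h)
    (hmax : ∀ b ∈ maximalIdeal (P.left.presheaf.stalk p), g₀ b ∈ (maximalIdeal A').map (Ideal.Quotient.mk I)) :
    ∃ g : P.left.presheaf.stalk p →+* A', g.comp (m.left.stalkMap p).hom = h ∧
      (Ideal.Quotient.mk I).comp g = g₀ := by
  obtain ⟨R, _, _, _, hart, hloc, hmR, hsep, r, hr⟩ := SmLift.exists_strict_extension A'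
  let J := I.map (algebraMap A' R)
  have hI2 : I * I = ⊥ := le_bot_iff.1 (hIm ▸ Ideal.mul_mono le_rfl (le_maximalIdeal hI))
  have hJ : J ≤ maximalIdeal R := hmR ▸ Ideal.map_mono (le_maximalIdeal hI)
  haveI : Nontrivial (R ⧸ J) := Ideal.Quotient.nontrivial_iff.2
    fun h => (maximalIdeal.isMaximal R).ne_top (top_le_iff.1 (h ▸ hJ))
  haveI : IsLocalHom (Ideal.Quotient.mk J) := IsLocalHom.of_surjective _ Ideal.Quotient.mk_surjective
  let q : A' ⧸ I →+* R ⧸ J := Ideal.quotientMap J (algebraMap A' R) Ideal.le_comap_map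
  haveI : IsLocalHom (q.comp g₀) := ⟨fun b hb => by
    by_contra hb'
    have h1 := hmax b ((mem_maximalIdeal b).2 hb')
    obtain ⟨a, ha, hab⟩ := (Ideal.mem_map_iff_of_surjective _ Ideal.Quotient.mk_surjective).1 h1
    change IsUnit (q (g₀ b)) at hb
    rw [← hab] at hb
    change IsUnit (Ideal.Quotient.mk J (algebraMap A' R a)) at hb
    exact (mem_maximalIdeal _).1 ha (IsUnit.of_map (algebraMap A' R) a (IsUnit.of_map (Ideal.Quotient.mk J) _ hb))⟩
  have hnA : IsUnit (n : A') := by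
    have h1 : IsUnit (n : P.left.presheaf.stalk (m.left p)) := by
      refine IsUnit.of_map (m.left.stalkMap p).hom _ ?_
      rwa [map_natCast]
    have := h1.map h
    rwa [map_natCast] at this
  have hnR : IsUnit (n : R) := by
    have := hnA.map (algebraMap A' R)
    rwa [map_natCast] at this
  obtain ⟨g', hg'1, hg'2⟩ := exists_point_lift_pow f hP n m hm ((algebraMap A' R).comp h) J hJ
    (by rw [← Ideal.map_mul, hI2, Ideal.map_bot]) hnR (q.comp g₀) (by
    rw [RingHom.comp_assoc, hg₀]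
    rfl)
  refine SmLift.exists_lift_of_extension r hr _ h I hI2 g₀ g' hg'1 fun b a hba => ?_
  rw [← Ideal.Quotient.eq]
  show ((Ideal.Quotient.mk J).comp g') b = _
  rw [hg'2, RingHom.comp_apply, ← hba]
  rfl

end Lift

end Groth.Agent.FGA29.EtPow
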