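import Groth.Agent.Crv77.BaseChange
import Groth.Agent.Crv77.HH
import Groth.Agent.Serre71.Finite
import Groth.Agent.Mum71.BcRank
import Groth.Agent.Mum71.LocalModel
import Groth.Agent.Desc62.UnitFlat
import Groth.Agent.E4O.DvrCrit
import Groth.Agent.S2339

/-! Vanishing of the cohomology of the structure sheaf on fibres. -/

set_option autoImplicit false
set_option maxSynthPendingDepth 6
set_option backward.isDefEq.respectTransparency.types false
set_option linter.style.haveILetI false

noncomputable section

universe u

open CategoryTheory CategoryTheory.Limits AlgebraicGeometry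

namespace Groth.Agent.FGA29.FibVanish

/-- Vanishing of cohomology and extensions of the ground field. -/
theorem subsingleton_hh_extend (k : Type u) [Field k] {X : Scheme.{u}} [X.Over (Spec (CommRingCat.of k))]
    [IsProper (X ↘ Spec (CommRingCat.of k))] (K : Type u) [Field K] [Algebra k K] {X' : Scheme.{u}}
    [X'.Over (Spec (CommRingCat.of K))] (g : X' ⟶ X)
    (hpb : IsPullback g (X' ↘ Spec (CommRingCat.of K)) (X ↘ Spec (CommRingCat.of k))
      (Spec.map (CommRingCat.ofHom (algebraMap k K)))) (n : ℕ)
    (h : Subsingleton (Coh.HH X (Coh.structureModule X) n)) :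
    Subsingleton (Coh.HH X' (Coh.structureModule X') n) := by
  haveI : IsProper (X' ↘ Spec (CommRingCat.of K)) := MorphismProperty.of_isPullback (P := @IsProper) hpb ‹_›
  haveI := Serre71.finite_hh_of_isProper K (Coh.structureModule X') Crv77.isCoh_structureModule n
  refine (Module.finrank_zero_iff (R := K) (M := Coh.HH X' (Coh.structureModule X') n)).1 ?_
  rw [Crv77.finrank_hh_structureModule_baseChange k K g hpb n]
  exact Module.finrank_zero_of_subsingleton

variable {X S : Scheme.{u}} (f : X ⟶ S)

/-- From a fibre to a geometric point over it. -/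
theorem subsingleton_hh_point [IsProper f] (t : S) (n : ℕ)
    (h : Subsingleton (Coh.HH (pullback f (S.fromSpecResidueField t)) (Coh.structureModule _) n))
    {K : Type u} [Field K] (χ : S.residueField t ⟶ CommRingCat.of K) (q : Spec (CommRingCat.of K) ⟶ S)
    (hq : q = Spec.map χ ≫ S.fromSpecResidueField t) :
    Subsingleton (Coh.HH (pullback f q) (Coh.structureModule _) n) := by
  letI : (pullback f (S.fromSpecResidueField t)).Over (Spec (CommRingCat.of (S.residueField t))) :=
    ⟨pullback.snd f (S.fromSpecResidueField t)⟩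
  haveI : IsProper (pullback f (S.fromSpecResidueField t) ↘ Spec (CommRingCat.of (S.residueField t))) :=
    inferInstanceAs (IsProper (pullback.snd f (S.fromSpecResidueField t)))
  letI : (pullback f q).Over (Spec (CommRingCat.of K)) := ⟨pullback.snd f q⟩
  letI : Algebra (S.residueField t) K := χ.hom.toAlgebra
  let g : pullback f q ⟶ pullback f (S.fromSpecResidueField t) :=
    pullback.lift (pullback.fst f q) (pullback.snd f q ≫ Spec.map χ)
      (by rw [pullback.condition, Category.assoc, hq])
  refine subsingleton_hh_extend (S.residueField t) K g ?_ n h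
  show IsPullback g (pullback.snd f q) (pullback.snd f (S.fromSpecResidueField t)) (Spec.map χ)
  refine IsPullback.of_right ?_ (pullback.lift_snd _ _ _) (IsPullback.of_hasPullback f (S.fromSpecResidueField t))
  rw [show g ≫ pullback.fst f (S.fromSpecResidueField t) = pullback.fst f q from pullback.lift_fst _ _ _, ← hq]
  exact IsPullback.of_hasPullback f q

theorem finite_fiberH_unit [IsProper f] (t : S) (n : ℕ) :
    Module.Finite (S.residueField t) (CohIII.fiberH f (Coh.structureModule X) t n) := by
  letI : (f.fiber t).Over (Spec (CommRingCat.of (S.residueField t))) := ⟨f.fiberToSpecResidueField t⟩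
  haveI : IsProper ((f.fiber t) ↘ Spec (CommRingCat.of (S.residueField t))) :=
    inferInstanceAs (IsProper (pullback.snd f (S.fromSpecResidueField t)))
  haveI := Serre71.finite_hh_of_isProper (S.residueField t) (Coh.structureModule (f.fiber t))
    Crv77.isCoh_structureModule n
  exact Module.Finite.equiv (Crv77.hEquiv (S.residueField t) (PicLoc.pullbackStructureIso (f.fiberι t)) n).symm

/-- Vanishing of the fibre in terms of the fibre rank. -/
theorem subsingleton_iff_fiberRank [IsProper f] (t : S) (n : ℕ) :
    Subsingleton (Coh.HH (pullback f (S.fromSpecResidueField t)) (Coh.structureModule _) n) ↔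
      CohIII.fiberRank f (Coh.structureModule X) n t = 0 := by
  letI : (f.fiber t).Over (Spec (CommRingCat.of (S.residueField t))) := ⟨f.fiberToSpecResidueField t⟩
  haveI := finite_fiberH_unit f t n
  let e := Crv77.hEquiv (S.residueField t) (PicLoc.pullbackStructureIso (f.fiberι t)) n
  unfold CohIII.fiberRank
  rw [Module.finrank_zero_iff]
  exact e.toEquiv.subsingleton_congr.symm

/-- Vanishing on the fibres is open. -/
theorem exists_nhd [IsLocallyNoetherian S] [IsProper f] [Flat f] (n : ℕ) (s : S)
    (h : Subsingleton (Coh.HH (pullback f (S.fromSpecResidueField s)) (Coh.structureModule _) n)) :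
    ∃ U : S.Opens, s ∈ U ∧ ∀ t ∈ U,
      Subsingleton (Coh.HH (pullback f (S.fromSpecResidueField t)) (Coh.structureModule _) n) := by
  haveI : LocallyOfFinitePresentation f := E4O.locallyOfFinitePresentation_of_isLocallyNoetherian f
  have hfp : CohB1.IsFP (Coh.structureModule X) := LimTop61.isFP_structureModule' X
  obtain ⟨σ, -⟩ := hfp.exists_quasicoherentData
  haveI : (Coh.structureModule X).IsQuasicoherent := σ.isQuasicoherent
  have hfl : FlatMod.IsFlatOver f (Coh.structureModule X) := fun x =>
    (Desc62.isFlatOverAt_structureModule_iff f x).2 (Flat.stalkMap f x)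
  obtain ⟨V, hV, hsV, -⟩ := exists_isAffineOpen_mem_and_subset (X := S) (x := s) (U := ⊤) trivial
  obtain ⟨M⟩ := Mum71.exists_cohModel f (Coh.structureModule X) hfp hfl hV
  obtain ⟨c, hc, hcl⟩ := Mum71.exists_le_rkAt M ((n : ℤ) - 1) n hsV
  obtain ⟨d, hd, hdl⟩ := Mum71.exists_le_rkAt M (n : ℤ) ((n : ℤ) + 1) hsV
  refine ⟨V ⊓ S.basicOpen c ⊓ S.basicOpen d, ⟨⟨hsV, hc⟩, hd⟩, fun t ht => ?_⟩
  rw [subsingleton_iff_fiberRank] at h ⊢
  have h1 := Mum71.fiberRank_add M n hsV
  have h2 := Mum71.fiberRank_add M n ht.1.1
  have h3 := hcl t ht.1.1 ht.1.2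
  have h4 := hdl t ht.1.1 ht.2
  omega

end Groth.Agent.FGA29.FibVanish
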