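import Groth.Agent.IntMult12.FinFibre

/-!
# The semilocal ring of the fibre of a finite morphism, with the germ maps

Variant of `IntMult12.exists_fibre_data_aux` recording the compatibility with germs.
-/

set_option autoImplicit false
set_option linter.style.haveILetI false

universe u

open CategoryTheory AlgebraicGeometry IsLocalRing TensorProduct

namespace Groth.Agent.FGA29

open Cyc90 IntMult12

variable {Z Y : Scheme.{u}}

set_option maxHeartbeats 1600000 in
theorem exists_fibre_germ (p : Z ⟶ Y) (y : Y) [IsNoetherianRing (Y.presheaf.stalk y)]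
    (V : Y.Opens) (hV : IsAffineOpen V) (hyV : y ∈ V) (hU : IsAffineOpen (p ⁻¹ᵁ V))
    (hfin : (p.app V).hom.Finite)
    (B : Type u) [CommRing B] [Algebra Γ(Z, p ⁻¹ᵁ V) B]
    [hB : IsLocalization (Submonoid.map (p.app V).hom (hV.primeIdealOf ⟨y, hyV⟩).asIdeal.primeCompl) B] :
    letI := TopCat.Presheaf.algebra_section_stalk Y.presheaf ⟨y, hyV⟩
    letI := (p.app V).hom.toAlgebra
    ∃ (_ : Fintype ↥(p ⁻¹' {y})) (_ : Algebra (Y.presheaf.stalk y) B)
      (φ : ∀ x : ↥(p ⁻¹' {y}), B →+* Z.presheaf.stalk x.1),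
      Module.Finite (Y.presheaf.stalk y) B ∧ (∀ x, (φ x).Flat) ∧
      (∀ x a, φ x (algebraMap (Y.presheaf.stalk y) B a) = p.stalkMap x.1
        ((Y.presheaf.stalkCongr (.of_eq (show p x.1 = y from x.2).symm)).hom a)) ∧
      (∀ x : ↥(p ⁻¹' {y}), p.residueDegree x.1 ≠ 0) ∧
      (∀ r, algebraMap (Y.presheaf.stalk y) B (algebraMap Γ(Y, V) (Y.presheaf.stalk y) r) =
        algebraMap Γ(Z, p ⁻¹ᵁ V) B (algebraMap Γ(Y, V) Γ(Z, p ⁻¹ᵁ V) r)) ∧
      (∀ (x : ↥(p ⁻¹' {y})) (hx : x.1 ∈ p ⁻¹ᵁ V) (s : Γ(Z, p ⁻¹ᵁ V)),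
        φ x (algebraMap Γ(Z, p ⁻¹ᵁ V) B s) = Z.presheaf.germ (p ⁻¹ᵁ V) x.1 hx s) ∧
      ∀ (H : Type u) [AddCommGroup H] [Module B H] [Module (Y.presheaf.stalk y) H]
        [IsScalarTower (Y.presheaf.stalk y) B H], IsFiniteLength B H →
        Module.length (Y.presheaf.stalk y) H = ∑ x, (p.residueDegree x.1 : ℕ∞) *
          (letI := (φ x).toAlgebra
           Module.length (Z.presheaf.stalk x.1) (Z.presheaf.stalk x.1 ⊗[B] H)) := by
  classical
  let U := p ⁻¹ᵁ V
  let R := Γ(Y, V)
  let S := Γ(Z, U)
  let A := Y.presheaf.stalk y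
  let iRS : Algebra R S := (p.app V).hom.toAlgebra
  have : Module.Finite R S := hfin
  let iRA : Algebra R A := TopCat.Presheaf.algebra_section_stalk Y.presheaf ⟨y, hyV⟩
  let P := (hV.primeIdealOf ⟨y, hyV⟩).asIdeal
  have : IsLocalization.AtPrime A P := hV.isLocalization_stalk ⟨y, hyV⟩
  let M := Algebra.algebraMapSubmonoid S P.primeCompl
  have : IsLocalization M B := hB
  let iRB : Algebra R B := ((algebraMap S B).comp (algebraMap R S)).toAlgebra
  have tRSB : IsScalarTower R S B := IsScalarTower.of_algebraMap_eq fun _ => rfl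
  let iAB : Algebra A B := (IsLocalization.map B (algebraMap R S)
    (show P.primeCompl ≤ M.comap (algebraMap R S) from fun r hr => ⟨r, hr, rfl⟩) : A →+* B).toAlgebra
  have tRAB : IsScalarTower R A B := IsScalarTower.of_algebraMap_eq fun r => by
    change algebraMap R B r = IsLocalization.map B _ _ (algebraMap R A r)
    rw [IsLocalization.map_eq, ← IsScalarTower.algebraMap_apply]
  have : Module.Finite A B := Module.Finite.of_isLocalization R S P.primeCompl
  -- the points over `y`
  have hxU : ∀ x : ↥(p ⁻¹' {y}), x.1 ∈ U := fun x => by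
    show p x.1 ∈ V
    rw [show p x.1 = y from x.2]; exact hyV
  let germS : ∀ x : ↥(p ⁻¹' {y}), S →+* Z.presheaf.stalk x.1 := fun x =>
    (Z.presheaf.germ U x.1 (hxU x)).hom
  have hux : ∀ (x : ↥(p ⁻¹' {y})) (s : M), IsUnit (germS x s) := by
    rintro x ⟨_, r, hr, rfl⟩
    have hr' : r ∉ (hV.primeIdealOf ⟨p x.1, hxU x⟩).asIdeal := by
      have : (⟨p x.1, hxU x⟩ : V) = ⟨y, hyV⟩ := Subtype.ext x.2
      rw [this]; exact hr
    replace hr' := not_not.1 ((not_congr (mem_primeIdealOf hV (y := p x.1) (hxU x) r)).1 hr')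
    exact (isUnit_germ_app_iff p (hxU x) r).2 hr'
  let φ : ∀ x : ↥(p ⁻¹' {y}), B →+* Z.presheaf.stalk x.1 := fun x => IsLocalization.lift (hux x)
  have hφ : ∀ x s, φ x (algebraMap S B s) = germS x s := fun x s => IsLocalization.lift_eq (hux x) s
  have hxy : ∀ x : ↥(p ⁻¹' {y}), y = p x.1 := fun x => (show p x.1 = y from x.2).symm
  let eA : ∀ x : ↥(p ⁻¹' {y}), A →+* Y.presheaf.stalk (p x.1) := fun x =>
    (Y.presheaf.stalkCongr (.of_eq (hxy x))).hom.hom
  have hφA : ∀ x, (φ x).comp (algebraMap A B) = (p.stalkMap x.1).hom.comp (eA x) := fun x => by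
    refine IsLocalization.ringHom_ext P.primeCompl (RingHom.ext fun r => ?_)
    change φ x (algebraMap A B (algebraMap R A r)) = p.stalkMap x.1 (eA x (algebraMap R A r))
    have he : eA x (algebraMap R A r) = Y.presheaf.germ V (p x.1) (hxU x) r :=
      TopCat.Presheaf.germ_stalkSpecializes_apply Y.presheaf hyV (specializes_of_eq (show p x.1 = y from x.2)) r
    rw [← IsScalarTower.algebraMap_apply R A B, IsScalarTower.algebraMap_apply R S B, hφ, he]
    exact (Scheme.Hom.germ_stalkMap_apply p V x.1 (hxU x) r).symm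
  have heA : ∀ x : ↥(p ⁻¹' {y}), IsLocalHom (eA x) := fun x =>
    inferInstanceAs (IsLocalHom (Y.presheaf.stalkCongr (.of_eq (hxy x))).hom.hom)
  have hcomap : ∀ x, ((maximalIdeal (Z.presheaf.stalk x.1)).comap (φ x)).IsMaximal := fun x => by
    have := heA x
    refine Ideal.isMaximal_of_isIntegral_of_isMaximal_comap (R := A) _ ?_
    rw [Ideal.comap_comap, hφA x, ← Ideal.comap_comap, maximalIdeal_comap, maximalIdeal_comap]
    exact maximalIdeal.isMaximal A
  let Φ : ↥(p ⁻¹' {y}) → MaximalSpectrum B := fun x => ⟨_, hcomap x⟩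
  have hΦS : ∀ x, (Φ x).asIdeal.comap (algebraMap S B) = (hU.primeIdealOf ⟨x.1, hxU x⟩).asIdeal := by
    intro x
    ext s
    rw [mem_primeIdealOf, Ideal.mem_comap]
    change φ x (algebraMap S B s) ∈ maximalIdeal _ ↔ _
    rw [hφ]
    exact mem_maximalIdeal _
  have hΦ : Function.Bijective Φ := by
    refine ⟨fun a b e => Subtype.ext ?_, fun m => ?_⟩
    · have h1 : hU.primeIdealOf ⟨a.1, hxU a⟩ = hU.primeIdealOf ⟨b.1, hxU b⟩ :=
        PrimeSpectrum.ext (by rw [← hΦS, ← hΦS, e])
      have h2 := congrArg hU.fromSpec h1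
      rwa [hU.fromSpec_primeIdealOf, hU.fromSpec_primeIdealOf] at h2
    · have := m.isMaximal
      let Q : PrimeSpectrum S := ⟨m.asIdeal.comap (algebraMap S B), inferInstance⟩
      let x : Z := hU.fromSpec Q
      have hxU' : x ∈ U := hU.range_fromSpec.le ⟨Q, rfl⟩
      have hQ : hU.primeIdealOf ⟨x, hxU'⟩ = Q := hU.fromSpec.isOpenEmbedding.injective
        (hU.fromSpec_primeIdealOf ⟨x, hxU'⟩)
      have hQR : Q.asIdeal.comap (algebraMap R S) = P := by
        rw [show Q.asIdeal = m.asIdeal.comap (algebraMap S B) from rfl, Ideal.comap_comap,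
          ← IsScalarTower.algebraMap_eq R S B, IsScalarTower.algebraMap_eq R A B, ← Ideal.comap_comap,
          IsLocalRing.eq_maximalIdeal
            (Ideal.isMaximal_comap_of_isIntegral_of_isMaximal (R := A) m.asIdeal)]
        exact IsLocalization.AtPrime.comap_maximalIdeal A P
      have hpx : p x = y := by
        have h1 : hV.primeIdealOf ⟨p x, hxU'⟩ = hV.primeIdealOf ⟨y, hyV⟩ :=
          PrimeSpectrum.ext (by rw [primeIdealOf_apply p hV hU hxU', hQ]; exact hQR)
        have h2 := congrArg hV.fromSpec h1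
        rwa [hV.fromSpec_primeIdealOf, hV.fromSpec_primeIdealOf] at h2
      refine ⟨⟨x, hpx⟩, MaximalSpectrum.ext ?_⟩
      have hΦQ : (Φ ⟨x, hpx⟩).asIdeal.comap (algebraMap S B) = m.asIdeal.comap (algebraMap S B) :=
        (hΦS ⟨x, hpx⟩).trans (congrArg PrimeSpectrum.asIdeal hQ)
      exact (IsLocalization.map_comap M B _).symm.trans
        ((congrArg (Ideal.map (algebraMap S B)) hΦQ).trans (IsLocalization.map_comap M B _))
  let Φe := Equiv.ofBijective Φ hΦ
  have : Finite (MaximalSpectrum B) := finite_maximalSpectrum A B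
  have : Finite ↥(p ⁻¹' {y}) := Finite.of_equiv _ Φe.symm
  let _ : Fintype (MaximalSpectrum B) := Fintype.ofFinite _
  let _ : Fintype ↥(p ⁻¹' {y}) := Fintype.ofFinite _
  -- the local rings
  let C : MaximalSpectrum B → Type u := fun m => Z.presheaf.stalk (Φe.symm m).1
  let iBC : ∀ m, Algebra B (C m) := fun m => (φ (Φe.symm m)).toAlgebra
  have hloc : ∀ m, IsLocalization.AtPrime (C m) m.asIdeal := fun m => by
    let x := Φe.symm m
    have hm : Φ x = m := Φe.apply_symm_apply m
    let iSx : Algebra S (C m) := TopCat.Presheaf.algebra_section_stalk Z.presheaf ⟨x.1, hxU x⟩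
    have : IsLocalization.AtPrime (C m) (hU.primeIdealOf ⟨x.1, hxU x⟩).asIdeal :=
      hU.isLocalization_stalk ⟨x.1, hxU x⟩
    have : IsScalarTower S B (C m) := IsScalarTower.of_algebraMap_eq fun s => (hφ x s).symm
    have hle : M ≤ (hU.primeIdealOf ⟨x.1, hxU x⟩).asIdeal.primeCompl := fun s hs hmem =>
      (mem_primeIdealOf hU (hxU x) s).1 hmem (hux x ⟨s, hs⟩)
    have : IsLocalization ((hU.primeIdealOf ⟨x.1, hxU x⟩).asIdeal.primeCompl.map (algebraMap S B)) (C m) :=
      IsLocalization.isLocalization_of_submonoid_le B (C m) M _ hle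
    refine IsLocalization.of_le ((hU.primeIdealOf ⟨x.1, hxU x⟩).asIdeal.primeCompl.map
      (algebraMap S B)) m.asIdeal.primeCompl ?_ fun b hb => ?_
    · rintro _ ⟨s, hs, rfl⟩ hsm
      refine hs ?_
      rw [← hΦS x]
      exact Ideal.mem_comap.2 (hm.symm ▸ hsm)
    · by_contra hu
      rw [← hm] at hb
      exact hb ((mem_maximalIdeal _).2 hu)
  have hdeg : ∀ x : ↥(p ⁻¹' {y}), p.residueDegree x.1 = degAt A (Φ x) ∧ degAt A (Φ x) ≠ 0 := fun x => by
    let q : MaximalSpectrum A := ⟨maximalIdeal A, maximalIdeal.isMaximal A⟩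
    let m := Φ x
    have hq : q.asIdeal = m.asIdeal.comap (algebraMap A B) := by
      have := m.isMaximal
      exact (IsLocalRing.eq_maximalIdeal
        (Ideal.isMaximal_comap_of_isIntegral_of_isMaximal (R := A) m.asIdeal)).symm
    let A' := Localization.AtPrime q.asIdeal
    let B' := Localization.AtPrime m.asIdeal
    have : IsLocalization q.asIdeal.primeCompl A := IsLocalization.self fun a ha => by
      by_contra hu; exact ha hu
    let e1 : A ≃+* A' := (IsLocalization.algEquiv q.asIdeal.primeCompl A A').toRingEquiv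
    let iBx : Algebra B (Z.presheaf.stalk x.1) := (φ x).toAlgebra
    have hlx : IsLocalization.AtPrime (Z.presheaf.stalk x.1) m.asIdeal := by
      have h0 : ∀ m', ∀ z, Φe.symm m' = z →
          @IsLocalization.AtPrime B _ (Z.presheaf.stalk z.1) _ (φ z).toAlgebra m'.asIdeal
            m'.isMaximal.isPrime := by
        rintro m' _ rfl; exact hloc m'
      exact h0 m x (Φe.symm_apply_apply x)
    let e2 : B' ≃+* Z.presheaf.stalk x.1 :=
      (IsLocalization.algEquiv m.asIdeal.primeCompl B' (Z.presheaf.stalk x.1)).toRingEquiv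
    let e3 : A ≃+* Y.presheaf.stalk (p x.1) :=
      (Y.presheaf.stalkCongr (.of_eq (hxy x))).commRingCatIsoToRingEquiv
    let iA'B' : Algebra A' B' := (TameAlg50.locMap q m hq).toAlgebra
    have : IsLocalHom (algebraMap A' B') :=
      Localization.isLocalHom_localRingHom q.asIdeal m.asIdeal (algebraMap A B) hq
    let iκ : Algebra (Y.residueField (p x.1)) (Z.residueField x.1) :=
      (p.residueFieldMap x.1).hom.toAlgebra
    have hd : degAt A m = Module.finrank (ResidueField A') (ResidueField B') := rfl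
    have hr : p.residueDegree x.1 = Module.finrank (Y.residueField (p x.1)) (Z.residueField x.1) := rfl
    have hEq : Module.finrank (ResidueField A') (ResidueField B') =
        Module.finrank (Y.residueField (p x.1)) (Z.residueField x.1) := by
      refine Algebra.finrank_eq_of_equiv_equiv
        ((ResidueField.mapEquiv e1).symm.trans (ResidueField.mapEquiv e3)) (ResidueField.mapEquiv e2)
        (RingHom.ext fun z => ?_)
      obtain ⟨a', rfl⟩ := residue_surjective z
      obtain ⟨a, rfl⟩ := e1.surjective a'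
      have h1 : e1 a = algebraMap A A' a := AlgEquiv.commutes _ a
      have h2 : e2 (algebraMap A' B' (e1 a)) = p.stalkMap x.1 (e3 a) := by
        rw [h1]
        change e2 (TameAlg50.locMap q m hq (algebraMap A A' a)) = _
        rw [TameAlg50.locMap, Localization.localRingHom_to_map]
        refine (AlgEquiv.commutes (IsLocalization.algEquiv m.asIdeal.primeCompl B'
          (Z.presheaf.stalk x.1)) (algebraMap A B a)).trans ?_
        exact RingHom.congr_fun (hφA x) a
      change p.residueFieldMap x.1 (Y.residue (p x.1) (e3 (e1.symm (e1 a)))) =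
        Z.residue x.1 (e2 (algebraMap A' B' (e1 a)))
      rw [e1.symm_apply_apply, h2]
      exact congrArg (fun ψ => ψ (e3 a)) (AlgebraicGeometry.Scheme.residue_residueFieldMap p x.1)
    refine ⟨hr.trans (hEq.symm.trans hd.symm), ?_⟩
    change degAt A m ≠ 0
    rw [hd]
    have : Module.Finite A (ResidueField B') := by
      let f : B →+* ResidueField B' := (IsLocalRing.residue B').comp (algebraMap B B')
      have := m.isMaximal
      have : IsScalarTower A B (ResidueField B') := inferInstance
      refine Module.Finite.of_surjective (IsScalarTower.toAlgHom A B (ResidueField B')).toLinearMap ?_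
      intro z
      obtain ⟨z, rfl⟩ := residue_surjective z
      obtain ⟨b, s, rfl⟩ := IsLocalization.exists_mk'_eq m.asIdeal.primeCompl z
      let iF : Field (B ⧸ m.asIdeal) := Ideal.Quotient.field _
      obtain ⟨t, ht⟩ := Ideal.Quotient.mk_surjective (Ideal.Quotient.mk m.asIdeal (s : B))⁻¹
      refine ⟨b * t, ?_⟩
      have hs0 : Ideal.Quotient.mk m.asIdeal (s : B) ≠ 0 := fun e => s.2 (Ideal.Quotient.eq_zero_iff_mem.1 e)
      have hts : t * (s : B) - 1 ∈ m.asIdeal := by
        rw [← Ideal.Quotient.eq_zero_iff_mem, map_sub, map_mul, ht, inv_mul_cancel₀ hs0, map_one, sub_self]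
      change IsLocalRing.residue B' (algebraMap B B' (b * t)) = _
      rw [← sub_eq_zero, ← map_sub, residue_eq_zero_iff]
      refine ((maximalIdeal.isMaximal B').isPrime.mem_or_mem (y := algebraMap B B' (s : B)) ?_).resolve_right
        (fun hh => s.2 ((IsLocalization.AtPrime.to_map_mem_maximal_iff B' m.asIdeal _).1 hh))
      rw [sub_mul, IsLocalization.mk'_spec, ← map_mul, ← map_sub,
        IsLocalization.AtPrime.to_map_mem_maximal_iff B' m.asIdeal]
      rw [show b * t * (s : B) - b = b * (t * s - 1) by ring]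
      exact Ideal.mul_mem_left _ _ hts
    have : IsScalarTower A A' (ResidueField B') := IsScalarTower.of_algebraMap_eq fun a => by
      rw [IsScalarTower.algebraMap_apply A B (ResidueField B'), IsScalarTower.algebraMap_apply A' B' (ResidueField B'),
        show algebraMap A' B' (algebraMap A A' a) = algebraMap B B' (algebraMap A B a) from
          Localization.localRingHom_to_map q.asIdeal m.asIdeal (algebraMap A B) hq a]
      rfl
    have : Module.Finite A' (ResidueField B') := Module.Finite.of_restrictScalars_finite A A' _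
    have : Module.Finite (ResidueField A') (ResidueField B') :=
      Module.Finite.of_restrictScalars_finite A' _ _
    exact Module.finrank_pos.ne'
  have : Algebra.IsPushout R A S B := (Algebra.isPushout_of_isLocalization P.primeCompl A S B).symm
  have hflat : ∀ x : ↥(p ⁻¹' {y}), (φ x).Flat := fun x => by
    obtain ⟨m, rfl⟩ := Φe.symm.surjective x
    letI := iBC m
    haveI := hloc m
    exact IsLocalization.flat (C m) m.asIdeal.primeCompl
  refine ⟨Fintype.ofFinite _, iAB, φ, inferInstance, hflat, fun x a => RingHom.congr_fun (hφA x) a,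
    fun x => (hdeg x).1 ▸ (hdeg x).2, fun r => (IsScalarTower.algebraMap_apply R A B r).symm.trans
      (IsScalarTower.algebraMap_apply R S B r), fun x _ s => hφ x s, fun H _ _ _ _ hH => ?_⟩
  have hBn : IsNoetherianRing B := IsNoetherianRing.of_finite A B
  haveI := (isFiniteLength_iff_isNoetherian_isArtinian.1 hH).1
  let q : MaximalSpectrum A := ⟨maximalIdeal A, maximalIdeal.isMaximal A⟩
  have hq : ∀ P : MaximalSpectrum B, q.asIdeal = P.asIdeal.comap (algebraMap A B) := fun P => by
    have := P.isMaximal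
    exact (IsLocalRing.eq_maximalIdeal
      (Ideal.isMaximal_comap_of_isIntegral_of_isMaximal (R := A) P.asIdeal)).symm
  have h1 := TameAlg50.locLen_fibre (B := A) (C := B) q Finset.univ (fun P => by simpa using hq P) H
    ((S16234.result B H).2 hH)
  rw [Cyc90.locLen_maximalIdeal_of_local] at h1
  rw [h1, Finset.sum_attach (Finset.univ : Finset (MaximalSpectrum B)) (fun P =>
    (TameAlg50.deg q P (hq P) : ℕ∞) * Len90.locLen P.asIdeal H)]
  refine (Fintype.sum_equiv Φe.symm _ _ fun m => ?_)
  let x := Φe.symm m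
  have hm : Φ x = m := Φe.apply_symm_apply m
  rw [(hdeg x).1, hm]
  congr 1
  let σ := IsLocalization.algEquiv m.asIdeal.primeCompl (Localization.AtPrime m.asIdeal) (C m)
  let e1 := (IsLocalizedModule.isBaseChange m.asIdeal.primeCompl (Localization.AtPrime m.asIdeal)
    (LocalizedModule.mkLinearMap m.asIdeal.primeCompl H)).equiv
  let t : Localization.AtPrime m.asIdeal ⊗[B] H ≃ₗ[B] C m ⊗[B] H :=
    TensorProduct.congr σ.toLinearEquiv (LinearEquiv.refl B H)
  rw [Len90.locLen, ← e1.length_eq]
  refine Cyc90.length_eq_of_semilinear σ.toRingEquiv.toRingHom σ.surjective t.toAddEquiv fun a z => ?_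
  show t (a • z) = σ a • t z
  induction z using TensorProduct.induction_on with
  | zero => simp
  | tmul c h =>
    rw [TensorProduct.smul_tmul', TensorProduct.congr_tmul, TensorProduct.congr_tmul, TensorProduct.smul_tmul',
      smul_eq_mul]
    exact congrArg (· ⊗ₜ[B] h) (map_mul σ a c)
  | add c d hc hd => rw [smul_add, map_add, map_add, hc, hd, smul_add]

end Groth.Agent.FGA29
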