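import Groth.Agent.FGA29.TauSet
import Groth.Agent.CAlg6.NeutralOpen
import Groth.Agent.CAlg6.NeutralDim
import Groth.Agent.Cons62.Basic
import Groth.Agent.SpPts86.LocConstr
import Groth.Agent.E4O.GenOpen
import Groth.Agent.SGA3a.MaxPts

/-!
The neutral components form an open subgroup over a nonempty open of the base.
-/

set_option autoImplicit false
set_option backward.isDefEq.respectTransparency.types false
set_option linter.style.haveILetI false
universe u

open CategoryTheory CategoryTheory.Limits MonoidalCategory CartesianMonoidalCategory MonObj GrpObj AlgebraicGeometry Opposite Topology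

noncomputable section

namespace Groth.Agent.FGA29.GenNeutral

open SGA3a CAlg6

variable {S : Scheme.{u}} (G : Over S) [GrpObj G]

theorem exists_isOpen_over [IsLocallyNoetherian S] [Nonempty S] [LocallyOfFiniteType G.hom] :
    ∃ U : S.Opens, (U : Set S).Nonempty ∧ IsOpen (SGA3x.neutralSet G ∩ G.hom ⁻¹' (U : Set S)) := by
  haveI : LocallyOfFinitePresentation G.hom := E4O.locallyOfFinitePresentation_of_isLocallyNoetherian G.hom
  haveI : IsLocallyNoetherian G.left := LocallyOfFiniteType.isLocallyNoetherian G.hom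
  haveI : QuasiSeparated G.hom := inferInstance
  obtain ⟨s₀, -, hmax⟩ := SGA3a.exists_maximal_generalization (Classical.arbitrary S)
  obtain ⟨W, hW, V, hsV, hsub⟩ := Tau.exists_qc_nhd G s₀
  haveI : CompactSpace W.toScheme := isCompact_iff_compactSpace.1 hW
  haveI : IsNoetherian W.toScheme := { }
  let E : Set W.toScheme := (W.ι ⁻¹' SGA3x.neutralSet G) ∩ (W.ι ⁻¹' interior (SGA3x.neutralSet G))ᶜ
  have hE : IsLocallyConstructible E := by
    refine (SpPts86.isLocallyConstructible_preimage _ (NeutralCons.isLocallyConstructible G)).inter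
      (Cons62.isLocallyConstructible_compl ?_)
    exact IsRetrocompact.isLocallyConstructible (isOpen_interior.preimage W.ι.continuous)
      fun U _ _ => TopologicalSpace.NoetherianSpace.isCompact _
  haveI : QuasiCompact (W.ι ≫ G.hom) := quasiCompact_of_compactSpace _
  have himg : IsLocallyConstructible ((W.ι ≫ G.hom) '' E)ᶜ :=
    Cons62.isLocallyConstructible_compl ((W.ι ≫ G.hom).isLocallyConstructible_image hE)
  have hgen : ∀ z, z ⤳ s₀ → z ∈ ((W.ι ≫ G.hom) '' E)ᶜ := by
    intro z hz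
    obtain rfl := hmax z hz
    rintro ⟨w, ⟨hwN, hwint⟩, hws⟩
    refine hwint ((S3403.result G.left _ (NeutralCons.isIndConstructible G) (W.ι w)).2 fun y hy => ?_)
    have h1 : G.hom (W.ι w) = z := hws
    have h2 : G.hom y = G.hom (W.ι w) := (hmax _ (h1 ▸ hy.map G.hom.continuous)).trans h1.symm
    exact Set.mem_iUnion.2 ⟨G.hom (W.ι w), E4O.mem_connectedComponentIn_of_specializes G.hom
      ((NeutralDim.mem_neutralSet_iff G).1 hwN) hy h2⟩
  refine ⟨V ⊓ ⟨interior ((W.ι ≫ G.hom) '' E)ᶜ, isOpen_interior⟩,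
    ⟨s₀, hsV, mem_interior_iff_mem_nhds.2 (E4O.mem_nhds_of_forall_generization himg hgen)⟩, ?_⟩
  rw [← subset_interior_iff_isOpen, interior_inter, IsOpen.interior_eq (IsOpen.preimage G.hom.continuous (TopologicalSpace.Opens.isOpen _))]
  rintro x ⟨hxN, hxU⟩
  refine ⟨?_, hxU⟩
  by_contra hx
  have hxW : x ∈ W := hsub ⟨hxN, hxU.1⟩
  exact interior_subset hxU.2 ⟨⟨x, hxW⟩, ⟨hxN, hx⟩, rfl⟩

/-- An open neutral set is an open subgroup with connected fibres, of finite type. -/
theorem exists_subgroup_of_isOpen [LocallyOfFiniteType G.hom] (hopen : IsOpen (SGA3x.neutralSet G)) :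
    ∃ (G0 : Over S) (_ : GrpObj G0) (i : G0 ⟶ G), IsMonHom i ∧ IsOpenImmersion i.left ∧
      Set.range i.left.base = SGA3x.neutralSet G ∧ QuasiCompact G0.hom ∧ LocallyOfFiniteType G0.hom ∧
      ∀ s : S, _root_.IsConnected (G0.hom.base ⁻¹' {s}) := by
  let U : G.left.Opens := ⟨SGA3x.neutralSet G, hopen⟩
  let i : Over.mk (U.ι ≫ G.hom) ⟶ G := Over.homMk U.ι rfl
  haveI : Mono i := by
    have : Mono ((Over.forget S).map i) := inferInstanceAs (Mono U.ι)
    exact (Over.forget S).mono_of_mono_map this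
  have hfac : ∀ {T : Over S} (g : T ⟶ G), Set.range g.left.base ⊆ SGA3x.neutralSet G → ∃ z, z ≫ i = g :=
    fun {T} g hg => ⟨Over.homMk (IsOpenImmersion.lift U.ι g.left (by rw [Scheme.Opens.range_ι]; exact hg))
      (by
        show _ ≫ U.ι ≫ G.hom = _
        rw [IsOpenImmersion.lift_fac_assoc, Over.w g]),
      Over.OverMorphism.ext (IsOpenImmersion.lift_fac _ _ _)⟩
  have h1 : ∃ z, z ≫ i = (1 : 𝟙_ (Over S) ⟶ G) := hfac _ (by
    rintro _ ⟨s, rfl⟩
    rw [← MonObj.one_eq_one]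
    exact NeutralOpen.unit_mem_neutralSet G s)
  have hinv : ∃ z, z ≫ i = i⁻¹ := hfac _ (by
    rintro _ ⟨y, rfl⟩
    rw [show i⁻¹ = i ≫ (ι[G] : G ⟶ G) by
      rw [show (ι[G] : G ⟶ G) = (𝟙 G)⁻¹ from rfl, GrpObj.comp_inv, Category.comp_id]]
    exact NeutralOpen.inv_mem_neutralSet G y.2)
  have hmul : ∃ z, z ≫ i = (fst _ _ ≫ i) * (snd _ _ ≫ i) := hfac _ (by
    rintro _ ⟨y, rfl⟩
    rw [Hom.mul_def, Over.comp_left, Scheme.Hom.comp_apply]
    refine NeutralCons.mul_mem_neutralSet G _ ?_ ?_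
    · rw [← Scheme.Hom.comp_apply, ← Over.comp_left, lift_fst, Over.comp_left, Scheme.Hom.comp_apply]
      exact ((fst (Over.mk (U.ι ≫ G.hom)) (Over.mk (U.ι ≫ G.hom))).left y).2
    · rw [← Scheme.Hom.comp_apply, ← Over.comp_left, lift_snd, Over.comp_left, Scheme.Hom.comp_apply]
      exact ((snd (Over.mk (U.ι ≫ G.hom)) (Over.mk (U.ι ≫ G.hom))).left y).2)
  letI : GrpObj (Over.mk (U.ι ≫ G.hom)) := grpObjOfMono i h1 hmul hinv
  have hconn : ∀ s : S, _root_.IsConnected ((U.ι ≫ G.hom).base ⁻¹' {s}) := fun s => by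
    have him : U.ι '' ((U.ι ≫ G.hom) ⁻¹' {s}) = connectedComponentIn (G.hom ⁻¹' {s}) (η[G].left s) := by
      refine Set.Subset.antisymm ?_ fun x hx => ?_
      · rintro _ ⟨y, hy, rfl⟩
        obtain ⟨t, ht⟩ := Set.mem_iUnion.1 (show U.ι y ∈ SGA3x.neutralSet G from y.2)
        obtain rfl : t = s := (connectedComponentIn_subset _ _ ht).symm.trans hy
        exact ht
      · exact ⟨⟨x, Set.mem_iUnion.2 ⟨s, hx⟩⟩, connectedComponentIn_subset (G.hom ⁻¹' {s}) _ hx, rfl⟩
    have hc := isConnected_connectedComponentIn_iff.2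
      (show η[G].left s ∈ G.hom ⁻¹' {s} from NeutralOpen.hom_unit G s)
    rw [← him] at hc
    exact ⟨hc.nonempty.of_image, U.ι.isOpenEmbedding.isInducing.isPreconnected_image.1 hc.isPreconnected⟩
  refine ⟨_, inferInstance, i, isMonHom_grpObjOfMono i h1 hmul hinv, inferInstanceAs (IsOpenImmersion U.ι),
    Scheme.Opens.range_ι U, ?_, inferInstanceAs (LocallyOfFiniteType (U.ι ≫ G.hom)), hconn⟩
  haveI : LocallyOfFiniteType (Over.mk (U.ι ≫ G.hom)).hom := inferInstanceAs (LocallyOfFiniteType (U.ι ≫ G.hom))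
  exact quasiCompact_of_connected_fibres (Over.mk (U.ι ≫ G.hom))
    (fun s => MorphismProperty.pullback_snd (P := @LocallyOfFiniteType) _ _ inferInstance) hconn

theorem exists_openSubgroup_over_open [IsLocallyNoetherian S] [Nonempty S] [LocallyOfFiniteType G.hom] :
    ∃ U : S.Opens, (U : Set S).Nonempty ∧
      ∃ (H : Over (U : Scheme.{u})) (_ : GrpObj H) (i : H ⟶ Red.bc U.ι G), IsMonHom i ∧ IsOpenImmersion i.left ∧
        QuasiCompact H.hom ∧ LocallyOfFiniteType H.hom ∧
        (∀ u : ↥(U : Scheme.{u}), _root_.IsConnected (H.hom.base ⁻¹' {u})) ∧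
        Set.range (i.left ≫ pullback.fst G.hom U.ι).base = SGA3x.neutralSet G ∩ G.hom.base ⁻¹' (U : Set S) := by
  obtain ⟨U, hne, hU⟩ := exists_isOpen_over G
  haveI : LocallyOfFiniteType (Red.bc U.ι G).hom :=
    MorphismProperty.pullback_snd (P := @LocallyOfFiniteType) _ _ ‹_›
  have hr : Set.range (pullback.fst G.hom U.ι) = G.hom ⁻¹' (U : Set S) := by
    rw [Scheme.Pullback.range_fst, Scheme.Opens.range_ι]
  have hN : SGA3x.neutralSet (Red.bc U.ι G) =
      pullback.fst G.hom U.ι ⁻¹' (SGA3x.neutralSet G ∩ G.hom ⁻¹' (U : Set S)) := by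
    rw [SGA3a.neutralSet_bc, Set.preimage_inter, ← hr, Set.preimage_range, Set.inter_univ]
  obtain ⟨H, hH, i, h1, h2, h3, h4, h5, h6⟩ := exists_subgroup_of_isOpen (Red.bc U.ι G)
    (hN ▸ hU.preimage (pullback.fst G.hom U.ι).continuous)
  refine ⟨U, hne, H, hH, i, h1, h2, h4, h5, h6, ?_⟩
  rw [Scheme.Hom.comp_base, TopCat.coe_comp, Set.range_comp]
  refine (congrArg _ (h3.trans hN)).trans ?_
  exact Set.image_preimage_eq_of_subset (Set.inter_subset_right.trans hr.ge)

end Groth.Agent.FGA29.GenNeutral
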