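import Groth.Agent.FGA29.IntNumPush
import Groth.Agent.FGA29.SheafFunPush
import Groth.Agent.RB70.Coherent
import Groth.Agent.Coh69.Grothendieck

/-! Intersection symbols of pullbacks against a module and of the direct image. -/

set_option autoImplicit false
set_option backward.isDefEq.respectTransparency.types false
set_option linter.style.haveILetI false
universe u

open CategoryTheory CategoryTheory.Limits AlgebraicGeometry TopologicalSpace

noncomputable section

namespace Groth.Agent.FGA29

/-- Direct images of coherent modules along proper morphisms are coherent. -/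
theorem isCoh_push_of_isProper {X Y : Scheme.{u}} (f : X ⟶ Y) [IsProper f] [IsLocallyNoetherian Y]
    (F : X.Modules) (hF : Coh.IsCoh F) : Coh.IsCoh ((Coh.push f).obj F) :=
  haveI := (Scheme.Modules.pullbackPushforwardAdjunction f).rightAdjoint_preservesLimits
  haveI : PreservesFiniteLimits (Scheme.Modules.pushforward f) := inferInstance
  QC70.isCoh_of_iso ((Scheme.Modules.pushforward f).rightDerivedZeroIsoSelf.app F)
    (RB70.isCoh_rpush f F hF 0)

/-- Points in the support of an iterated cap lie in the expected dimension. -/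
theorem capIter_dim {X : Scheme.{u}} {δ : X → ℤ} {r : ℕ} (L : Fin r → X.Modules)
    (s : (i : Fin r) → (ξ : X) → Cyc.secFibre (L i) ξ) {α : X → ℤ} {n : ℤ}
    (hα : ∀ x, α x ≠ 0 → δ x = n) :
    ∀ i, ∀ x, Cyc90.Dev.capIter δ L s α i x ≠ 0 → δ x + (i : ℤ) = n
  | 0, x, hx => by simp [hα x (by simpa [Cyc90.Dev.capIter] using hx)]
  | i + 1, x, hx => by
    simp only [Cyc90.Dev.capIter] at hx
    split_ifs at hx with hi
    swap
    · exact absurd rfl hx
    obtain ⟨η, hη⟩ : ∃ η, Cyc90.Dev.capIter δ L s α i η * Cyc.secDivFun δ (L ⟨i, hi⟩) η (s _ η) x ≠ 0 := by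
      by_contra hall
      push Not at hall
      exact hx (finsum_eq_zero_of_forall_eq_zero hall)
    have h1 := capIter_dim L s hα i η (left_ne_zero_of_mul hη)
    have h2 := right_ne_zero_of_mul hη
    unfold Cyc.secDivFun at h2
    split_ifs at h2 with hc
    · push_cast
      omega
    · exact absurd rfl h2

variable (k : Type u) [Field k] {X X' : Scheme.{u}} [X.Over (Spec (CommRingCat.of k))]
  [X'.Over (Spec (CommRingCat.of k))]
  [IsProper (X ↘ Spec (CommRingCat.of k))] [IsProper (X' ↘ Spec (CommRingCat.of k))]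
  (g : X' ⟶ X) (hg : g ≫ (X ↘ Spec (CommRingCat.of k)) = X' ↘ Spec (CommRingCat.of k))

include hg in
/-- The symbol of pullbacks against a module is the symbol against its direct image. -/
theorem intE_pullback_eq_push {r : ℕ} {M : Fin r → X.Modules} (hM : ∀ i, PicF.IsInvertible (M i))
    {F : X'.Modules} (hF : Cyc.CohLe (dl k X') (r : ℤ) F) :
    Cyc90.Dev.intE k (fun i => (Scheme.Modules.pullback g).obj (M i)) F =
      Cyc90.Dev.intE k M ((Coh.push g).obj F) := by
  classical
  have := isProper_of_over k g hg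
  have hδX := deltaCompat_tdegN (X := X) k
  have hδX' := deltaCompat_tdegN (X := X') k
  have hX : Cyc.IsSetup X (dl k X) := Cyc90.isSetup_of_field (X ↘ Spec (CommRingCat.of k)) _ hδX
  have hX' : Cyc.IsSetup X' (dl k X') :=
    Cyc90.isSetup_of_field (X' ↘ Spec (CommRingCat.of k)) _ hδX'
  have hδg := deltaCompat_map k g hg
  haveI := hX.1
  haveI := hF.1.1
  haveI := hF.1.2
  have hP : Cyc.CohLe (dl k X) (r : ℤ) ((Coh.push g).obj F) := by
    refine ⟨isCoh_push_of_isProper g F hF.1, fun y hy => ?_⟩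
    by_contra hlt
    refine not_subsingleton_iff_nontrivial.2 hy (subsingleton_stalk_push g F y fun x hx => ?_)
    by_contra hne
    have h1 := hF.2 x (not_subsingleton_iff_nontrivial.1 hne)
    obtain ⟨n, -, hd⟩ := hδg x
    rw [hx] at hd
    omega
  have inv : ∀ {T : X.Modules}, PicF.IsInvertible T → ∃ L, PicF.IsInvertible L ∧
      Nonempty (CohB1.tensorMod T L ≅ Coh.structureModule X) := fun {T} hT => by
    obtain ⟨L, hL, ⟨e⟩⟩ := An92.InvMod.exists_inverse hT
    exact ⟨L, hL, ⟨EGA73.tensComm T L ≪≫ e⟩⟩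
  choose L hL hML using fun i => inv (hM i)
  choose v hv using fun i => Cyc90.Dev.exists_secFibre_family (hL i)
  let u := fun i => Cyc90.pullSec g (hL i) (v i) (hv i)
  have hu : ∀ i ξ, u i ξ ≠ 0 := fun i => Cyc90.pullSec_ne_zero g (hL i) (v i) (hv i)
  rw [Cyc90.Dev.intE_eq_degFun k hδX' hX' (fun i => (Scheme.Modules.pullback g).obj (L i)) _
      (fun i => Amp73.isInvertible_pullback g (hL i))
      (fun i => pullback_inverse g (hML i).some) u hu F hF,
    Cyc90.Dev.intE_eq_degFun k hδX hX L M hL hML v hv _ hP]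
  have hc := Cyc90.Dev.isCycFun_sheafFun hX' hF
  let α : AlgebraicCycle X' ℤ :=
    { toFun := Cyc.sheafFun (dl k X') (r : ℤ) F
      supportWithinDomain' := Set.subset_univ _
      supportLocallyFiniteWithinDomain' := fun x _ =>
        ⟨Set.univ, Filter.univ_mem, (Cyc90.Dev.IsCycFun.finite_support k hc).subset fun y hy => hy.2⟩ }
  have key : ∀ i, i ≤ r → ∃ γ : AlgebraicCycle X' ℤ,
      ⇑γ = Cyc90.Dev.capIter (dl k X') (fun i => (Scheme.Modules.pullback g).obj (L i)) u
        (Cyc.sheafFun (dl k X') (r : ℤ) F) i ∧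
      ⇑(AlgebraicCycle.map g (dl k X') (dl k X) γ) =
        Cyc90.Dev.capIter (dl k X) L v (Cyc.sheafFun (dl k X) (r : ℤ) ((Coh.push g).obj F)) i := by
    intro i
    induction i with
    | zero => exact fun _ => ⟨α, rfl, map_sheafFun g hX'.2.2 hX.2.2 hδg r F hF.1 hF.2 α rfl⟩
    | succ i ih =>
      intro hi
      obtain ⟨β, hβ, hβm⟩ := ih (by omega)
      obtain ⟨γ, hγ⟩ := Cyc90.exists_c1CapCycle hX' (Amp73.isInvertible_pullback g (hL ⟨i, by omega⟩))
        β (u _) (hu _)
      refine ⟨γ, ?_, ?_⟩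
      · rw [hγ, hβ, Cyc90.Dev.capIter.eq_2, dif_pos (show i < r by omega)]
      · rw [Cyc90.map_c1Cap hX' hX g hδg (hL ⟨i, by omega⟩) β (v _) (hv _) γ hγ, hβm,
          Cyc90.Dev.capIter.eq_2, dif_pos (show i < r by omega)]
  obtain ⟨γ, hγ, hγm⟩ := key r le_rfl
  rw [← hγm, ← hγ]
  refine (degFun_map k g hg γ (fun x hx => ?_) ?_).symm
  · by_contra h
    rw [hγ] at h
    have := capIter_dim (fun i => (Scheme.Modules.pullback g).obj (L i)) u
      (fun y hy => hc.dim y hy) r x h
    omega
  · rw [hγ]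
    exact Cyc90.Dev.finite_capIter k hX' (fun i => Amp73.isInvertible_pullback g (hL i))
      (Cyc90.Dev.IsCycFun.finite_support k hc) u hu r

end Groth.Agent.FGA29
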