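import Groth.Agent.Div89.Fitting
import Groth.Agent.Div89.FreeStalks
import Mathlib

/-!
The subscheme where a coherent module is locally free of a given rank, cut out by Fitting ideals.
-/

set_option autoImplicit false
set_option linter.style.haveILetI false

universe u

open CategoryTheory CategoryTheory.Limits AlgebraicGeometry

namespace Groth.Agent.FGA29

/-- Pullback of an ideal sheaf is zero iff the morphism factors through its subscheme. -/
theorem comap_eq_bot_iff {X T : Scheme.{u}} (J : X.IdealSheafData) (g : T ⟶ X) :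
    J.comap g = ⊥ ↔ ∃ g' : T ⟶ J.subscheme, g' ≫ J.subschemeι = g := by
  rw [← le_bot_iff, ← Scheme.IdealSheafData.le_map_iff_comap_le, Scheme.IdealSheafData.map_bot]
  refine ⟨fun h => ⟨IsClosedImmersion.lift J.subschemeι g (by rwa [J.ker_subschemeι]),
    IsClosedImmersion.lift_fac _ _ _⟩, ?_⟩
  rintro ⟨g', rfl⟩
  exact J.ker_subschemeι.ge.trans (Scheme.Hom.le_ker_comp _ _)

theorem fitting_mono {X : Scheme.{u}} (F : X.Modules) (hF : Coh.IsQCoh F) (hft : CohB1.IsFT F) {k l : ℕ} (h : k ≤ l) :
    Fitt.sheafIdeal F k ≤ Fitt.sheafIdeal F l := fun U => by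
  haveI : F.IsQuasicoherent := hF
  haveI : F.IsFiniteType := hft
  haveI := QC70.finite_sections_of_isFiniteType F U.2
  rw [Div89.fitting_ideal_eq F hF hft, Div89.fitting_ideal_eq F hF hft]
  exact Fit14.ideal_mono h

/-- A finite type quasi-coherent module has a subscheme over which it is locally free of given rank. -/
theorem exists_rankStratum {S : Scheme.{u}} (M : S.Modules) (hM : Coh.IsQCoh M) (hft : CohB1.IsFT M) (r : ℕ) :
    ∃ (Z : Scheme.{u}) (e : Z ⟶ S), IsImmersion e ∧
      (∀ (T : Scheme.{u}) (g : T ⟶ S),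
        FlatMod.IsFinLocFreeOfRank r ((Scheme.Modules.pullback g).obj M) ↔ ∃ g' : T ⟶ Z, g' ≫ e = g) ∧
      ((∀ s : ↥S, ∃ U : S.Opens, s ∈ U ∧ ∃ p : FlatMod.freeMod (↑U) r ⟶ M.restrict U.ι, Epi p) →
        IsClosedImmersion e) := by
  let F := fun k => Fitt.sheafIdeal M k
  let U : S.Opens := (F r).support.compl
  let I : S.IdealSheafData := ⨆ k : Fin r, F k
  let J := I.comap U.ι
  refine ⟨J.subscheme, J.subschemeι ≫ U.ι, inferInstance, fun T g => ?_, fun h => ?_⟩
  · haveI : M.IsQuasicoherent := hM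
    haveI : M.IsFiniteType := hft
    rw [Div89.finLocFreeOfRank_iff_fitting ((Scheme.Modules.pullback g).obj M)
      (QCPull72.isQuasicoherent_pullback g M) (QCPull72.isFiniteType_pullback g M)]
    simp only [← Div89.fitting_comap g M hM hft]
    have htop : (∀ k, r ≤ k → (F k).comap g = ⊤) ↔ Set.range g ⊆ (U : Set S) := by
      constructor
      · rintro h _ ⟨t, rfl⟩ ht
        have h1 : t ∈ ((F r).comap g).support := by
          rw [Scheme.IdealSheafData.support_comap]
          exact ht
        rw [h r le_rfl] at h1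
        have h2 : t ∈ (⊥ : TopologicalSpace.Closeds T) := Scheme.IdealSheafData.support_top (X := T) ▸ h1
        exact h2
      · intro h k hk
        refine top_le_iff.1 (le_trans ?_ (Scheme.IdealSheafData.comap_mono g (fitting_mono M hM hft hk)))
        rw [top_le_iff, ← Scheme.IdealSheafData.support_eq_bot_iff, Scheme.IdealSheafData.support_comap]
        refine TopologicalSpace.Closeds.ext (Set.eq_empty_iff_forall_notMem.2 fun t ht => ?_)
        exact h ⟨t, rfl⟩ ht
    have hbot : (∀ k, k < r → (F k).comap g = ⊥) ↔ I.comap g = ⊥ := by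
      rw [(Scheme.IdealSheafData.map_gc g).l_iSup, iSup_eq_bot]
      exact ⟨fun h k => h k k.2, fun h k hk => h ⟨k, hk⟩⟩
    refine ⟨fun ⟨hb, ht⟩ => ?_, ?_⟩
    · let g₀ := IsOpenImmersion.lift U.ι g (by rw [Scheme.Opens.range_ι]; exact htop.1 ht)
      have hg₀ : g₀ ≫ U.ι = g := IsOpenImmersion.lift_fac _ _ _
      obtain ⟨g', hg'⟩ := (comap_eq_bot_iff J g₀).1 (by
        rw [← Scheme.IdealSheafData.comap_comp, hg₀]; exact hbot.1 hb)
      exact ⟨g', by rw [← Category.assoc, hg', hg₀]⟩
    · rintro ⟨g', rfl⟩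
      refine ⟨hbot.2 ?_, htop.2 ?_⟩
      · rw [← Category.assoc, Scheme.IdealSheafData.comap_comp]
        exact (comap_eq_bot_iff J _).2 ⟨g', rfl⟩
      · rw [← Category.assoc]
        rintro _ ⟨t, rfl⟩
        rw [Scheme.Hom.comp_apply]
        exact ((g' ≫ J.subschemeι) t).2
  · have hU : U = ⊤ := top_le_iff.1 fun s _ => by
      obtain ⟨V, hs, p, hp⟩ := h s
      exact (Div89.fitting_epi_iff M hM hft s r).1 ⟨V, hs, p, hp⟩
    haveI : IsIso U.ι := by
      haveI : Epi U.ι.base := (TopCat.epi_iff_surjective _).2 fun s => ⟨⟨s, hU ▸ trivial⟩, rfl⟩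
      exact (IsOpenImmersion.isIso U.ι)
    infer_instance

end Groth.Agent.FGA29
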