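import Groth.Agent.FGA29.SmallLiftAlg
import Groth.Agent.FGA29.FibreVanish
import Groth.Agent.Lift3.PicLift
import Groth.Agent.Lift3.AdicPic
import Groth.Agent.Units47.Coho
import Mathlib.AlgebraicGeometry.Stalk
import Mathlib.AlgebraicGeometry.PullbackCarrier

/-!
Liftings of points of a relative Picard scheme along small extensions.
-/

set_option autoImplicit false
set_option backward.isDefEq.respectTransparency.types false
set_option linter.style.haveILetI false

noncomputable section

universe u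

open CategoryTheory CategoryTheory.Limits AlgebraicGeometry IsLocalRing

namespace Groth.Agent.FGA29.SmLift

/-- A morphism from a local spectrum is given by a local homomorphism at the image of the closed point. -/
theorem exists_stalkHom {Y : Scheme.{u}} {R : Type u} [CommRing R] [IsLocalRing R]
    (x : Spec (CommRingCat.of R) ⟶ Y) (p : Y) (hp : x (closedPoint R) = p) :
    ∃ g : Y.presheaf.stalk p ⟶ CommRingCat.of R, IsLocalHom g.hom ∧ Spec.map g ≫ Y.fromSpecStalk p = x := by
  subst hp
  exact ⟨Scheme.stalkClosedPointTo x, inferInstance, Scheme.Spec_stalkClosedPointTo_fromSpecStalk x⟩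

/-- Local homomorphisms into a local ring are determined by the morphism of schemes. -/
theorem eq_of_specMap {Y : Scheme.{u}} {R : Type u} [CommRing R] [IsLocalRing R] {p : Y}
    (g g' : Y.presheaf.stalk p ⟶ CommRingCat.of R) (hg : IsLocalHom g.hom) (hg' : IsLocalHom g'.hom)
    (h : Spec.map g ≫ Y.fromSpecStalk p = Spec.map g' ≫ Y.fromSpecStalk p) : g = g' := by
  have h1 : (⟨p, g, hg⟩ : Σ x, { f : Y.presheaf.stalk x ⟶ CommRingCat.of R // IsLocalHom f.hom }) =
      ⟨p, g', hg'⟩ := (SpecToEquivOfLocalRing Y _).symm.injective h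
  exact congrArg Subtype.val (eq_of_heq (Sigma.ext_iff.1 h1).2)

theorem specMap_apply_closedPoint {R R' : Type u} [CommRing R] [IsLocalRing R] [CommRing R'] [IsLocalRing R']
    (ψ : R →+* R') [IsLocalHom ψ] :
    Spec.map (CommRingCat.ofHom ψ) (closedPoint R') = closedPoint R :=
  IsLocalRing.comap_closedPoint ψ

variable {X S : Scheme.{u}} (f : X ⟶ S) [IsProper f] [Flat f]

section ClassLift

variable {R : Type u} [CommRing R] [IsLocalRing R] [IsArtinianRing R] (tT : Spec (CommRingCat.of R) ⟶ S)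
  (J : Ideal R)

/-- The thickened base. -/
abbrev Tfull : Over S := Over.mk tT

/-- The reduced base. -/
abbrev Tsub : Over S := Over.mk (Spec.map (CommRingCat.ofHom (Ideal.Quotient.mk J)) ≫ tT)

/-- The inclusion. -/
abbrev jT : Tsub tT J ⟶ Tfull tT := Over.homMk (Spec.map (CommRingCat.ofHom (Ideal.Quotient.mk J))) rfl

theorem exists_cl_lift (hJ : J ≤ maximalIdeal R)
    (hvan : Subsingleton (Coh.HH (pullback f (Spec.map (CommRingCat.ofHom (residue R)) ≫ tT))
      (Coh.structureModule _) 2))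
    {c₀ : PicF.Cl (PicF.XT f (Tsub tT J))} (hc₀ : PicF.IsInvertibleCl c₀) :
    ∃ c : PicF.Cl (PicF.XT f (Tfull tT)), PicF.IsInvertibleCl c ∧
      PicF.pullCl (PicF.XTmap f (jT tT J)) c = c₀ := by
  obtain ⟨L, rfl, hL⟩ := hc₀
  let g := pullback.snd f tT
  haveI : Flat g := inferInstance
  let ψ := Ideal.Quotient.mk J
  have hψ : Function.Surjective ψ := Ideal.Quotient.mk_surjective
  have hψm : RingHom.ker ψ ≤ maximalIdeal R := by rwa [Ideal.mk_ker]
  have hρ : Function.Surjective (residue R) := residue_surjective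
  have hvan' := Lift3.AdicPic.subsingleton_hh_iso
    (pullbackLeftPullbackSndIso f tT (Spec.map (CommRingCat.ofHom (residue R)))) 2 hvan
  have hsur : Units47.SurjH (Units47.iSub g ψ) 1 := by
    open Units47 in
    exact induction_small g (fun i => SurjH i 1) (fun i _ => surjH_of_isIso i 1)
      (fun φ χ ψ' t hφ hc hψ' hk hann ht hnil h => surjH_step g χ t hφ hc hψ' hρ hk hann ht hnil 1 h hvan')
      (RingHom.ker ψ) ψ hψ rfl hψm
  haveI : IsClosedImmersion (Spec.map (CommRingCat.ofHom ψ)) := IsClosedImmersion.spec_of_surjective _ hψ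
  haveI : Surjective (Spec.map (CommRingCat.ofHom ψ)) := by
    refine ⟨fun (x : PrimeSpectrum R) => ?_⟩
    have : RingHom.ker ψ ≤ x.asIdeal := hψm.trans
      (IsLocalRing.eq_maximalIdeal (IsArtinianRing.isMaximal_of_isPrime x.asIdeal)).ge
    exact ((range_comap_of_surjective _ _ hψ).ge this)
  haveI : Surjective (Units47.iSub g ψ) :=
    MorphismProperty.of_isPullback (P := @Surjective)
      (IsPullback.of_hasPullback g (Spec.map (CommRingCat.ofHom ψ))).flip inferInstance
  let e : PicF.XT f (Tsub tT J) ≅ pullback g (Spec.map (CommRingCat.ofHom ψ)) :=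
    (pullbackLeftPullbackSndIso f tT (Spec.map (CommRingCat.ofHom ψ))).symm
  have hts : e.hom ≫ Units47.iSub g ψ = PicF.XTmap f (jT tT J) := by
    refine pullback.hom_ext ?_ ?_
    · simp only [e, PicF.XTmap, g, Units47.iSub, Iso.symm_hom, Category.assoc]
      erw [pullback.lift_fst]
      simp [ψ]
    · simp only [e, PicF.XTmap, g, Units47.iSub, Iso.symm_hom, Category.assoc]
      erw [pullback.lift_snd]
      simp [ψ]
  obtain ⟨M, hM, ⟨φ⟩⟩ := Lift3.PicLift.exists_lift (Units47.iSub g ψ) hsur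
    (Amp73.isInvertible_pullback e.inv hL)
  exact ⟨PicF.cl M, ⟨M, rfl, hM⟩, Quot.sound ⟨(Scheme.Modules.pullbackCongr hts).symm.app M ≪≫
    ((Scheme.Modules.pullbackComp e.hom (Units47.iSub g ψ)).symm.app M) ≪≫
    (Scheme.Modules.pullback e.hom).mapIso φ ≪≫ (Scheme.Modules.pullbackComp e.hom e.inv).app L ≪≫
    (Scheme.Modules.pullbackCongr e.hom_inv_id).app L ≪≫ (Scheme.Modules.pullbackId _).app L⟩⟩

end ClassLift

variable {P : Over S} {φ : ∀ T : Over S, PicF.Cl (PicF.XT f T) → (T ⟶ P)} (hP : PicRel.IsRelPic f P φ)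

/-- The base point of a local homomorphism. -/
abbrev basePt (p : P.left) {R : Type u} [CommRing R] (hA : S.presheaf.stalk (P.hom p) →+* R) :
    Spec (CommRingCat.of R) ⟶ S :=
  Spec.map (CommRingCat.ofHom hA) ≫ S.fromSpecStalk (P.hom p)

omit [IsProper f] [Flat f] in
theorem specMap_fromSpecStalk_hom {p : P.left} {R : Type u} [CommRing R] (g : P.left.presheaf.stalk p →+* R) :
    (Spec.map (CommRingCat.ofHom g) ≫ P.left.fromSpecStalk p) ≫ P.hom =
      basePt p (g.comp (P.hom.stalkMap p).hom) := by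
  rw [Category.assoc, ← Scheme.SpecMap_stalkMap_fromSpecStalk, ← Category.assoc, ← Spec.map_comp]
  rfl

include hP in
theorem exists_point_lift {p : P.left}
    (hvan : Subsingleton (Coh.HH (pullback f (S.fromSpecResidueField (P.hom p))) (Coh.structureModule _) 2))
    {R : Type u} [CommRing R] [IsLocalRing R] [IsArtinianRing R] [IsSepClosed (ResidueField R)]
    (hA : S.presheaf.stalk (P.hom p) →+* R) [IsLocalHom hA] (J : Ideal R) (hJ : J ≤ maximalIdeal R)
    (g₀ : P.left.presheaf.stalk p →+* R ⧸ J) [IsLocalHom g₀]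
    (hg₀ : g₀.comp (P.hom.stalkMap p).hom = (Ideal.Quotient.mk J).comp hA) :
    ∃ g : P.left.presheaf.stalk p →+* R, g.comp (P.hom.stalkMap p).hom = hA ∧
      (Ideal.Quotient.mk J).comp g = g₀ := by
  have hJne : J ≠ ⊤ := fun h => (maximalIdeal.isMaximal R).ne_top (top_le_iff.1 (h ▸ hJ))
  haveI : Nontrivial (R ⧸ J) := Ideal.Quotient.nontrivial_iff.2 hJne
  haveI : IsLocalRing (R ⧸ J) := IsLocalRing.of_surjective' _ Ideal.Quotient.mk_surjective
  haveI : IsLocalHom (Ideal.Quotient.mk J) := IsLocalHom.of_surjective _ Ideal.Quotient.mk_surjective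
  -- the closed fibre has no obstruction
  have hvan' : Subsingleton (Coh.HH (pullback f (Spec.map (CommRingCat.ofHom (residue R)) ≫ basePt p hA))
      (Coh.structureModule _) 2) := by
    haveI : IsLocalHom ((residue R).comp hA) := inferInstance
    refine FibVanish.subsingleton_hh_point f (P.hom p) 2 hvan
      (CommRingCat.ofHom (ResidueField.lift ((residue R).comp hA))) _ ?_
    rw [Scheme.fromSpecResidueField, Scheme.residue, ← Category.assoc, ← Category.assoc, ← Spec.map_comp,
      ← Spec.map_comp]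
    rfl
  -- strict henselianity
  let ρ : R ⧸ J →+* ResidueField R := Ideal.Quotient.lift J (residue R) fun x hx => (residue_eq_zero_iff x).2 (hJ hx)
  obtain ⟨_, _⟩ : ∃ _ : HenselianLocalRing (R ⧸ J), IsSepClosed (ResidueField (R ⧸ J)) := by
    refine PicArtin.strict_of_nil ρ (Ideal.Quotient.lift_surjective_of_surjective _ _ residue_surjective) fun x hx => ?_
    obtain ⟨x, rfl⟩ := Ideal.Quotient.mk_surjective x
    have hx' : x ∈ maximalIdeal R := (residue_eq_zero_iff x).1 hx
    obtain ⟨N, hN⟩ : IsNilpotent (maximalIdeal R) := by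
      rw [← jacobson_eq_maximalIdeal ⊥ bot_ne_top]
      exact IsArtinianRing.isNilpotent_jacobson_bot
    refine ⟨N, ?_⟩
    have h1 := Ideal.pow_mem_pow hx' N
    rw [hN] at h1
    rw [← map_pow, show x ^ N = 0 from Ideal.mem_bot.1 h1, map_zero]
  let x₀ : Tsub (basePt p hA) J ⟶ P := Over.homMk (Spec.map (CommRingCat.ofHom g₀) ≫ P.left.fromSpecStalk p) (by
    show _ = Spec.map _ ≫ basePt p hA
    rw [specMap_fromSpecStalk_hom, hg₀, basePt, basePt, ← Category.assoc, ← Spec.map_comp]
    rfl)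
  obtain ⟨c₀, hc₀, hx₀⟩ := PicArtin.exists_cl hP (R ⧸ J) _ x₀
  obtain ⟨c, hc, hcc⟩ := exists_cl_lift f (basePt p hA) J hJ hvan' hc₀
  let x := φ (Tfull (basePt p hA)) c
  have hjx : Spec.map (CommRingCat.ofHom (Ideal.Quotient.mk J)) ≫ x.left =
      Spec.map (CommRingCat.ofHom g₀) ≫ P.left.fromSpecStalk p := by
    have h1 := hP.natural _ _ (jT (basePt p hA) J) c hc
    rw [hcc, hx₀] at h1
    exact (congrArg CommaMorphism.left h1).symm
  have hxp : x.left (closedPoint R) = p := by
    have h1 : (Spec.map (CommRingCat.ofHom (Ideal.Quotient.mk J)) ≫ x.left) (closedPoint (R ⧸ J)) =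
        (Spec.map (CommRingCat.ofHom g₀) ≫ P.left.fromSpecStalk p) (closedPoint (R ⧸ J)) := by rw [hjx]
    rw [Scheme.Hom.comp_apply, Scheme.Hom.comp_apply, specMap_apply_closedPoint, specMap_apply_closedPoint,
      Scheme.fromSpecStalk_closedPoint] at h1
    exact h1
  obtain ⟨g, hgl, hgx⟩ := exists_stalkHom x.left p hxp
  refine ⟨g.hom, ?_, ?_⟩
  · haveI := hgl
    haveI : IsLocalHom ((g.hom).comp (P.hom.stalkMap p).hom) := inferInstance
    refine congrArg CommRingCat.Hom.hom (eq_of_specMap (Y := S) (CommRingCat.ofHom (g.hom.comp (P.hom.stalkMap p).hom))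
      (CommRingCat.ofHom hA) ‹_› ‹IsLocalHom hA› ?_)
    show basePt p (g.hom.comp (P.hom.stalkMap p).hom) = basePt p hA
    rw [← specMap_fromSpecStalk_hom]
    show (Spec.map g ≫ _) ≫ _ = _
    rw [hgx]
    exact Over.w x
  · haveI := hgl
    haveI : IsLocalHom ((Ideal.Quotient.mk J).comp g.hom) := inferInstance
    refine congrArg CommRingCat.Hom.hom (eq_of_specMap (CommRingCat.ofHom ((Ideal.Quotient.mk J).comp g.hom))
      (CommRingCat.ofHom g₀) ‹_› ‹IsLocalHom g₀› ?_)
    refine Eq.trans ?_ hjx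
    rw [← hgx, ← Category.assoc, ← Spec.map_comp]
    rfl

include hP in
/-- Lifting along small extensions. -/
theorem exists_small_lift {p : P.left}
    (hvan : Subsingleton (Coh.HH (pullback f (S.fromSpecResidueField (P.hom p))) (Coh.structureModule _) 2))
    (A' : Type u) [CommRing A'] [IsLocalRing A'] [IsArtinianRing A']
    (h : S.presheaf.stalk (P.hom p) →+* A') [IsLocalHom h]
    (I : Ideal A') (hI : I ≠ ⊤) (hIm : I * maximalIdeal A' = ⊥)
    (g₀ : P.left.presheaf.stalk p →+* A' ⧸ I)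
    (hg₀ : g₀.comp (P.hom.stalkMap p).hom = (Ideal.Quotient.mk I).comp h)
    (hmax : ∀ b ∈ maximalIdeal (P.left.presheaf.stalk p), g₀ b ∈ (maximalIdeal A').map (Ideal.Quotient.mk I)) :
    ∃ g : P.left.presheaf.stalk p →+* A', g.comp (P.hom.stalkMap p).hom = h ∧
      (Ideal.Quotient.mk I).comp g = g₀ := by
  obtain ⟨R, _, _, _, hart, hloc, hmR, hsep, r, hr⟩ := exists_strict_extension A'
  let J := I.map (algebraMap A' R)
  have hJ : J ≤ maximalIdeal R := hmR ▸ Ideal.map_mono (le_maximalIdeal hI)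
  let q : A' ⧸ I →+* R ⧸ J := Ideal.quotientMap J (algebraMap A' R) Ideal.le_comap_map
  haveI : IsLocalHom (q.comp g₀) := ⟨fun b hb => by
    by_contra hb'
    have h1 := hmax b ((mem_maximalIdeal b).2 hb')
    obtain ⟨a, ha, hab⟩ := (Ideal.mem_map_iff_of_surjective _ Ideal.Quotient.mk_surjective).1 h1
    change IsUnit (q (g₀ b)) at hb
    rw [← hab] at hb
    change IsUnit (Ideal.Quotient.mk J (algebraMap A' R a)) at hb
    haveI : Nontrivial (R ⧸ J) := Ideal.Quotient.nontrivial_iff.2
      fun h => (maximalIdeal.isMaximal R).ne_top (top_le_iff.1 (h ▸ hJ))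
    haveI : IsLocalHom (Ideal.Quotient.mk J) := IsLocalHom.of_surjective _ Ideal.Quotient.mk_surjective
    exact (mem_maximalIdeal _).1 ha (IsUnit.of_map (algebraMap A' R) a (IsUnit.of_map (Ideal.Quotient.mk J) _ hb))⟩
  obtain ⟨g', hg'1, hg'2⟩ := exists_point_lift f hP hvan ((algebraMap A' R).comp h) J hJ (q.comp g₀) (by
    rw [RingHom.comp_assoc, hg₀]
    rfl)
  refine exists_lift_of_extension r hr _ h I ?_ g₀ g' hg'1 fun b a hba => ?_
  · exact le_bot_iff.1 (hIm ▸ Ideal.mul_mono le_rfl (le_maximalIdeal hI))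
  · rw [← Ideal.Quotient.eq]
    show ((Ideal.Quotient.mk J).comp g') b = _
    rw [hg'2, RingHom.comp_apply, ← hba]
    rfl

end Groth.Agent.FGA29.SmLift
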