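import Groth.Agent.CAlg1.Gonflement
import Groth.Agent.Cohen12.CohenFS
import Groth.Agent.FGA29.PicArtin
import Mathlib.RingTheory.Noetherian.OfPrime
import Mathlib.FieldTheory.IsSepClosed

/-! Strictly henselian Artinian extensions of Artinian local rings. -/

set_option autoImplicit false
set_option backward.isDefEq.respectTransparency.types false
set_option linter.style.haveILetI false

noncomputable section

universe u

open IsLocalRing

namespace Groth.Agent.FGA29.SmLift

theorem exists_retraction (A' R' : Type u) [CommRing A'] [IsLocalRing A'] [CommRing R'] [IsLocalRing R']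
    [Algebra A' R'] [Module.Flat A' R'] [IsLocalHom (algebraMap A' R')] (hn : IsNilpotent (maximalIdeal A')) :
    ∃ r : R' →ₗ[A'] A', r 1 = 1 := by
  classical
  haveI : Module.Free A' R' := Cohen12.free_of_flat_of_nilpotent hn
  let b := Module.Free.chooseBasis A' R'
  by_cases h : ∀ i, b.repr 1 i ∈ maximalIdeal A'
  · exfalso
    have h1 : (1 : R') ∈ maximalIdeal R' := by
      rw [← b.linearCombination_repr 1, Finsupp.linearCombination_apply]
      refine Ideal.sum_mem _ fun i _ => ?_
      show b.repr 1 i • b i ∈ _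
      rw [Algebra.smul_def]
      exact Ideal.mul_mem_right _ _ (((mem_maximalIdeal _).2 fun hu => (mem_maximalIdeal _).1 (h i) (IsUnit.of_map (algebraMap A' R') _ hu)))
    exact (mem_maximalIdeal _).1 h1 isUnit_one
  · push Not at h
    obtain ⟨i, hi⟩ := h
    obtain ⟨u, hu⟩ := notMem_maximalIdeal.1 hi
    refine ⟨(↑u⁻¹ : A') • b.coord i, ?_⟩
    rw [LinearMap.smul_apply, b.coord_apply, smul_eq_mul, ← hu, Units.inv_mul]

/-- An Artinian, strictly henselian, flat extension with a retraction. -/
theorem exists_strict_extension (A' : Type u) [CommRing A'] [IsLocalRing A'] [IsArtinianRing A'] :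
    ∃ (R' : Type u) (_ : CommRing R') (_ : IsLocalRing R') (_ : Algebra A' R'),
      IsArtinianRing R' ∧ IsLocalHom (algebraMap A' R') ∧
      (maximalIdeal A').map (algebraMap A' R') = maximalIdeal R' ∧
      IsSepClosed (ResidueField R') ∧ ∃ r : R' →ₗ[A'] A', r 1 = 1 := by
  obtain ⟨R', _, _, _, hloc, hflat, hmax, ⟨e⟩⟩ :=
    CAlg1.Gonfl.exists_extension (R := A') (K := AlgebraicClosure (ResidueField A'))
  have hn : IsNilpotent (maximalIdeal A') := by
    rw [← jacobson_eq_maximalIdeal ⊥ bot_ne_top]
    exact IsArtinianRing.isNilpotent_jacobson_bot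
  have hnR : IsNilpotent (maximalIdeal R') := by
    obtain ⟨N, hN⟩ := hn
    refine ⟨N, ?_⟩
    rw [← hmax, ← Ideal.map_pow, hN]
    exact Ideal.map_bot
  haveI : IsNoetherianRing R' := IsNoetherianRing.of_prime fun Q hQ => by
    have hQm : Q = maximalIdeal R' := by
      refine le_antisymm (le_maximalIdeal hQ.ne_top) ?_
      obtain ⟨N, hN⟩ := hnR
      intro x hx
      refine hQ.mem_of_pow_mem N ?_
      have h1 := Ideal.pow_mem_pow hx N
      rw [hN] at h1
      rw [show x ^ N = 0 from Ideal.mem_bot.1 h1]
      exact Q.zero_mem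
    rw [hQm, ← hmax]
    exact Ideal.FG.map (IsNoetherian.noetherian (maximalIdeal A')) _
  refine ⟨R', ‹_›, ‹_›, ‹_›, isArtinianRing_iff_isNilpotent_maximalIdeal R' |>.2 hnR, hloc, hmax, ?_,
    exists_retraction A' R' hn⟩
  exact Unr55.isSepClosed_of_surjective e.symm.toRingEquiv.toRingHom e.symm.surjective

theorem retraction_mem {A' R' : Type u} [CommRing A'] [CommRing R'] [Algebra A' R'] (r : R' →ₗ[A'] A')
    (I : Ideal A') {x : R'} (hx : x ∈ I.map (algebraMap A' R')) : r x ∈ I := by
  induction hx using Submodule.span_induction generalizing r with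
  | mem x hx =>
    obtain ⟨a, ha, rfl⟩ := hx
    rw [Algebra.algebraMap_eq_smul_one, map_smul, smul_eq_mul]
    exact I.mul_mem_right _ ha
  | zero => rw [map_zero]; exact I.zero_mem
  | add x y _ _ hx hy => rw [map_add]; exact I.add_mem (hx r) (hy r)
  | smul c x _ hx => exact hx (r.comp (LinearMap.mulLeft A' c))

/-- Lifts descend along a retraction. -/
theorem exists_lift_of_extension {A B A' R' : Type u} [CommRing A] [CommRing B] [CommRing A'] [CommRing R']
    [Algebra A' R'] (r : R' →ₗ[A'] A') (hr : r 1 = 1) (σ : A →+* B) (h : A →+* A') (I : Ideal A')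
    (hI : I * I = ⊥) (g₀ : B →+* A' ⧸ I) (g' : B →+* R') (hg' : g'.comp σ = (algebraMap A' R').comp h)
    (hg₀ : ∀ b a, Ideal.Quotient.mk I a = g₀ b → g' b - algebraMap A' R' a ∈ I.map (algebraMap A' R')) :
    ∃ g : B →+* A', g.comp σ = h ∧ (Ideal.Quotient.mk I).comp g = g₀ := by
  have hra : ∀ a, r (algebraMap A' R' a) = a := fun a => by
    rw [Algebra.algebraMap_eq_smul_one, map_smul, hr, smul_eq_mul, mul_one]
  have hmk : ∀ b, Ideal.Quotient.mk I (r (g' b)) = g₀ b := fun b => by
    obtain ⟨a, ha⟩ := Ideal.Quotient.mk_surjective (g₀ b)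
    rw [← ha, Ideal.Quotient.eq, show r (g' b) - a = r (g' b - algebraMap A' R' a) by rw [map_sub, hra]]
    exact retraction_mem r I (hg₀ b a ha)
  have hmul : ∀ b c, r (g' (b * c)) = r (g' b) * r (g' c) := by
    intro b c
    obtain ⟨a, ha⟩ := Ideal.Quotient.mk_surjective (g₀ b)
    obtain ⟨a', ha'⟩ := Ideal.Quotient.mk_surjective (g₀ c)
    have he := hg₀ b a ha
    have he' := hg₀ c a' ha'
    set e := g' b - algebraMap A' R' a
    set e' := g' c - algebraMap A' R' a'
    have hee : e * e' = 0 := by
      have := Ideal.mul_mem_mul he he'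
      rwa [← Ideal.map_mul, hI, Ideal.map_bot, Ideal.mem_bot] at this
    have hb : g' b = algebraMap A' R' a + e := (add_sub_cancel _ _).symm
    have hc : g' c = algebraMap A' R' a' + e' := (add_sub_cancel _ _).symm
    have hprod : r e * r e' = 0 := by
      have := Ideal.mul_mem_mul (retraction_mem r I he) (retraction_mem r I he')
      rwa [hI, Ideal.mem_bot] at this
    have key : g' (b * c) = algebraMap A' R' (a * a') + (a • e' + a' • e) := by
      rw [map_mul, hb, hc, map_mul, Algebra.smul_def, Algebra.smul_def]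
      linear_combination hee
    rw [key, hb, hc, map_add r, map_add r, map_smul, map_smul, hra, map_add r, map_add r, hra, hra,
      smul_eq_mul, smul_eq_mul]
    linear_combination -hprod
  refine ⟨{ toFun := fun b => r (g' b)
            map_one' := by rw [map_one, hr]
            map_mul' := hmul
            map_zero' := by rw [map_zero, map_zero]
            map_add' := fun b c => by rw [map_add, map_add] }, RingHom.ext fun c => ?_, RingHom.ext hmk⟩
  show r (g' (σ c)) = h c
  rw [show g' (σ c) = algebraMap A' R' (h c) from congr($hg' c), hra]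

end Groth.Agent.FGA29.SmLift
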