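import Groth.Agent.FGA29.TauSet

/-!
Residue characteristics along specialisations, and closedness of the p-primary and prime-to-p torsion sets.
-/

set_option autoImplicit false
set_option backward.isDefEq.respectTransparency.types false
set_option linter.style.haveILetI false
universe u

open CategoryTheory CategoryTheory.Limits MonoidalCategory CartesianMonoidalCategory MonObj GrpObj AlgebraicGeometry Opposite Topology

noncomputable section

namespace Groth.Agent.FGA29.Tau

variable {S : Scheme.{u}}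

theorem isClosed_natCast_residueField (S : Scheme.{u}) (n : ℕ) :
    IsClosed {s : S | (n : S.residueField s) = 0} := by
  have e : {s : S | (n : S.residueField s) = 0} = (S.basicOpen (n : Γ(S, ⊤)) : Set S)ᶜ := by
    ext s
    have h := S.evaluation_eq_zero_iff_notMem_basicOpen (U := ⊤) s trivial (n : Γ(S, ⊤))
    rw [map_natCast] at h
    simpa using h
  rw [e]
  exact (S.basicOpen _).isOpen.isClosed_compl

theorem ringExpChar_cases (K : Type u) [Field K] :
    ringExpChar K = 1 ∨ (Nat.Prime (ringExpChar K) ∧ (ringExpChar K : K) = 0) := by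
  rcases CharP.char_is_prime_or_zero K (ringChar K) with h | h
  · right
    have e : ringExpChar K = ringChar K := by
      rw [ringExpChar, max_eq_left h.one_lt.le]
    rw [e]
    exact ⟨h, CharP.cast_eq_zero K (ringChar K)⟩
  · left
    rw [ringExpChar, h, max_eq_right zero_le_one]

theorem ringExpChar_eq_of_natCast_eq_zero (K : Type u) [Field K] {q : ℕ} (hq : q.Prime) (h : (q : K) = 0) :
    ringExpChar K = q := by
  rw [ringExpChar, CharP.ringChar_of_prime_eq_zero hq h, max_eq_left hq.one_lt.le]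

variable [IsLocallyNoetherian S] (G : Over S) [GrpObj G] [LocallyOfFiniteType G.hom]

theorem specializes_rho_exponent {s t : S} (h : s ⤳ t) :
    ringExpChar (S.residueField s) = 1 ∨ ringExpChar (S.residueField t) = ringExpChar (S.residueField s) := by
  rcases ringExpChar_cases (S.residueField s) with h1 | ⟨hq, h0⟩
  · exact Or.inl h1
  · exact Or.inr (ringExpChar_eq_of_natCast_eq_zero _ hq (h.mem_closed (isClosed_natCast_residueField S _) h0))

theorem isClosed_rho (h0 : IsClosed (SGA3x.neutralSet G)) (p : S → ℕ)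
    (hp : ∀ s : S, ringExpChar (S.residueField s) = p s) :
    IsClosed {x : G.left | ∃ h m : ℕ, m = p (G.hom x) ^ h ∧ pw G m x ∈ SGA3x.neutralSet G} := by
  haveI : IsLocallyNoetherian G.left := LocallyOfFiniteType.isLocallyNoetherian G.hom
  have hpos : ∀ s : S, 0 < p s := fun s => by
    rw [← hp s, ringExpChar]; exact lt_of_lt_of_le one_pos (le_max_right _ _)
  refine isClosed_of_separation _ ?_ fun x hx => ?_
  · rintro x y hxy ⟨h, m, hm, hx⟩
    have hy : pw G m y ∈ SGA3x.neutralSet G := (hxy.map (pw G m).continuous).mem_closed h0 hx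
    rcases specializes_rho_exponent (hxy.map G.hom.continuous) with h1 | h1
    · rw [hp] at h1
      refine ⟨0, m, ?_, hy⟩
      rw [hm, h1, one_pow, pow_zero]
    · rw [hp, hp] at h1
      exact ⟨h, m, by rw [hm, h1], hy⟩
  · by_cases hd : ∃ d, 0 < d ∧ pw G d x ∈ SGA3x.neutralSet G
    · obtain ⟨d, hd0, hd⟩ := hd
      refine ⟨(pw G 1 ⁻¹' SGA3x.neutralSet G) ∪ ⋃ k : {k : ℕ // k ≤ d ∧ IsPrimePow k},
        pw G k.1 ⁻¹' SGA3x.neutralSet G ∩ G.hom ⁻¹' {s : S | (k.1 : S.residueField s) = 0}, ?_, ?_, ?_⟩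
      · haveI : Finite {k : ℕ // k ≤ d ∧ IsPrimePow k} := ((Set.finite_le_nat d).subset fun k hk => hk.1).to_subtype
        exact (h0.preimage (pw G 1).continuous).union (isClosed_iUnion_of_finite fun k =>
          (h0.preimage (pw G _).continuous).inter ((isClosed_natCast_residueField S _).preimage G.hom.continuous))
      · rintro (h1 | h1)
        · exact hx ⟨0, 1, (pow_zero _).symm, h1⟩
        · obtain ⟨⟨k, _, hk⟩, h2, h3⟩ := Set.mem_iUnion.1 h1
          obtain ⟨q, e, hq, he, rfl⟩ := hk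
          have hq' : Nat.Prime q := Nat.prime_iff.2 hq
          have h4 : (q : S.residueField (G.hom x)) = 0 := by
            have h3 : ((q ^ e : ℕ) : S.residueField (G.hom x)) = 0 := h3
            rw [Nat.cast_pow] at h3
            exact (pow_eq_zero_iff he.ne').1 h3
          exact hx ⟨e, q ^ e, by rw [← hp, ringExpChar_eq_of_natCast_eq_zero _ hq' h4], h2⟩
      · rintro z ⟨h, m, hm, hz⟩ hxz
        have hdz : pw G d z ∈ SGA3x.neutralSet G := (hxz.map (pw G d).continuous).mem_closed h0 hd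
        have hk := pw_mem_gcd G z d m hdz hz
        rcases ringExpChar_cases (S.residueField (G.hom z)) with h1 | ⟨hq, hq0⟩
        · rw [hp] at h1
          rw [h1, one_pow] at hm
          exact Or.inl (hm ▸ hz)
        · rw [hp] at hq hq0
          obtain ⟨e, -, he⟩ := (Nat.dvd_prime_pow hq).1 (hm ▸ Nat.gcd_dvd_right d m : Nat.gcd d m ∣ p (G.hom z) ^ h)
          rw [he] at hk
          rcases Nat.eq_zero_or_pos e with rfl | he0
          · exact Or.inl (by rw [pow_zero] at hk; exact hk)
          · refine Or.inr (Set.mem_iUnion.2 ⟨⟨_, he ▸ Nat.gcd_le_left m hd0, hq.isPrimePow.pow he0.ne'⟩, hk, ?_⟩)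
            show ((p (G.hom z) ^ e : ℕ) : S.residueField (G.hom z)) = 0
            rw [Nat.cast_pow, hq0, zero_pow he0.ne']
    · refine ⟨∅, isClosed_empty, id, fun z hz hxz => hd ?_⟩
      obtain ⟨h, m, hm, hz⟩ := hz
      exact hxz.mem_open (isOpen_tau G) ⟨m, hm ▸ pow_pos (hpos _) h, hz⟩

theorem isClosed_sigma (h0 : IsClosed (SGA3x.neutralSet G)) (c : ℕ) :
    IsClosed {x : G.left | ∃ n : ℕ, 0 < n ∧ Nat.Coprime n c ∧ pw G n x ∈ SGA3x.neutralSet G} := by
  haveI : IsLocallyNoetherian G.left := LocallyOfFiniteType.isLocallyNoetherian G.hom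
  refine isClosed_of_separation _ ?_ fun x hx => ?_
  · rintro x y hxy ⟨n, hn, hc, hx⟩
    exact ⟨n, hn, hc, (hxy.map (pw G n).continuous).mem_closed h0 hx⟩
  · by_cases hd : ∃ d, 0 < d ∧ pw G d x ∈ SGA3x.neutralSet G
    · obtain ⟨d, hd0, hd⟩ := hd
      refine ⟨⋃ k : {k : ℕ // k ≤ d ∧ 0 < k ∧ Nat.Coprime k c}, pw G k.1 ⁻¹' SGA3x.neutralSet G, ?_, ?_, ?_⟩
      · haveI : Finite {k : ℕ // k ≤ d ∧ 0 < k ∧ Nat.Coprime k c} :=
          ((Set.finite_le_nat d).subset fun k hk => hk.1).to_subtype
        exact isClosed_iUnion_of_finite fun k => h0.preimage (pw G _).continuous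
      · intro h1
        obtain ⟨⟨k, _, hk0, hkc⟩, h2⟩ := Set.mem_iUnion.1 h1
        exact hx ⟨k, hk0, hkc, h2⟩
      · rintro z ⟨n, hn, hc, hz⟩ hxz
        have hdz : pw G d z ∈ SGA3x.neutralSet G := (hxz.map (pw G d).continuous).mem_closed h0 hd
        exact Set.mem_iUnion.2 ⟨⟨Nat.gcd d n, Nat.gcd_le_left n hd0, Nat.gcd_pos_of_pos_left n hd0,
          hc.coprime_dvd_left (Nat.gcd_dvd_right d n)⟩, pw_mem_gcd G z d n hdz hz⟩
    · refine ⟨∅, isClosed_empty, id, fun z hz hxz => hd ?_⟩
      obtain ⟨n, hn, -, hz⟩ := hz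
      exact hxz.mem_open (isOpen_tau G) ⟨n, hn, hz⟩

end Groth.Agent.FGA29.Tau
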