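import Groth.Agent.FGA29.TauChar
import Groth.Agent.NeronHD28.KPoints
import Groth.Agent.SGA3a.PowEtale

/-!
Openness of the p-primary torsion components when the prime-to-p power maps are open.
-/

set_option autoImplicit false
set_option backward.isDefEq.respectTransparency.types false
set_option linter.style.haveILetI false
universe u

open CategoryTheory CategoryTheory.Limits MonoidalCategory CartesianMonoidalCategory MonObj GrpObj AlgebraicGeometry Opposite Topology

noncomputable section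

namespace Groth.Agent.FGA29.Tau

open SGA3a NeronHD28.KPts

section Field

variable {K : Type u} [Field K] (H : Over (Spec (CommRingCat.of K))) [GrpObj H] [IsCommMonObj H]
  [LocallyOfFiniteType H.hom]

/-- The identity component is divisible by integers invertible in the field, on points. -/
theorem component_subset_range_powHom (n : ℕ) (hn : (n : K) ≠ 0) :
    connectedComponent (Grp57.unitPt H) ⊆ Set.range (powHom (G := H) n).left := by
  haveI : Etale ((𝟙 H : H ⟶ H) ^ n).left := by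
    have h := SGA3a.PowEtale.etale_zpow H (n : ℤ) (by exact_mod_cast hn)
    rwa [zpow_natCast] at h
  haveI : IsOpenImmersion (SGA3a.TargetLocus.preNeutralι (𝟙 H)).left :=
    inferInstanceAs (IsOpenImmersion ((𝟙 H : H ⟶ H).left ⁻¹ᵁ _).ι)
  haveI : UniversallyOpen (powHom (G := H) n).left := by
    rw [powHom, Over.comp_left]
    infer_instance
  obtain ⟨_, _⟩ := SGA3a.TargetLocus.exists_grpObj_preNeutral (𝟙 H)
  haveI : QuasiCompact (𝟙 H : H ⟶ H).left := inferInstanceAs (QuasiCompact (𝟙 H.left))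
  haveI := SGA3a.TargetLocus.quasiCompact_preNeutral (𝟙 H)
  haveI : LocallyOfFiniteType (SGA3a.TargetLocus.preNeutral (𝟙 H)).hom :=
    inferInstanceAs (LocallyOfFiniteType (_ ≫ H.hom))
  haveI : IsSeparated H.hom := AlgGrp79.isSeparated_grp H
  haveI : QuasiCompact (powHom (G := H) n).left := by
    haveI : QuasiCompact ((powHom (G := H) n).left ≫ H.hom) := by rw [Over.w]; infer_instance
    exact QuasiCompact.of_comp (powHom (G := H) n).left H.hom
  haveI := isMonHom_npow (G := H) n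
  haveI : IsMonHom (powHom (G := H) n) := by unfold powHom; infer_instance
  have hclopen : IsClopen (Set.range (powHom (G := H) n).left) :=
    ⟨SGA3a.GrpImageDim.isClosed_range (powHom (G := H) n), (powHom (G := H) n).left.isOpenMap.isOpen_range⟩
  exact isPreconnected_connectedComponent.subset_isClopen hclopen
    ⟨_, powHom_range_subset n ⟨Grp57.unitPt _, rfl⟩, Grp57.unitPt _, rfl⟩

theorem exists_mem_component_pw (n : ℕ) (hn : (n : K) ≠ 0) {z : H.left}
    (hz : z ∈ connectedComponent (Grp57.unitPt H)) :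
    ∃ w ∈ connectedComponent (Grp57.unitPt H), pw H n w = z := by
  obtain ⟨a, rfl⟩ := component_subset_range_powHom H n hn hz
  exact ⟨(SGA3a.TargetLocus.preNeutralι (𝟙 H)).left a, a.2, rfl⟩

end Field

variable {S : Scheme.{u}} (G : Over S) [GrpObj G] [IsCommMonObj G] [LocallyOfFiniteType G.hom]

theorem exists_mem_neutralSet_pw (n : ℕ) {x : G.left} (hx : x ∈ SGA3x.neutralSet G)
    (hn : (n : S.residueField (G.hom x)) ≠ 0) :
    ∃ w ∈ SGA3x.neutralSet G, pw G n w = x := by
  let f : Spec (CommRingCat.of (S.residueField (G.hom x))) ⟶ S := S.fromSpecResidueField (G.hom x)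
  letI hG : GrpObj (bcO f G) := bcOGrp G f
  haveI : IsCommMonObj (bcO f G) := Functor.isCommMonObj_obj
  haveI : LocallyOfFiniteType (bcO f G).hom :=
    MorphismProperty.pullback_snd (P := @LocallyOfFiniteType) _ _ ‹_›
  obtain ⟨z, hz⟩ := (range_prO_residue G (G.hom x)).ge (rfl : G.hom x = G.hom x)
  have hzC : z ∈ fibNeutral G f := (prO_mem_neutralSet_iff G f z).1 ((show prO f G z = x from hz).symm ▸ hx)
  obtain ⟨w, hw, hwz⟩ := exists_mem_component_pw (bcO f G) n hn hzC
  refine ⟨prO f G w, (prO_mem_neutralSet_iff G f w).2 hw, ?_⟩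
  have hmap : (Over.pullback f).map ((𝟙 G : G ⟶ G) ^ n) = (𝟙 (bcO f G) : bcO f G ⟶ bcO f G) ^ n := by
    have := map_pow ((Over.pullback f).homMonoidHom (X := G) (M := G)) (𝟙 G) n
    simpa using this
  refine Eq.trans ?_ hz
  rw [← hwz, pw, pw, ← hmap, ← Scheme.Hom.comp_apply, ← Scheme.Hom.comp_apply, prO_naturality]

variable [IsLocallyNoetherian S]

theorem exists_uniform_bound (W : G.left.Opens) (hW : IsCompact (W : Set G.left)) :
    ∃ M : ℕ, ∀ z ∈ W, (∀ i ≤ M, pw G i z ∈ W) → ∃ c, 0 < c ∧ c ≤ M ∧ pw G c z ∈ SGA3x.neutralSet G := by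
  haveI : IsLocallyNoetherian G.left := LocallyOfFiniteType.isLocallyNoetherian G.hom
  haveI : CompactSpace W.toScheme := isCompact_iff_compactSpace.1 hW
  haveI : IsNoetherian W.toScheme := { }
  let P : ℕ → G.left → Prop := fun M z =>
    (∀ i ≤ M, pw G i z ∈ W) → ∃ c, 0 < c ∧ c ≤ M ∧ pw G c z ∈ SGA3x.neutralSet G
  have hmono : ∀ {M M' : ℕ}, M ≤ M' → ∀ {z}, P M z → P M' z := fun {M M'} h {z} hz hi => by
    obtain ⟨c, hc, hcM, hcN⟩ := hz fun i hiM => hi i (hiM.trans h)
    exact ⟨c, hc, hcM.trans h, hcN⟩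
  have key : ∀ g0 : G.left, ∃ (M : ℕ) (V : Set G.left), IsOpen V ∧ g0 ∈ V ∧ ∀ z ∈ V, g0 ⤳ z → P M z := by
    intro g0
    by_cases h : ∀ i, pw G i g0 ∈ W
    · obtain ⟨i, j, hij, h2⟩ := exists_pow_mem G g0 W hW id h
      have hc : pw G (j - i) g0 ∈ SGA3x.neutralSet G := h2 _ (Nat.sub_add_cancel hij.le)
      obtain ⟨V', hV', hVo, hg0V⟩ := mem_nhds_iff.1
        ((S3401.result G.left _).1 (indConstructible_pw G (j - i)) g0 hc)
      obtain ⟨V, hV, rfl⟩ := isOpen_induced_iff.1 hVo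
      exact ⟨j - i, V, hV, hg0V, fun z hzV hg0z _ => ⟨j - i, Nat.sub_pos_of_lt hij, le_rfl,
        hV' (a := ⟨z, specializes_iff_mem_closure.1 hg0z⟩) hzV⟩⟩
    · obtain ⟨i, hi⟩ := not_forall.1 h
      refine ⟨i, Set.univ, isOpen_univ, trivial, fun z _ hg0z hz => (hi ?_).elim⟩
      exact (hg0z.map (pw G i).continuous).mem_open W.isOpen (hz i le_rfl)
  have main : ∀ Z : TopologicalSpace.Closeds W.toScheme, ∃ M, ∀ z ∈ Z, P M (W.ι z) := by
    intro Z
    induction Z using WellFoundedLT.induction with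
    | ind Z ih =>
      by_cases hirr : IsIrreducible (Z : Set W.toScheme)
      · obtain ⟨g0, hg0⟩ := QuasiSober.sober hirr Z.isClosed
        obtain ⟨M₀, V, hV, hg0V, hMV⟩ := key (W.ι g0)
        let Z' : TopologicalSpace.Closeds W.toScheme :=
          ⟨(Z : Set W.toScheme) ∩ (W.ι ⁻¹' V)ᶜ, Z.isClosed.inter (hV.preimage W.ι.continuous).isClosed_compl⟩
        have hlt : Z' < Z := by
          refine lt_of_le_of_ne (fun z hz => hz.1) fun e => ?_
          have h1 : g0 ∈ (Z' : Set W.toScheme) := by rw [e]; exact hg0.mem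
          exact h1.2 hg0V
        obtain ⟨M₁, hM₁⟩ := ih Z' hlt
        refine ⟨max M₀ M₁, fun z hz => ?_⟩
        by_cases hzV : W.ι z ∈ V
        · exact hmono (le_max_left _ _) (hMV _ hzV ((hg0.specializes hz).map W.ι.continuous))
        · exact hmono (le_max_right _ _) (hM₁ z ⟨hz, hzV⟩)
      · rcases (Z : Set W.toScheme).eq_empty_or_nonempty with he | hne
        · exact ⟨0, fun z hz => absurd (show z ∈ (Z : Set W.toScheme) from hz) (he ▸ Set.notMem_empty z)⟩
        · have hnp : ¬ IsPreirreducible (Z : Set W.toScheme) := fun h => hirr ⟨hne, h⟩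
          rw [isPreirreducible_iff_isClosed_union_isClosed] at hnp
          push Not at hnp
          obtain ⟨A, B, hA, hB, hsub, hnA, hnB⟩ := hnp
          obtain ⟨M₁, h1⟩ := ih (Z ⊓ ⟨A, hA⟩) (lt_of_le_of_ne inf_le_left fun e => hnA fun z hz => by
            have h1 : z ∈ Z ⊓ ⟨A, hA⟩ := by rw [e]; exact hz
            exact h1.2)
          obtain ⟨M₂, h2⟩ := ih (Z ⊓ ⟨B, hB⟩) (lt_of_le_of_ne inf_le_left fun e => hnB fun z hz => by
            have h1 : z ∈ Z ⊓ ⟨B, hB⟩ := by rw [e]; exact hz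
            exact h1.2)
          refine ⟨max M₁ M₂, fun z hz => ?_⟩
          rcases hsub hz with hzA | hzB
          · exact hmono (le_max_left _ _) (h1 z ⟨hz, hzA⟩)
          · exact hmono (le_max_right _ _) (h2 z ⟨hz, hzB⟩)
  obtain ⟨M, hM⟩ := main ⊤
  exact ⟨M, fun z hz => hM ⟨z, hz⟩ trivial⟩

theorem exists_pow_mul_coprime {p : ℕ} (hp : p = 1 ∨ p.Prime) {L : ℕ} (hL : 0 < L) :
    ∃ a L', 0 < L' ∧ Nat.Coprime L' p ∧ L = L' * p ^ a := by
  rcases hp with rfl | hp
  · exact ⟨0, L, hL, Nat.coprime_one_right L, by rw [pow_zero, _root_.mul_one]⟩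
  · obtain ⟨a, L', hndvd, rfl⟩ := Nat.exists_eq_pow_mul_and_not_dvd hL.ne' p hp.ne_one
    exact ⟨a, L', Nat.pos_of_mul_pos_left hL, (hp.coprime_iff_not_dvd.2 hndvd).symm, mul_comm _ _⟩

theorem natCast_ne_zero_of_coprime (K : Type u) [Field K] {n p : ℕ} (hp : ringExpChar K = p) (hn : 0 < n)
    (hc : Nat.Coprime n p) : (n : K) ≠ 0 := by
  intro h
  rcases CharP.char_is_prime_or_zero K (ringChar K) with hq | hq
  · have h1 : ringExpChar K = ringChar K := ringExpChar_eq_of_natCast_eq_zero K hq (CharP.cast_eq_zero K _)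
    have h2 : ringChar K ∣ n := ringChar.dvd h
    exact hq.ne_one (Nat.eq_one_of_dvd_coprimes hc h2 (by rw [← hp, h1]))
  · haveI : CharP K 0 := hq ▸ ringChar.charP K
    exact hn.ne' ((CharP.cast_eq_zero_iff K 0 n).1 h |> zero_dvd_iff.1)

theorem isOpen_rho (p : ℕ) (hS : ∀ s : S, ringExpChar (S.residueField s) = p)
    (hopen : ∀ n : ℕ, 0 < n → Nat.Coprime n p → IsOpenMap (pw G n)) :
    IsOpen {x : G.left | ∃ h : ℕ, pw G (p ^ h) x ∈ SGA3x.neutralSet G} := by
  have hE : ProCons.IsIndConstructible {x : G.left | ∃ h : ℕ, pw G (p ^ h) x ∈ SGA3x.neutralSet G} := by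
    rw [Set.ofPred_exists]
    exact indConstructible_iUnion G _ fun h => indConstructible_pw G (p ^ h)
  rw [← subset_interior_iff_isOpen]
  rintro x0 ⟨h, hx⟩
  refine (S3403.result G.left _ hE x0).2 fun y0 hyx => ?_
  have hp : p = 1 ∨ p.Prime := by
    rw [← hS (G.hom x0)]
    exact (ringExpChar_cases _).imp id And.left
  obtain ⟨W, hW, V, hsV, hsub⟩ := exists_qc_nhd G (G.hom x0)
  obtain ⟨M, hM⟩ := exists_uniform_bound G W hW
  obtain ⟨a, L', hL', hcop, hL⟩ := exists_pow_mul_coprime hp (Nat.factorial_pos M)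
  have hn : (L' : S.residueField (G.hom (pw G (p ^ h) x0))) ≠ 0 :=
    natCast_ne_zero_of_coprime _ (hS _) hL' hcop
  obtain ⟨x2, hx2, hx2e⟩ := exists_mem_neutralSet_pw G L' hx hn
  let U : Set G.left := (W : Set G.left) ∩ ⋂ i ∈ Finset.range (M + 1), pw G i ⁻¹' W
  have hUo : IsOpen U := W.isOpen.inter (isOpen_biInter_finset fun i _ => W.isOpen.preimage (pw G i).continuous)
  have hs2 : G.hom x2 = G.hom x0 := by
    have e := congrArg G.hom hx2e
    rwa [hom_pw, hom_pw] at e
  have hx2U : x2 ∈ U := by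
    refine ⟨hsub ⟨hx2, show G.hom x2 ∈ V from hs2.symm ▸ hsV⟩,
      Set.mem_iInter₂.2 fun i _ => hsub ⟨pw_mem_neutralSet G hx2 i, ?_⟩⟩
    show G.hom _ ∈ V
    rw [hom_pw, hs2]; exact hsV
  obtain ⟨y2, ⟨hy2W, hy2i⟩, hy2e⟩ := (hyx.map (pw G (p ^ h)).continuous).mem_open (hopen L' hL' hcop U hUo)
    ⟨x2, hx2U, hx2e⟩
  obtain ⟨c, hc, hcM, hcN⟩ := hM y2 hy2W fun i hi =>
    Set.mem_iInter₂.1 hy2i i (Finset.mem_range.2 (Nat.lt_succ_of_le hi))
  refine ⟨h + a, ?_⟩
  have h1 : pw G M.factorial y2 ∈ SGA3x.neutralSet G := pw_mem_dvd G hcN (Nat.dvd_factorial hc hcM)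
  rw [hL, ← pw_mul, hy2e, pw_mul, ← pow_add] at h1
  exact h1

end Groth.Agent.FGA29.Tau
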