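import Groth.Agent.CAlg6.NeutralCons
import Groth.Agent.E4O.DvrCrit
import Groth.Agent.S3403
import Groth.Agent.S15543
import Groth.Agent.S3401
import Mathlib.AlgebraicGeometry.Noetherian
import Mathlib.Algebra.Group.Commutator

/-!
Powers of points of group schemes and the torsion components.
-/

set_option autoImplicit false
set_option backward.isDefEq.respectTransparency.types false
set_option linter.style.haveILetI false
universe u

open CategoryTheory CategoryTheory.Limits MonoidalCategory CartesianMonoidalCategory MonObj GrpObj AlgebraicGeometry Opposite Topology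

noncomputable section

namespace Groth.Agent.FGA29.Tau

open SGA3a

variable {S : Scheme.{u}} (G : Over S) [GrpObj G]

/-- The power maps on the underlying space. -/
abbrev pw (n : ℕ) : G.left ⟶ G.left := ((𝟙 G : G ⟶ G) ^ n).left

theorem hom_pw (n : ℕ) (x : G.left) : G.hom (pw G n x) = G.hom x := by
  rw [← Scheme.Hom.comp_apply, pw, Over.w ((𝟙 G : G ⟶ G) ^ n)]

theorem pw_mul (a b : ℕ) (x : G.left) : pw G b (pw G a x) = pw G (a * b) x := by
  have h : ((𝟙 G : G ⟶ G) ^ a) ≫ ((𝟙 G : G ⟶ G) ^ b) = (𝟙 G : G ⟶ G) ^ (a * b) := by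
    rw [MonObj.comp_pow, Category.comp_id, ← pow_mul]
  rw [pw, pw, ← Scheme.Hom.comp_apply, ← Over.comp_left, h]

section Field

variable {K : Type u} [Field K] (H : Over (Spec (CommRingCat.of K))) [GrpObj H]

/-- The point of a rational point. -/
def kpt (a : 𝟙_ (Over (Spec (CommRingCat.of K))) ⟶ H) : H.left := a.left (IsLocalRing.closedPoint K)

theorem kpt_one : kpt H (1 : 𝟙_ (Over (Spec (CommRingCat.of K))) ⟶ H) = Grp57.unitPt H := by
  have h : toUnit (𝟙_ (Over (Spec (CommRingCat.of K)))) = 𝟙 _ := toUnit_unique _ _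
  rw [kpt, Hom.one_def, h, Category.id_comp]
  rfl

/-- Rational points in one component differ by a point of the neutral component. -/
theorem div_mem (a b : 𝟙_ (Over (Spec (CommRingCat.of K))) ⟶ H)
    (h : kpt H b ∈ connectedComponent (kpt H a)) :
    kpt H (a⁻¹ * b) ∈ connectedComponent (Grp57.unitPt H) := by
  let t : H ⟶ H := (toUnit H ≫ a⁻¹) * 𝟙 H
  have ht : ∀ c : 𝟙_ (Over (Spec (CommRingCat.of K))) ⟶ H, t.left (kpt H c) = kpt H (a⁻¹ * c) := by
    intro c
    have h1 : c ≫ t = a⁻¹ * c := by
      rw [MonObj.comp_mul, Category.comp_id, ← Category.assoc, toUnit_unique (c ≫ toUnit H) (𝟙 _), Category.id_comp]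
    rw [kpt, kpt, ← h1, Over.comp_left, Scheme.Hom.comp_apply]
  rw [← ht b, ← kpt_one, ← inv_mul_cancel a, ← ht a]
  exact t.left.continuous.image_connectedComponent_subset _ ⟨_, h, rfl⟩

end Field

/-- Infinitely many points in a quasi-compact open: two of them lie in one connected component. -/
theorem exists_same_component {X : Scheme.{u}} [IsLocallyNoetherian X] (W : X.Opens) (hW : IsCompact (W : Set X))
    (p : ℕ → X) (hp : ∀ i, p i ∈ W) : ∃ i j, i < j ∧ p j ∈ connectedComponent (p i) := by
  haveI : CompactSpace W.toScheme := isCompact_iff_compactSpace.1 hW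
  haveI : IsNoetherian W.toScheme := { }
  have hfin : (irreducibleComponents W.toScheme).Finite :=
    TopologicalSpace.NoetherianSpace.finite_irreducibleComponents
  let c : ℕ → irreducibleComponents W.toScheme := fun i =>
    ⟨irreducibleComponent (⟨p i, hp i⟩ : W.toScheme), irreducibleComponent_mem_irreducibleComponents _⟩
  haveI := hfin.to_subtype
  obtain ⟨i, j, hij, hcij⟩ := Finite.exists_ne_map_eq_of_infinite c
  have key : ∀ i j, c i = c j → p j ∈ connectedComponent (p i) := by
    intro i j h
    have hirr : IsIrreducible (W.ι '' irreducibleComponent (⟨p i, hp i⟩ : W.toScheme)) :=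
      isIrreducible_irreducibleComponent.image _ W.ι.continuous.continuousOn
    refine hirr.isConnected.isPreconnected.subset_connectedComponent ⟨_, mem_irreducibleComponent, rfl⟩ ?_
    refine ⟨⟨p j, hp j⟩, ?_, rfl⟩
    exact (congrArg Subtype.val h).ge mem_irreducibleComponent
  rcases lt_or_gt_of_ne hij with hlt | hlt
  · exact ⟨i, j, hlt, key i j hcij⟩
  · exact ⟨j, i, hlt, key j i hcij.symm⟩

/-- The morphism from the residue field of a point to the base. -/
abbrev resHom (y : G.left) : Spec (CommRingCat.of (G.left.residueField y)) ⟶ S :=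
  G.left.fromSpecResidueField y ≫ G.hom

/-- The rational point given by a point. -/
def xiPt (y : G.left) :
    𝟙_ (Over (Spec (CommRingCat.of (G.left.residueField y)))) ⟶ bcO (resHom G y) G :=
  Over.homMk (pullback.lift (G.left.fromSpecResidueField y) (𝟙 _) (Category.id_comp (resHom G y)).symm)
    (pullback.lift_snd _ _ _)

theorem prO_kpt_pow (y : G.left) (n : ℕ) :
    letI : GrpObj (bcO (resHom G y) G) := bcOGrp G (resHom G y)
    prO (resHom G y) G (kpt (bcO (resHom G y) G) (xiPt G y ^ n)) = pw G n y := by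
  letI hG : GrpObj (bcO (resHom G y) G) := bcOGrp G (resHom G y)
  have hpow : ∀ n : ℕ, xiPt G y ≫ (Over.pullback (resHom G y)).map ((𝟙 G : G ⟶ G) ^ n) = xiPt G y ^ n := by
    intro n
    induction n with
    | zero => rw [pow_zero, pow_zero, Functor.map_one, MonObj.comp_one]
    | succ n ih =>
      rw [pow_succ, pow_succ, Functor.map_mul, MonObj.comp_mul, ih, CategoryTheory.Functor.map_id, Category.comp_id]
  rw [← hpow n, kpt, Over.comp_left, Scheme.Hom.comp_apply, ← Scheme.Hom.comp_apply _ (prO _ G), prO_naturality,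
    Scheme.Hom.comp_apply]
  refine congrArg (pw G n) ?_
  rw [← Scheme.Hom.comp_apply]
  show (pullback.lift _ _ _ ≫ pullback.fst G.hom (resHom G y)) _ = y
  rw [pullback.lift_fst]
  exact G.left.fromSpecResidueField_apply y _

/-- If many powers of a point lie in a quasi-compact open, a power lies in the neutral component. -/
theorem exists_pow_mem [IsLocallyNoetherian S] [LocallyOfFiniteType G.hom] (y : G.left) (W : G.left.Opens)
    (hW : IsCompact (W : Set G.left)) (e : ℕ → ℕ) (he : ∀ i, pw G (e i) y ∈ W) :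
    ∃ i j, i < j ∧ ∀ a, a + e i = e j → pw G a y ∈ SGA3x.neutralSet G := by
  let f := resHom G y
  letI hG : GrpObj (bcO f G) := bcOGrp G f
  haveI : LocallyOfFiniteType (bcO f G).hom :=
    MorphismProperty.pullback_snd (P := @LocallyOfFiniteType) _ _ ‹_›
  haveI : IsLocallyNoetherian (bcO f G).left := LocallyOfFiniteType.isLocallyNoetherian (bcO f G).hom
  haveI : QuasiCompact f := quasiCompact_of_compactSpace f
  haveI : QuasiCompact (prO f G) := MorphismProperty.pullback_fst (P := @QuasiCompact) _ _ inferInstance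
  obtain ⟨i, j, hij, hmem⟩ := exists_same_component (prO f G ⁻¹ᵁ W) ((prO f G).isCompact_preimage hW)
    (fun i => kpt (bcO f G) (xiPt G y ^ e i)) (fun i => show prO f G _ ∈ W by rw [prO_kpt_pow]; exact he i)
  refine ⟨i, j, hij, fun a ha => ?_⟩
  have h := div_mem (bcO f G) (xiPt G y ^ e i) (xiPt G y ^ e j) hmem
  rw [← ha, add_comm, pow_add, inv_mul_cancel_left] at h
  rw [← prO_kpt_pow, prO_mem_neutralSet_iff]
  exact h

/-- Differences of exponents with value in the neutral component. -/
theorem pw_mem_sub (x : G.left) {a b : ℕ} (ha : pw G a x ∈ SGA3x.neutralSet G)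
    (hb : pw G (a + b) x ∈ SGA3x.neutralSet G) : pw G b x ∈ SGA3x.neutralSet G := by
  let f := resHom G x
  letI hG : GrpObj (bcO f G) := bcOGrp G f
  rw [← prO_kpt_pow, prO_mem_neutralSet_iff] at ha hb ⊢
  have h := div_mem (bcO f G) (xiPt G x ^ a) (xiPt G x ^ (a + b)) (connectedComponent_eq ha ▸ hb)
  rwa [pow_add, inv_mul_cancel_left] at h

theorem pw_mem_neutralSet {x : G.left} (hx : x ∈ SGA3x.neutralSet G) (n : ℕ) :
    pw G n x ∈ SGA3x.neutralSet G := by
  induction n with
  | zero =>
    refine Set.mem_iUnion.2 ⟨G.hom x, ?_⟩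
    have h : pw G 0 x = η[G].left (G.hom x) := by
      rw [pw, pow_zero, Hom.one_def, Over.comp_left, Scheme.Hom.comp_apply, Over.toUnit_left]
    rw [h]
    exact mem_connectedComponentIn (show G.hom (η[G].left (G.hom x)) = G.hom x from congr($(Over.w η[G]) (G.hom x)))
  | succ n ih =>
    have h : pw G (n + 1) x = μ[G].left ((lift ((𝟙 G : G ⟶ G) ^ n) (𝟙 G)).left x) := by
      rw [pw, pow_succ, Hom.mul_def, Over.comp_left, Scheme.Hom.comp_apply]
    rw [h]
    refine CAlg6.NeutralCons.mul_mem_neutralSet G _ ?_ ?_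
    · rw [← Scheme.Hom.comp_apply, ← Over.comp_left, lift_fst]
      exact ih
    · rw [← Scheme.Hom.comp_apply, ← Over.comp_left, lift_snd]
      exact hx

theorem pw_mem_dvd {x : G.left} {a b : ℕ} (ha : pw G a x ∈ SGA3x.neutralSet G) (h : a ∣ b) :
    pw G b x ∈ SGA3x.neutralSet G := by
  obtain ⟨c, rfl⟩ := h
  rw [← pw_mul]
  exact pw_mem_neutralSet G ha c

theorem pw_mem_gcd (x : G.left) (a b : ℕ) :
    pw G a x ∈ SGA3x.neutralSet G → pw G b x ∈ SGA3x.neutralSet G →
      pw G (Nat.gcd a b) x ∈ SGA3x.neutralSet G := by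
  induction a, b using Nat.gcd.induction with
  | H0 n => intro _ h; rwa [Nat.gcd_zero_left]
  | H1 m n _ ih =>
    intro hm hn
    rw [Nat.gcd_rec]
    refine ih (pw_mem_sub G x (pw_mem_dvd G hm (dvd_mul_right m (n / m))) ?_) hm
    rwa [Nat.div_add_mod]

/-- A specialization-stable set separated by closed sets along closures is closed. -/
theorem isClosed_of_separation {X : Scheme.{u}} [IsLocallyNoetherian X] (E : Set X)
    (hspec : ∀ x y : X, x ⤳ y → x ∈ E → y ∈ E)
    (h : ∀ x, x ∉ E → ∃ C : Set X, IsClosed C ∧ x ∉ C ∧ ∀ z ∈ E, x ⤳ z → z ∈ C) : IsClosed E := by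
  have hind : ProCons.IsIndConstructible Eᶜ := by
    refine (S3401.result X _).2 fun x hx => ?_
    obtain ⟨C, hC, hxC, hsub⟩ := h x hx
    exact Filter.mem_of_superset ((hC.isOpen_compl.preimage continuous_subtype_val).mem_nhds hxC)
      fun z hz hzE => hz (hsub _ hzE (specializes_iff_mem_closure.2 z.2))
  rw [← isOpen_compl_iff, ← subset_interior_iff_isOpen]
  exact fun x hx => (S3403.result X _ hind x).2 fun y hyx hy => hx (hspec y x hyx hy)

variable [IsLocallyNoetherian S] [LocallyOfFiniteType G.hom]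

theorem indConstructible_pw (n : ℕ) : ProCons.IsIndConstructible (pw G n ⁻¹' SGA3x.neutralSet G) := by
  haveI : LocallyOfFinitePresentation G.hom := E4O.locallyOfFinitePresentation_of_isLocallyNoetherian G.hom
  exact S15543.result _ _ (CAlg6.NeutralCons.isIndConstructible G)

omit [GrpObj G] in
theorem indConstructible_iUnion {κ : Type*} (E : κ → Set G.left) (h : ∀ i, ProCons.IsIndConstructible (E i)) :
    ProCons.IsIndConstructible (⋃ i, E i) := by
  haveI : IsLocallyNoetherian G.left := LocallyOfFiniteType.isLocallyNoetherian G.hom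
  refine (S3401.result G.left _).2 fun x hx => ?_
  obtain ⟨i, hi⟩ := Set.mem_iUnion.1 hx
  exact Filter.mem_of_superset ((S3401.result G.left _).1 (h i) x hi) (Set.preimage_mono (Set.subset_iUnion E i))

/-- A quasi-compact open containing the neutral components near a point of the base. -/
theorem exists_qc_nhd (s : S) :
    ∃ W : G.left.Opens, IsCompact (W : Set G.left) ∧ ∃ V : S.Opens, s ∈ V ∧
      SGA3x.neutralSet G ∩ G.hom ⁻¹' (V : Set S) ⊆ W := by
  haveI : LocallyOfFinitePresentation G.hom := E4O.locallyOfFinitePresentation_of_isLocallyNoetherian G.hom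
  obtain ⟨V, hsV, hV, P, m, C, hP, _, _, _, hC, -⟩ := CAlg6.NeutralCons.exists_local G s
  haveI := hP
  obtain ⟨W, hW, hsub⟩ := exists_qc_open_supset (isCompact_range m.continuous)
  exact ⟨W, hW, V, hsV, fun z hz => hsub (Set.image_subset_range m C (hC.ge hz))⟩

/-- The torsion components form an open set. -/
theorem isOpen_tau : IsOpen {x : G.left | ∃ n : ℕ, 0 < n ∧ pw G n x ∈ SGA3x.neutralSet G} := by
  have hE : ProCons.IsIndConstructible {x : G.left | ∃ n : ℕ, 0 < n ∧ pw G n x ∈ SGA3x.neutralSet G} := by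
    have e : {x : G.left | ∃ n : ℕ, 0 < n ∧ pw G n x ∈ SGA3x.neutralSet G} =
        ⋃ n : {n : ℕ // 0 < n}, pw G n.1 ⁻¹' SGA3x.neutralSet G := by
      ext x
      simp [Set.mem_iUnion]
    rw [e]
    exact indConstructible_iUnion G _ fun n => indConstructible_pw G n.1
  rw [← subset_interior_iff_isOpen]
  rintro x ⟨n, hn, hx⟩
  refine (S3403.result G.left _ hE x).2 fun y hyx => ?_
  obtain ⟨W, hW, V, hsV, hsub⟩ := exists_qc_nhd G (G.hom x)
  have he : ∀ i, pw G (n * (i + 1)) y ∈ W := by
    intro i
    have h1 : pw G (n * (i + 1)) x ∈ W := by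
      refine hsub ⟨?_, ?_⟩
      · rw [← pw_mul]
        exact pw_mem_neutralSet G hx _
      · show G.hom _ ∈ V
        rw [hom_pw]; exact hsV
    exact (hyx.map (pw G (n * (i + 1))).continuous).mem_open W.isOpen h1
  obtain ⟨i, j, hij, h⟩ := exists_pow_mem G y W hW (fun i => n * (i + 1)) he
  exact ⟨n * (j - i), Nat.mul_pos hn (by omega), h _ (by rw [← Nat.mul_add]; congr 1; omega)⟩

end Groth.Agent.FGA29.Tau
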