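import Groth.Agent.FGA29.TauSet
import Groth.Agent.CAlg6.NeutralDim
import Groth.Agent.S3399

/-!
Universal openness of the prime-to-p torsion components at the neutral components.
-/

set_option autoImplicit false
set_option backward.isDefEq.respectTransparency.types false
set_option linter.style.haveILetI false
universe u

open CategoryTheory CategoryTheory.Limits MonoidalCategory CartesianMonoidalCategory MonObj GrpObj AlgebraicGeometry Opposite Topology

noncomputable section

namespace Groth.Agent.FGA29.Tau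

open SGA3a

variable {S : Scheme.{u}} (G : Over S) [GrpObj G] [IsLocallyNoetherian S] [LocallyOfFiniteType G.hom]

theorem image_inter_neutralSet_mem_nhds
    (hopen : ∀ (S' : Scheme.{u}) (g : S' ⟶ S) (x' : ↥(Red.bc g G).left), x' ∈ SGA3x.neutralSet (Red.bc g G) →
      ∀ U : Set ↥(Red.bc g G).left, IsOpen U → x' ∈ U →
        (Red.bc g G).hom.base '' U ∈ nhds ((Red.bc g G).hom.base x'))
    (S' : Scheme.{u}) (g : S' ⟶ S) (x' : ↥(Red.bc g G).left) (hx' : x' ∈ SGA3x.neutralSet (Red.bc g G))
    (U : (Red.bc g G).left.Opens) (hxU : x' ∈ U) :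
    (Red.bc g G).hom.base '' ((U : Set (Red.bc g G).left) ∩ SGA3x.neutralSet (Red.bc g G)) ∈
      nhds ((Red.bc g G).hom.base x') := by
  haveI : LocallyOfFinitePresentation G.hom := E4O.locallyOfFinitePresentation_of_isLocallyNoetherian G.hom
  haveI : LocallyOfFinitePresentation (Red.bc g G).hom :=
    MorphismProperty.pullback_snd (P := @LocallyOfFinitePresentation) _ _ inferInstance
  have hsq : IsPullback (pullback.fst G.hom g) (Red.bc g G).hom G.hom g := IsPullback.of_hasPullback _ _
  have hu : ∀ x ∈ SGA3x.neutralSet G, EGA43.IsUnivOpenAt G.hom x := by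
    intro x hx Y h a ha U hU
    obtain ⟨O, hOU, hO, haO⟩ := mem_nhds_iff.1 hU
    have haN : a ∈ SGA3x.neutralSet (Red.bc h G) := (neutralSet_bc G h).ge (show (pullback.fst G.hom h) a ∈ SGA3x.neutralSet G from ha.symm ▸ hx)
    exact Filter.mem_of_superset (hopen Y h a haN O hO haO) (Set.image_mono hOU)
  have hdim : ∀ s : S', topologicalKrullDim ↥((Red.bc g G).hom.base ⁻¹' {s}) =
      topologicalKrullDim ↥(G.hom.base ⁻¹' {g s}) := by
    intro s
    rw [← CAlg6.NeutralDim.fibreDimAt_unit, ← CAlg6.NeutralDim.fibreDimAt_unit,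
      FibDim94.fibreDimAt_eq_of_isPullback hsq]
    refine congrArg _ ?_
    rw [← Scheme.Hom.comp_apply, ← Scheme.Hom.comp_apply]
    exact congr($(prO_unit G g) s)
  have hind : ProCons.IsIndConstructible
      ((Red.bc g G).hom.base '' ((U : Set (Red.bc g G).left) ∩ SGA3x.neutralSet (Red.bc g G))) := by
    have e : (Red.bc g G).hom.base '' ((U : Set (Red.bc g G).left) ∩ SGA3x.neutralSet (Red.bc g G)) =
        (U.ι ≫ (Red.bc g G).hom).base '' (U.ι.base ⁻¹' SGA3x.neutralSet (Red.bc g G)) := by
      rw [Scheme.Hom.comp_base, TopCat.coe_comp, Set.image_comp, Set.image_preimage_eq_inter_range]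
      rw [show Set.range U.ι.base = (U : Set (Red.bc g G).left) from U.range_ι, Set.inter_comm]
    rw [e]
    exact S3399.result _ _ (S15543.result _ _ (CAlg6.NeutralCons.isIndConstructible (Red.bc g G)))
  refine mem_interior_iff_mem_nhds.1 ((S3403.result S' _ hind _).2 fun z hz => ?_)
  have hd : topologicalKrullDim ↥((Red.bc g G).hom.base ⁻¹' {(Red.bc g G).hom x'}) ≤
      topologicalKrullDim ↥((Red.bc g G).hom.base ⁻¹' {z}) := by
    rw [hdim, hdim]
    exact CAlg6.NeutralDim.dim_ge_of_isUnivOpenAt G (W := ⊤) trivial (fun x hx _ => hu x hx.1)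
      (hz.map g.continuous)
  obtain ⟨w, hwN, hwx, hwz⟩ := CAlg6.NeutralDim.exists_generisation (Red.bc g G) hx' hz hd
  exact ⟨w, ⟨hwx.mem_open U.isOpen hxU, hwN⟩, hwz⟩

end Groth.Agent.FGA29.Tau
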